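import Groth.Agent.H3CAlg.HilbertBurch
import Mathlib.RingTheory.Flat.Equalizer
import Mathlib.RingTheory.Flat.Tensor
import Mathlib.RingTheory.FiniteType
import Mathlib.LinearAlgebra.TensorProduct.Quotient
import Mathlib.RingTheory.Nakayama

/-! Lifting Hilbert–Burch resolutions along nilpotent thickenings. -/

set_option autoImplicit false
set_option linter.style.haveILetI false

universe u

open TensorProduct

namespace Groth.Agent.H24Def

open Groth.Agent.H3CAlg (McCoy.annihilator_of_injective)

variable {C : Type u} [CommRing C]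

/-- The kernel of a surjection between flat modules is flat. -/
theorem flat_ker {M P : Type u} [AddCommGroup M] [Module C M] [AddCommGroup P] [Module C P] [Module.Flat C M]
    [Module.Flat C P] (p : M →ₗ[C] P) (hp : Function.Surjective p) : Module.Flat C (LinearMap.ker p) := by
  refine Module.Flat.iff_rTensor_injective'.mpr fun I => ?_
  have h1 : Function.Injective ((LinearMap.ker p).subtype.lTensor I) :=
    LinearMap.lTensor_injective_of_exact_of_flat p hp _ (Submodule.injective_subtype _)
      (LinearMap.exact_subtype_ker_map p) I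
  have h2 := Module.Flat.rTensor_preserves_injective_linearMap (M := M) I.subtype I.subtype_injective
  refine Function.Injective.of_comp (f := (LinearMap.ker p).subtype.lTensor C) ?_
  rw [← LinearMap.coe_comp, LinearMap.lTensor_comp_rTensor, ← LinearMap.rTensor_comp_lTensor,
    LinearMap.coe_comp]
  exact h2.comp h1

variable {A : Type u} [CommRing A] [Algebra C A]

theorem smul_top_eq_restrictScalars {M : Type u} [AddCommGroup M] [Module A M] [Module C M] [IsScalarTower C A M]
    (J : Ideal C) :
    J • (⊤ : Submodule C M) = ((J.map (algebraMap C A)) • (⊤ : Submodule A M)).restrictScalars C := by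
  rw [Ideal.smul_restrictScalars, Submodule.restrictScalars_top]

/-- If `M → P → 0` has flat target, then `ker ∩ J M = J ker`. -/
theorem mem_smul_ker {M P : Type u} [AddCommGroup M] [Module A M] [Module C M] [IsScalarTower C A M]
    [AddCommGroup P] [Module A P] [Module C P] [IsScalarTower C A P] [Module.Flat C P] (J : Ideal C)
    (p : M →ₗ[A] P) (hp : Function.Surjective p) {x : M}
    (hx : x ∈ (J.map (algebraMap C A)) • (⊤ : Submodule A M)) (hx0 : p x = 0) :
    x ∈ (J.map (algebraMap C A)) • LinearMap.ker p := by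
  let p' := p.restrictScalars C
  let N := LinearMap.ker p'
  have hinj : Function.Injective (N.subtype.lTensor (C ⧸ J)) :=
    LinearMap.lTensor_injective_of_exact_of_flat p' hp _ (Submodule.injective_subtype _)
      (LinearMap.exact_subtype_ker_map p') (C ⧸ J)
  have key : ∀ (M' : Type u) [AddCommGroup M'] [Module C M'] (y : M'),
      y ∈ J • (⊤ : Submodule C M') ↔ (1 : C ⧸ J) ⊗ₜ[C] y = 0 := by
    intro M' _ _ y
    have h1 : TensorProduct.quotTensorEquivQuotSMul M' J ((1 : C ⧸ J) ⊗ₜ[C] y) = Submodule.Quotient.mk y := by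
      change TensorProduct.quotTensorEquivQuotSMul M' J ((Ideal.Quotient.mk J 1) ⊗ₜ[C] y) = _
      rw [TensorProduct.quotTensorEquivQuotSMul_mk_tmul, one_smul]
    rw [← (TensorProduct.quotTensorEquivQuotSMul M' J).map_eq_zero_iff, h1, Submodule.Quotient.mk_eq_zero]
  have hxN : x ∈ N := hx0
  have hy : (⟨x, hxN⟩ : N) ∈ J • (⊤ : Submodule C N) := by
    rw [key]
    apply hinj
    rw [LinearMap.lTensor_tmul, map_zero]
    refine (key M x).mp ?_
    rw [smul_top_eq_restrictScalars (A := A)]
    exact hx
  refine Submodule.smul_induction_on (p := fun y : N => (y : M) ∈ (J.map (algebraMap C A)) • LinearMap.ker p) hy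
    (fun r hr n _ => ?_) (fun a b ha hb => add_mem ha hb)
  show r • (n : M) ∈ _
  rw [← algebraMap_smul A r (n : M)]
  exact Submodule.smul_mem_smul (Ideal.mem_map_of_mem _ hr) n.2

/-- Nakayama for a nilpotent ideal. -/
theorem le_of_le_sup_smul {M : Type u} [AddCommGroup M] [Module A M] {K : Ideal A} (hK : IsNilpotent K)
    {N P : Submodule A M} (h : N ≤ P ⊔ K • N) : N ≤ P := by
  obtain ⟨n, hn⟩ := hK
  have : ∀ i, N ≤ P ⊔ K ^ i • N := by
    intro i
    induction i with
    | zero => rw [pow_zero, Submodule.one_smul]; exact le_sup_right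
    | succ i ih =>
      refine ih.trans (sup_le le_sup_left ?_)
      refine (Submodule.smul_mono le_rfl h).trans ?_
      rw [Submodule.smul_sup, ← Submodule.mul_smul, ← pow_succ]
      exact sup_le_sup_right Submodule.smul_le_right _
  have h2 := this n
  rwa [hn, Ideal.zero_eq_bot, Submodule.bot_smul, sup_bot_eq] at h2

theorem mem_smul_top_pi_iff {n : ℕ} (K : Ideal A) (v : Fin n → A) :
    v ∈ K • (⊤ : Submodule A (Fin n → A)) ↔ ∀ i, v i ∈ K := by
  classical
  refine ⟨fun hv i => ?_, fun hv => ?_⟩
  · refine Submodule.smul_induction_on (p := fun w : Fin n → A => w i ∈ K) hv (fun r hr w _ => ?_)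
      (fun a b ha hb => add_mem ha hb)
    exact K.mul_mem_right _ hr
  · rw [pi_eq_sum_univ' v]
    exact Submodule.sum_mem _ fun i _ => Submodule.smul_mem_smul (hv i) trivial

open Groth.Agent.H3CAlg.HilbertBurch in
/-- Lifting of a Hilbert–Burch resolution to a flat lift of the ideal. -/
theorem exists_lift_resolution (J : Ideal C) (hJ : IsNilpotent J) [Module.Flat C A] [IsNoetherianRing A]
    (I : Ideal A) [Module.Flat C (A ⧸ I)] {r : ℕ}
    (φb : Matrix (Fin (r + 1)) (Fin r) (A ⧸ J.map (algebraMap C A)))
    (hspan : Ideal.span (Set.range (cof φb)) = I.map (Ideal.Quotient.mk (J.map (algebraMap C A))))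
    (hinj : Function.Injective φb.mulVecLin)
    (hex : LinearMap.range φb.mulVecLin =
      LinearMap.ker (Fintype.linearCombination (A ⧸ J.map (algebraMap C A)) (cof φb))) :
    ∃ φ : Matrix (Fin (r + 1)) (Fin r) A, φ.map (Ideal.Quotient.mk (J.map (algebraMap C A))) = φb ∧
      Ideal.span (Set.range (cof φ)) = I ∧ Function.Injective φ.mulVecLin ∧
      LinearMap.range φ.mulVecLin = LinearMap.ker (Fintype.linearCombination A (cof φ)) := by
  classical
  let K : Ideal A := J.map (algebraMap C A)
  have hKdef : K = J.map (algebraMap C A) := rfl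
  have hK : IsNilpotent K := by
    obtain ⟨n, hn⟩ := hJ
    exact ⟨n, by rw [hKdef, ← Ideal.map_pow, hn, Ideal.zero_eq_bot, Ideal.map_bot]; rfl⟩
  let q : A →+* A ⧸ K := Ideal.Quotient.mk K
  have hKI : ∀ x ∈ I, x ∈ K → x ∈ K • (I : Submodule A A) := fun x hx hxK => by
    have h1 := mem_smul_ker J (Submodule.mkQ (I : Submodule A A)) (Submodule.mkQ_surjective _) (x := x)
      (by rw [← hKdef, smul_eq_mul, Ideal.mul_top]; exact hxK) ((Submodule.Quotient.mk_eq_zero _).mpr hx)
    rwa [Submodule.ker_mkQ] at h1
  -- lifts of the generators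
  have hg : ∀ i, ∃ g ∈ I, q g = cof φb i := fun i => by
    have : cof φb i ∈ I.map q := hspan ▸ Ideal.subset_span ⟨i, rfl⟩
    exact (Ideal.mem_map_iff_of_surjective q Ideal.Quotient.mk_surjective).mp this
  choose g hgI hgq using hg
  have hgspan : Ideal.span (Set.range g) = I := by
    refine le_antisymm (Ideal.span_le.mpr (Set.range_subset_iff.mpr hgI)) (le_of_le_sup_smul hK fun x hx => ?_)
    have hqx : q x ∈ (Ideal.span (Set.range g)).map q := by
      rw [Ideal.map_span, ← Set.range_comp, show q ∘ g = cof φb from funext hgq, hspan]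
      exact Ideal.mem_map_of_mem q hx
    obtain ⟨y, hy, hyx⟩ := (Ideal.mem_map_iff_of_surjective q Ideal.Quotient.mk_surjective).mp hqx
    refine Submodule.mem_sup.mpr ⟨y, hy, x - y, hKI _ (sub_mem hx ?_) (Ideal.Quotient.eq.mp hyx.symm),
      add_sub_cancel y x⟩
    exact Ideal.span_le.mpr (Set.range_subset_iff.mpr hgI) hy
  let π : (Fin (r + 1) → A) →ₗ[A] A := Fintype.linearCombination A g
  have hπ : ∀ v, π v = ∑ i, v i * g i := fun v => by simp [π, Fintype.linearCombination_apply]
  have hπrange : LinearMap.range π = I := by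
    rw [Fintype.range_linearCombination]; exact hgspan
  have hπq : ∀ v, q (π v) = ∑ i, q (v i) * cof φb i := fun v => by simp [hπ, map_sum, hgq]
  -- lifts of the relations
  have hcol : ∀ j : Fin r, ∃ v : Fin (r + 1) → A, π v = 0 ∧ ∀ i, q (v i) = φb i j := fun j => by
    choose v hv using fun i => Ideal.Quotient.mk_surjective (φb i j)
    have h0 : q (π v) = 0 := by
      rw [hπq]
      refine (Finset.sum_congr rfl fun i _ => ?_).trans (cof_mul_eq_zero φb j)
      rw [mul_comm]
      exact congrArg (cof φb i * ·) (hv i)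
    have h1 : π v ∈ K • LinearMap.range π := hπrange.symm ▸
      hKI _ (hπrange ▸ LinearMap.mem_range_self π v) (Ideal.Quotient.eq_zero_iff_mem.mp h0)
    rw [LinearMap.range_eq_map, ← Submodule.map_smul''] at h1
    obtain ⟨w, hw, hwv⟩ := h1
    refine ⟨v - w, by rw [map_sub, hwv, sub_self], fun i => ?_⟩
    rw [Pi.sub_apply, map_sub, Ideal.Quotient.eq_zero_iff_mem.mpr ((mem_smul_top_pi_iff K w).mp hw i), sub_zero]
    exact hv i
  choose col hcol0 hcolq using hcol
  let φ : Matrix (Fin (r + 1)) (Fin r) A := Matrix.of fun i j => col j i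
  have hφq : φ.map q = φb := Matrix.ext fun i j => hcolq j i
  have hπφ : ∀ a, π (φ.mulVecLin a) = 0 := fun a => by
    have hcol' : ∀ j, φ.mulVecLin (Pi.single j 1) = col j := fun j => funext fun i => by
      simp [φ, Matrix.mulVecLin_apply, Matrix.mulVec_single_one]
    rw [pi_eq_sum_univ' a, map_sum, map_sum]
    refine Finset.sum_eq_zero fun j _ => ?_
    rw [map_smul, map_smul, hcol', hcol0, smul_zero]
  have hqmul : ∀ a i, q (φ.mulVecLin a i) = φb.mulVecLin (fun j => q (a j)) i := fun a i => by
    rw [← hφq]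
    simp [Matrix.mulVecLin_apply, Matrix.mulVec, dotProduct, map_sum]
  -- flatness of the relation module
  let π' : (Fin (r + 1) → A) →ₗ[A] I := π.codRestrict I fun v => hπrange ▸ LinearMap.mem_range_self π v
  have hπ's : Function.Surjective π' := fun ⟨x, hx⟩ => by
    obtain ⟨v, hv⟩ := (hπrange.symm ▸ hx : x ∈ LinearMap.range π)
    exact ⟨v, Subtype.ext hv⟩
  haveI : Module.Flat C (Fin (r + 1) → A) :=
    Module.Flat.of_linearEquiv (TensorProduct.piScalarRight C C A (Fin (r + 1))).symm
  haveI : Module.Flat C I := by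
    haveI := flat_ker ((Submodule.mkQ (I : Submodule A A)).restrictScalars C) (Submodule.mkQ_surjective _)
    exact Module.Flat.of_linearEquiv (LinearEquiv.ofEq _ _ (by rw [LinearMap.ker_restrictScalars, Submodule.ker_mkQ])
      : ↥((I : Submodule A A).restrictScalars C) ≃ₗ[C] LinearMap.ker ((Submodule.mkQ (I : Submodule A A)).restrictScalars C))
  have hkerπ : LinearMap.ker π' = LinearMap.ker π := LinearMap.ker_codRestrict _ _ _
  have hrange : LinearMap.range φ.mulVecLin = LinearMap.ker π := by
    refine le_antisymm (fun v ⟨a, ha⟩ => ha ▸ hπφ a) (le_of_le_sup_smul hK fun v hv => ?_)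
    have h1 : (fun i => q (v i)) ∈ LinearMap.range φb.mulVecLin := by
      rw [hex, LinearMap.mem_ker, Fintype.linearCombination_apply]
      have := hπq v
      rw [LinearMap.mem_ker.mp hv, map_zero] at this
      simpa [smul_eq_mul] using this.symm
    obtain ⟨ab, hab⟩ := h1
    choose a ha using fun j => Ideal.Quotient.mk_surjective (ab j)
    refine Submodule.mem_sup.mpr ⟨_, LinearMap.mem_range_self _ a, v - φ.mulVecLin a, ?_, add_sub_cancel _ _⟩
    have hw : v - φ.mulVecLin a ∈ K • (⊤ : Submodule A (Fin (r + 1) → A)) := (mem_smul_top_pi_iff K _).mpr fun i => by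
      rw [Pi.sub_apply]
      refine Ideal.Quotient.eq.mp ?_
      show q (v i) = q _
      rw [hqmul, show (fun j => q (a j)) = ab from funext ha, hab]
    have := mem_smul_ker J π' hπ's (x := v - φ.mulVecLin a) hw
      (Subtype.ext (show π (v - φ.mulVecLin a) = 0 by rw [map_sub, LinearMap.mem_ker.mp hv, hπφ, sub_zero]))
    rwa [hkerπ] at this
  haveI : Module.Flat C (LinearMap.ker π) := by
    haveI := flat_ker (π'.restrictScalars C) hπ's
    exact Module.Flat.of_linearEquiv (LinearEquiv.ofEq _ _ (by rw [LinearMap.ker_restrictScalars, hkerπ])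
      : ↥((LinearMap.ker π).restrictScalars C) ≃ₗ[C] LinearMap.ker (π'.restrictScalars C))
  have hφinj : Function.Injective φ.mulVecLin := by
    rw [← LinearMap.ker_eq_bot, eq_bot_iff]
    let ψ : (Fin r → A) →ₗ[A] LinearMap.ker π := φ.mulVecLin.codRestrict _ hπφ
    have hψs : Function.Surjective ψ := fun ⟨v, hv⟩ => by
      obtain ⟨a, ha⟩ := (hrange.symm ▸ hv : v ∈ LinearMap.range φ.mulVecLin)
      exact ⟨a, Subtype.ext ha⟩
    refine le_of_le_sup_smul hK fun a ha => Submodule.mem_sup_right ?_
    have h0 : (fun j => q (a j)) = (0 : Fin r → A ⧸ K) := hinj (by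
      rw [map_zero]
      exact funext fun i => by rw [← hqmul, LinearMap.mem_ker.mp ha]; simp)
    have := mem_smul_ker J ψ hψs (x := a)
      ((mem_smul_top_pi_iff K a).mpr fun j => Ideal.Quotient.eq_zero_iff_mem.mp (congrFun h0 j))
      (Subtype.ext (LinearMap.mem_ker.mp ha))
    rwa [LinearMap.ker_codRestrict] at this
  -- the minors
  have hmap : (CAlgX.minorIdeal φ r).map q = I.map q := by
    rw [map_minorIdeal, hφq, ← span_cof, hspan]
  have hannb : (I.map q).annihilator = ⊥ := by
    rw [← hspan, span_cof]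
    exact McCoy.annihilator_of_injective φb hinj
  have hFI : CAlgX.minorIdeal φ r = I := by
    by_cases hI0 : I = ⊥
    · have hsub : Subsingleton A := by
        rw [hI0, Ideal.map_bot, Submodule.annihilator_bot] at hannb
        have h1 : (1 : A ⧸ K) = 0 := (Submodule.mem_bot _).mp (hannb ▸ Submodule.mem_top)
        have h2 : K = ⊤ := (Ideal.eq_top_iff_one K).mpr (Ideal.Quotient.eq_zero_iff_mem.mp h1)
        obtain ⟨n, hn⟩ := hK
        rw [h2, Ideal.top_pow, Ideal.zero_eq_bot] at hn
        exact subsingleton_of_forall_eq 0 fun x => (Submodule.mem_bot A).mp (hn ▸ Submodule.mem_top)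
      exact Subsingleton.elim _ _
    obtain ⟨-, ⟨a, -, ha⟩, -⟩ := of_resolution φ π (LinearMap.ker_eq_bot.mpr hφinj) hrange.symm
      (hπrange.symm ▸ hI0)
    rw [hπrange] at ha
    have hau : IsUnit a := by
      have h1 : I.map q = Ideal.span {q a} * I.map q := by
        conv_lhs => rw [ha]
        rw [Ideal.map_mul, Ideal.map_span, Set.image_singleton, hmap]
      obtain ⟨e, he, he0⟩ := Submodule.exists_mem_and_smul_eq_self_of_fg_of_le_smul (Ideal.span {q a}) (I.map q)
        (IsNoetherian.noetherian _) h1.le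
      obtain ⟨c, rfl⟩ := Ideal.mem_span_singleton'.mp he
      have h2 : c * q a - 1 ∈ (I.map q).annihilator := Submodule.mem_annihilator.mpr fun n hn => by
        rw [sub_smul, one_smul, he0 n hn, sub_self]
      rw [hannb, Submodule.mem_bot, sub_eq_zero] at h2
      obtain ⟨c, rfl⟩ := Ideal.Quotient.mk_surjective c
      obtain ⟨n, hn⟩ := hK
      have h3 : IsNilpotent (c * a - 1) := ⟨n, by
        have := Ideal.pow_mem_pow (Ideal.Quotient.eq.mp ((map_mul q c a).trans h2 |>.trans (map_one q).symm)) n
        rwa [hn] at this⟩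
      have h4 : IsUnit (c * a) := by simpa using h3.isUnit_one_add
      exact isUnit_of_mul_isUnit_right h4
    rw [Ideal.span_singleton_eq_top.mpr hau, Ideal.top_mul] at ha
    exact ha.symm
  refine ⟨φ, hφq, by rw [span_cof, hFI], hφinj, ?_⟩
  have hle : LinearMap.range φ.mulVecLin ≤ LinearMap.ker (Fintype.linearCombination A (cof φ)) := by
    rintro _ ⟨a, rfl⟩
    rw [LinearMap.mem_ker, Fintype.linearCombination_apply]
    simpa [smul_eq_mul, mul_comm] using cof_dotProduct_mulVec φ a
  refine le_antisymm hle fun v hv => ?_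
  have hv' : ∑ i, cof φ i * v i = 0 := by
    simpa [Fintype.linearCombination_apply, smul_eq_mul, mul_comm] using hv
  rw [hrange, LinearMap.mem_ker]
  refine (Submodule.mem_bot A).mp ((McCoy.annihilator_of_injective φ hφinj) ▸ Submodule.mem_annihilator.mpr fun z hz => ?_)
  rw [← span_cof] at hz
  refine Submodule.span_induction (p := fun z _ => π v • z = 0) ?_ (smul_zero _)
    (fun x y _ _ hx hy => by rw [smul_add, hx, hy, add_zero]) (fun c x _ hx => by rw [smul_comm, hx, smul_zero]) hz
  rintro _ ⟨i, rfl⟩
  obtain ⟨a, ha⟩ := cof_smul_mem_range φ v hv' i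
  rw [smul_eq_mul, mul_comm, ← smul_eq_mul, ← map_smul, ← ha, hπφ]

end Groth.Agent.H24Def
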