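import Groth.Agent.H1CAlg.Serre
import Groth.Agent.H3CAlg.ArtinFlat
import Groth.Agent.H7Flat.InjectiveModMax
import Groth.Agent.H24Def.BurchLift
import Mathlib.AlgebraicGeometry.AffineScheme
import Mathlib.RingTheory.Ideal.Height

/-! Hartogs for affine schemes: restriction to an open with complement of grade two. -/

set_option autoImplicit false
set_option linter.style.haveILetI false

universe u

open AlgebraicGeometry CategoryTheory TopologicalSpace Opposite

namespace Groth.Agent.H24Def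

section Algebra

variable {R : Type u} [CommRing R]

theorem dvd_of_dvd_mul_pow {x y : R} (hx : IsRegular x) (hy : ∀ z, x ∣ y * z → x ∣ z) (N M : ℕ) (a : R)
    (h : x ^ N ∣ y ^ M * a) : x ^ N ∣ a := by
  have hyM : ∀ M z, x ∣ y ^ M * z → x ∣ z := by
    intro M
    induction M with
    | zero => intro z hz; simpa using hz
    | succ M ih => intro z hz; exact hy z (ih _ (by rwa [← mul_assoc, ← pow_succ]))
  induction N generalizing a with
  | zero => simp
  | succ N ih =>
    obtain ⟨a', rfl⟩ : x ∣ a := hyM M a ((dvd_pow_self x N.succ_ne_zero).trans h)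
    rw [pow_succ', mul_left_comm] at h
    obtain ⟨c, hc⟩ := h
    rw [mul_assoc] at hc
    rw [pow_succ']
    exact mul_dvd_mul_left x (ih a' ⟨c, hx.left hc⟩)

/-- A normal Noetherian ring has grade two at ideals of height two. -/
theorem exists_regular_pair [IsNoetherianRing R]
    (hn : ∀ (p : Ideal R) [p.IsPrime], IsDomain (Localization.AtPrime p) ∧ IsIntegrallyClosed (Localization.AtPrime p))
    (I : Ideal R) (hI : ∀ (p : Ideal R) [p.IsPrime], I ≤ p → (2 : ℕ∞) ≤ p.height) :
    ∃ x ∈ I, ∃ y ∈ I, IsRegular x ∧ ∀ z, x ∣ y * z → x ∣ z := by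
  classical
  obtain ⟨hR1, hS2⟩ := Groth.Agent.H1CAlg.normal_iff_R1_S2.mp hn
  have hred : IsReduced R := Groth.Agent.H1CAlg.isReduced_iff_R0_S1.mpr
    ⟨fun q hq hh => hR1 q (hh.trans (by norm_num)), H4Depth.hasSk_mono (by norm_num) hS2⟩
  have hmin : ∀ q ∈ associatedPrimes R R, q ∈ minimalPrimes R :=
    Groth.Agent.H1CAlg.hasSk_one_self_iff.mp (H4Depth.hasSk_mono (by norm_num) hS2)
  have avoid : ∀ (S : Set (Ideal R)), S.Finite → (∀ q ∈ S, q.IsPrime ∧ q.height ≤ 1) → ∃ z ∈ I, ∀ q ∈ S, z ∉ q := by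
    intro S hS h
    by_contra! hc
    obtain ⟨q, hq, hle⟩ := (Ideal.subset_union_prime (s := hS.toFinset) (f := id) ⊤ ⊤
      (fun i hi _ _ => (h i (hS.mem_toFinset.mp hi)).1) (I := I)).mp (fun z hz => by
        obtain ⟨q, hq, hzq⟩ := hc z hz
        exact Set.mem_biUnion (hS.mem_toFinset.mpr hq) hzq)
    haveI := (h q (hS.mem_toFinset.mp hq)).1
    have := (hI q hle).trans (h q (hS.mem_toFinset.mp hq)).2
    exact absurd this (by decide)
  obtain ⟨x, hxI, hx⟩ := avoid (associatedPrimes R R) (associatedPrimes.finite R R) fun q hq =>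
    ⟨hq.isPrime, by haveI := hq.isPrime; rw [Ideal.height_eq_zero_iff.mpr (hmin q hq)]; exact bot_le⟩
  have hxreg : IsRegular x := by
    refine isRightRegular_iff_isRegular.mp (isRightRegular_of_non_zero_divisor x fun z hz => ?_)
    by_contra hz0
    obtain ⟨q, hq, hle⟩ := exists_le_isAssociatedPrime_of_isNoetherianRing R z hz0
    exact hx q hq (hle (by rw [Submodule.mem_colon_singleton, smul_eq_mul, Submodule.mem_bot, mul_comm]; exact hz))
  have hass : ∀ q ∈ associatedPrimes R (R ⧸ Ideal.span {x}), q.IsPrime ∧ q.height ≤ 1 := by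
    intro q hq
    refine ⟨hq.isPrime, ?_⟩
    by_contra hht
    obtain ⟨hqp, m, hm⟩ := isAssociatedPrime_iff.mp hq
    obtain ⟨a, rfl⟩ := Ideal.Quotient.mk_surjective m
    have hann : ∀ s, x ∣ s * a ↔ s ∈ q := fun s => by
      rw [hm, Submodule.mem_colon_singleton, Submodule.mem_bot, ← Ideal.mem_span_singleton,
        ← Ideal.Quotient.eq_zero_iff_mem, map_mul, Algebra.smul_def, Ideal.Quotient.algebraMap_eq]
    obtain ⟨s, hs, hdvd⟩ := Groth.Agent.H1CAlg.exists_dvd_of_height_le_one hS2 q a x (fun q' hq' _ => hx q' hq')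
      (fun q' hq' hle hh => by
        obtain ⟨s, hsq, hsq'⟩ := SetLike.not_le_iff_exists.mp
          (fun hqq : q ≤ q' => hht (le_antisymm hqq hle ▸ hh))
        exact ⟨s, hsq', (hann s).mpr hsq⟩)
    exact hs ((hann s).mp hdvd)
  obtain ⟨y, hyI, hy⟩ := avoid _ (associatedPrimes.finite R (R ⧸ Ideal.span {x})) hass
  refine ⟨x, hxI, y, hyI, hxreg, fun z hz => ?_⟩
  by_contra hzx
  have hne : (Ideal.Quotient.mk (Ideal.span {x}) z : R ⧸ Ideal.span {x}) ≠ 0 := fun h0 =>
    hzx (Ideal.mem_span_singleton.mp (Ideal.Quotient.eq_zero_iff_mem.mp h0))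
  obtain ⟨q, hq, hle⟩ := exists_le_isAssociatedPrime_of_isNoetherianRing R _ hne
  refine hy q hq (hle ?_)
  rw [Submodule.mem_colon_singleton, Submodule.mem_bot, Algebra.smul_def, Ideal.Quotient.algebraMap_eq, ← map_mul]
  exact Ideal.Quotient.eq_zero_iff_mem.mpr (Ideal.mem_span_singleton.mpr hz)

variable [IsLocalRing R] [IsArtinianRing R]

/-- A map into a flat module which is injective modulo the maximal ideal is injective, with flat cokernel. -/
theorem injective_and_flat_quotient_artinian {M N : Type u} [AddCommGroup M] [Module R M] [AddCommGroup N]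
    [Module R N] [Module.Flat R N] (h : M →ₗ[R] N)
    (hh : ∀ x, h x ∈ IsLocalRing.maximalIdeal R • (⊤ : Submodule R N) →
      x ∈ IsLocalRing.maximalIdeal R • (⊤ : Submodule R M)) :
    Function.Injective h ∧ Module.Flat R (N ⧸ LinearMap.range h) := by
  obtain ⟨⟨ρ, hρ⟩, hM⟩ := Groth.Agent.H3CAlg.exists_leftInverse_and_flat h
    (Groth.Agent.H7Flat.lTensor_residueField_injective h hh)
  have hρ' : ∀ x, ρ (h x) = x := fun x => LinearMap.congr_fun hρ x
  refine ⟨Function.LeftInverse.injective hρ', ?_⟩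
  haveI := hM
  haveI : Module.Flat R (LinearMap.ker ρ) := flat_ker ρ (fun x => ⟨h x, hρ' x⟩)
  let pr : N →ₗ[R] LinearMap.ker ρ := LinearMap.codRestrict _ (LinearMap.id - h ∘ₗ ρ) fun x => by simp [hρ']
  refine Module.Flat.of_linearEquiv ((Submodule.quotEquivOfEq _ (LinearMap.ker pr) ?_).trans
    (pr.quotKerEquivOfSurjective fun ⟨y, hy⟩ => ⟨y, Subtype.ext (by simp [pr, LinearMap.mem_ker.mp hy])⟩))
  ext x
  rw [LinearMap.mem_ker, ← Subtype.coe_inj, Submodule.coe_zero]
  simp only [pr, LinearMap.codRestrict_apply, LinearMap.sub_apply, LinearMap.id_apply, LinearMap.comp_apply, sub_eq_zero]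
  exact ⟨fun ⟨y, hy⟩ => by rw [← hy, hρ'], fun hx => ⟨_, hx.symm⟩⟩

/-- Regular pairs lift along flat deformations. -/
theorem regular_pair_lift {A : Type u} [CommRing A] [Algebra R A] [Module.Flat R A] (x y : A)
    (hx : IsRegular (Ideal.Quotient.mk ((IsLocalRing.maximalIdeal R).map (algebraMap R A)) x))
    (hy : ∀ z, Ideal.Quotient.mk ((IsLocalRing.maximalIdeal R).map (algebraMap R A)) x ∣
      Ideal.Quotient.mk ((IsLocalRing.maximalIdeal R).map (algebraMap R A)) y * z →
      Ideal.Quotient.mk ((IsLocalRing.maximalIdeal R).map (algebraMap R A)) x ∣ z) :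
    IsRegular x ∧ ∀ z, x ∣ y * z → x ∣ z := by
  let K := (IsLocalRing.maximalIdeal R).map (algebraMap R A)
  have htop : ∀ a : A, a ∈ IsLocalRing.maximalIdeal R • (⊤ : Submodule R A) ↔ a ∈ K := fun a => by
    rw [smul_top_eq_restrictScalars (A := A), Submodule.restrictScalars_mem, smul_eq_mul, Ideal.mul_top]
  obtain ⟨hinj, hflat⟩ := injective_and_flat_quotient_artinian (LinearMap.mulLeft R x) fun a ha => by
    rw [htop] at ha ⊢
    rw [LinearMap.mulLeft_apply, ← Ideal.Quotient.eq_zero_iff_mem, map_mul] at ha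
    exact Ideal.Quotient.eq_zero_iff_mem.mp (hx.left (ha.trans (mul_zero _).symm))
  refine ⟨isLeftRegular_iff_isRegular.mp hinj, fun z hz => ?_⟩
  let P := LinearMap.range (LinearMap.mulLeft R x)
  haveI : Module.Flat R (A ⧸ P) := hflat
  have hP : ∀ a, a ∈ P ↔ x ∣ a := fun a => ⟨fun ⟨c, hc⟩ => ⟨c, hc.symm⟩, fun ⟨c, hc⟩ => ⟨c, hc.symm⟩⟩
  let my : (A ⧸ P) →ₗ[R] A ⧸ P := P.mapQ P (LinearMap.mulLeft R y) fun a ha => by
    rw [Submodule.mem_comap, LinearMap.mulLeft_apply, hP]
    exact ((hP a).mp ha).mul_left y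
  have hquot : ∀ a : A, P.mkQ a ∈ IsLocalRing.maximalIdeal R • (⊤ : Submodule R (A ⧸ P)) ↔
      ∃ c, a - x * c ∈ K := fun a => by
    rw [← Submodule.range_mkQ P, LinearMap.range_eq_map, ← Submodule.map_smul'']
    constructor
    · rintro ⟨b, hb, hba⟩
      obtain ⟨c, hc⟩ := (hP _).mp ((Submodule.Quotient.eq P).mp hba.symm)
      exact ⟨c, by rw [show a - x * c = b by rw [← hc]; ring]; exact (htop b).mp hb⟩
    · rintro ⟨c, hc⟩
      exact ⟨_, (htop _).mpr hc, (Submodule.Quotient.eq P).mpr ((hP _).mpr ⟨-c, by ring⟩)⟩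
  obtain ⟨hinj2, -⟩ := injective_and_flat_quotient_artinian my fun w hw => by
    obtain ⟨a, rfl⟩ := Submodule.mkQ_surjective P w
    obtain ⟨c, hc⟩ := (hquot (y * a)).mp hw
    rw [← Ideal.Quotient.eq_zero_iff_mem, map_sub, map_mul, map_mul, sub_eq_zero] at hc
    obtain ⟨d, hd⟩ := hy (Ideal.Quotient.mk _ a) ⟨_, hc⟩
    obtain ⟨d, rfl⟩ := Ideal.Quotient.mk_surjective d
    refine (hquot a).mpr ⟨d, ?_⟩
    rw [← Ideal.Quotient.eq_zero_iff_mem, map_sub, map_mul, hd, sub_self]
  refine (hP z).mp ((Submodule.Quotient.mk_eq_zero P).mp (hinj2 ?_))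
  rw [map_zero]
  exact (Submodule.Quotient.mk_eq_zero P).mpr ((hP _).mpr hz)

end Algebra

/-- Restriction to an open containing `D(x)` and `D(y)`, for a regular pair `x, y`. -/
theorem bijective_restrict_of_regular_pair {X : Scheme.{u}} [IsAffine X] (x y : Γ(X, ⊤)) (hx : IsRegular x)
    (hy : ∀ z, x ∣ y * z → x ∣ z) (U : X.Opens) (hxU : X.basicOpen x ≤ U) (hyU : X.basicOpen y ≤ U) :
    Function.Bijective (X.presheaf.map (homOfLE (le_top : U ≤ ⊤)).op) := by
  let res : ∀ {V W : X.Opens}, W ≤ V → Γ(X, V) → Γ(X, W) := fun h => X.presheaf.map (homOfLE h).op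
  have hres : ∀ {V W Z : X.Opens} (h : W ≤ V) (h' : Z ≤ W) (s : Γ(X, V)), res h' (res h s) = res (h'.trans h) s :=
    fun h h' s => by
      show (X.presheaf.map _ ≫ X.presheaf.map _) s = _
      rw [← Functor.map_comp]
      rfl
  have halg : ∀ (f : Γ(X, ⊤)) (r : Γ(X, ⊤)),
      algebraMap Γ(X, ⊤) Γ(X, X.basicOpen f) r = res (X.basicOpen_le f) r := fun f r => rfl
  have hloc : ∀ f : Γ(X, ⊤), IsLocalization.Away f Γ(X, X.basicOpen f) := fun f =>
    (isAffineOpen_top X).isLocalization_basicOpen f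
  have hinjx : Function.Injective (res (X.basicOpen_le x)) := by
    haveI := hloc x
    exact IsLocalization.injective (M := Submonoid.powers x) Γ(X, X.basicOpen x)
      (Submonoid.powers_le.mpr (isRegular_iff_mem_nonZeroDivisors.mp hx))
  refine ⟨fun a b hab => hinjx ?_, fun s => ?_⟩
  · rw [← hres le_top hxU, ← hres le_top hxU]
    exact congrArg _ hab
  obtain ⟨N, a, ha⟩ := @IsLocalization.Away.surj _ _ _ _ _ x (hloc x) (res hxU s)
  obtain ⟨M, b, hb⟩ := @IsLocalization.Away.surj _ _ _ _ _ y (hloc y) (res hyU s)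
  rw [halg, halg] at ha hb
  obtain ⟨c, rfl⟩ : x ^ N ∣ a := by
    refine dvd_of_dvd_mul_pow hx hy N M a ?_
    have h1 : res (le_top : X.basicOpen (x * y) ≤ ⊤) (y ^ M * a) =
        res (le_top : X.basicOpen (x * y) ≤ ⊤) (x ^ N * b) := by
      have e1 := congrArg (res (W := X.basicOpen (x * y)) (by rw [Scheme.basicOpen_mul]; exact inf_le_left)) ha
      have e2 := congrArg (res (W := X.basicOpen (x * y)) (by rw [Scheme.basicOpen_mul]; exact inf_le_right)) hb
      simp only [res, map_mul, map_pow] at e1 e2 ⊢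
      simp only [← ConcreteCategory.comp_apply, ← Functor.map_comp, ← op_comp, homOfLE_comp] at e1 e2 ⊢
      rw [← e1, ← e2]
      ring
    haveI := hloc (x * y)
    obtain ⟨⟨_, ⟨k, rfl⟩⟩, hk⟩ := IsLocalization.exists_of_eq (M := Submonoid.powers (x * y))
      (S := Γ(X, X.basicOpen (x * y))) h1
    simp only [mul_pow] at hk
    have h2 : x ^ k * (x ^ N * (y ^ k * b)) = x ^ k * (y ^ k * (y ^ M * a)) := by linear_combination -hk
    have h3 := (hx.pow k).left h2
    have h4 : x ^ N ∣ y ^ k * (y ^ M * a) := ⟨_, h3.symm⟩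
    exact dvd_of_dvd_mul_pow hx hy N k _ h4
  refine ⟨c, ?_⟩
  have hcx : res (X.basicOpen_le x) c = res hxU s := by
    have hu : IsUnit (res (X.basicOpen_le x) x ^ N) :=
      (RingedSpace.isUnit_res_basicOpen X.toLocallyRingedSpace.toRingedSpace x).pow N
    refine hu.mul_left_injective ?_
    simp only [res] at ha ⊢
    rw [ha, map_mul, map_pow, mul_comm]
  -- check on a basis
  refine X.sheaf.eq_of_locally_eq' (fun f : {f : Γ(X, ⊤) // X.basicOpen f ≤ U} => X.basicOpen f.1) U
    (fun f => homOfLE f.2) (fun p hp => ?_) _ _ fun ⟨f, hf⟩ => ?_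
  · obtain ⟨f, hfU, hpf⟩ := (isAffineOpen_top X).exists_basicOpen_le (V := U) ⟨p, hp⟩ (Set.mem_univ p)
    exact Opens.mem_iSup.mpr ⟨⟨f, hfU⟩, hpf⟩
  change res hf (res le_top c) = res hf s
  rw [hres]
  haveI := hloc f
  obtain ⟨n, e, he⟩ := IsLocalization.Away.surj (S := Γ(X, X.basicOpen f)) f (res hf s)
  rw [halg, halg] at he
  have hu : IsUnit (res (X.basicOpen_le f) f ^ n) :=
    (RingedSpace.isUnit_res_basicOpen X.toLocallyRingedSpace.toRingedSpace f).pow n
  refine hu.mul_left_injective ?_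
  have h1 : res (X.basicOpen_le f) e = res (X.basicOpen_le f) (c * f ^ n) := by
    have e1 := congrArg (res (inf_le_left : X.basicOpen f ⊓ X.basicOpen x ≤ X.basicOpen f)) he
    have e2 := congrArg (res (inf_le_right : X.basicOpen f ⊓ X.basicOpen x ≤ X.basicOpen x)) hcx
    have h2 : res (le_top : X.basicOpen f ⊓ X.basicOpen x ≤ ⊤) (e - c * f ^ n) = 0 := by
      simp only [res, map_mul, map_pow, map_sub] at e1 e2 ⊢
      simp only [← ConcreteCategory.comp_apply, ← Functor.map_comp, ← op_comp, homOfLE_comp] at e1 e2 ⊢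
      rw [← e1, e2]
      ring
    have h3 : res (le_top : X.basicOpen (f * x) ≤ ⊤) (e - c * f ^ n) = 0 := by
      rw [← hres le_top (le_of_eq (Scheme.basicOpen_mul X f x)), h2]
      exact map_zero _
    haveI := hloc (f * x)
    obtain ⟨⟨_, ⟨k, rfl⟩⟩, hk⟩ :=
      (IsLocalization.map_eq_zero_iff (Submonoid.powers (f * x)) Γ(X, X.basicOpen (f * x)) _).mp h3
    simp only [mul_pow] at hk
    have h4 : f ^ k * (e - c * f ^ n) = 0 :=
      (hx.pow k).left (show x ^ k * (f ^ k * (e - c * f ^ n)) = x ^ k * 0 by rw [mul_zero]; linear_combination hk)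
    have h5 := congrArg (res (X.basicOpen_le f)) h4
    simp only [res, map_mul, map_pow, map_sub, map_zero] at h5 ⊢
    exact sub_eq_zero.mp (((RingedSpace.isUnit_res_basicOpen X.toLocallyRingedSpace.toRingedSpace f).pow k).mul_right_eq_zero.mp h5)
  simp only [res] at he h1 ⊢
  rw [he, h1, map_mul, map_pow]

end Groth.Agent.H24Def
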