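import Mathlib.RingTheory.Smooth.Quotient
import Mathlib.RingTheory.Smooth.Basic
import Mathlib.RingTheory.RingHom.Flat
import Mathlib.RingTheory.RingHom.Smooth
import Mathlib.RingTheory.TensorProduct.Quotient
import Mathlib.RingTheory.Artinian.Ring
import Mathlib.Tactic

/-! Flat algebras with formally smooth reduction modulo a nilpotent ideal are formally smooth. -/

set_option autoImplicit false
set_option linter.style.haveILetI false

universe u

open TensorProduct

namespace Groth.Agent.H24Def

variable {R : Type u} [CommRing R] {S : Type u} [CommRing S] [Algebra R S]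

theorem flat_quotient_map [Module.Flat R S] (I : Ideal R) : Module.Flat (R ⧸ I) (S ⧸ I.map (algebraMap R S)) := by
  let e0 : (R ⧸ I) ⊗[R] S ≃ₐ[R] S ⧸ I.map (algebraMap R S) :=
    (Algebra.TensorProduct.comm R _ _).trans
      ((Algebra.TensorProduct.quotIdealMapEquivTensorQuot S I).symm.restrictScalars R)
  exact Module.Flat.of_linearEquiv
    (e0.toLinearEquiv.extendScalarsOfSurjective (S := R ⧸ I) Ideal.Quotient.mk_surjective).symm

theorem formallySmooth_of_flat_of_nilpotent [Module.Flat R S] (I : Ideal R) (hI : IsNilpotent I)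
    (h : Algebra.FormallySmooth (R ⧸ I) (S ⧸ I.map (algebraMap R S))) : Algebra.FormallySmooth R S := by
  obtain ⟨n, hn⟩ := hI
  let f : ∀ j : ℕ, (R ⧸ I ^ j) →+* (S ⧸ (I ^ j).map (algebraMap R S)) := fun j =>
    algebraMap (R ⧸ I ^ j) (S ⧸ (I ^ j).map (algebraMap R S))
  have key : ∀ j, (f (j + 1)).FormallySmooth := by
    intro j
    induction j with
    | zero =>
      have : ∀ J : Ideal R, J = I → (algebraMap (R ⧸ J) (S ⧸ J.map (algebraMap R S))).FormallySmooth := by
        rintro _ rfl
        exact RingHom.formallySmooth_algebraMap.mpr h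
      exact this _ (pow_one I)
    | succ j ih =>
      have hle : I ^ (j + 1 + 1) ≤ I ^ (j + 1) := Ideal.pow_le_pow_right (Nat.le_succ _)
      refine RingHom.FormallySmooth.of_flat_of_ker_eq_map_of_square_zero (f (j + 1 + 1))
        (RingHom.flat_algebraMap_iff.mpr (flat_quotient_map _)) (Ideal.Quotient.factor hle)
        (Ideal.Quotient.factor (Ideal.map_mono hle)) (f (j + 1)) (Ideal.Quotient.factor_surjective hle)
        (Ideal.Quotient.factor_surjective (Ideal.map_mono hle)) (Ideal.Quotient.ringHom_ext (RingHom.ext fun x => rfl))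
        ?_ ?_ ih
      · rw [Ideal.Quotient.factor_ker hle, ← Ideal.map_pow, ← pow_mul, eq_bot_iff]
        refine (Ideal.map_mono (Ideal.pow_le_pow_right (by omega : j + 1 + 1 ≤ (j + 1) * 2))).trans ?_
        rw [Ideal.map_quotient_self]
      · rw [Ideal.Quotient.factor_ker, Ideal.Quotient.factor_ker, Ideal.map_map, Ideal.map_map]
        rfl
  refine RingHom.formallySmooth_algebraMap.mp (RingHom.FormallySmooth.of_flat_of_ker_eq_map_of_square_zero
    (algebraMap R S) (RingHom.flat_algebraMap_iff.mpr inferInstance) (Ideal.Quotient.mk (I ^ (n + 1)))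
    (Ideal.Quotient.mk _) (f (n + 1)) Ideal.Quotient.mk_surjective Ideal.Quotient.mk_surjective
    (RingHom.ext fun x => rfl) ?_ ?_ (key n))
  · rw [Ideal.mk_ker, ← pow_mul, eq_bot_iff, ← Ideal.zero_eq_bot, ← hn]
    exact Ideal.pow_le_pow_right (by omega)
  · rw [Ideal.mk_ker, Ideal.mk_ker]

end Groth.Agent.H24Def
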