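import Groth.Prelude.Def_ArtFun4
import Groth.Agent.H7Lim.Thickening
import Mathlib.AlgebraicGeometry.Morphisms.ClosedImmersion
import Mathlib.AlgebraicGeometry.Morphisms.UnderlyingMap
import Mathlib.RingTheory.RingHom.Surjective

/-!
Deformations of an affine scheme are given by flat algebras.
-/

universe u

open CategoryTheory CategoryTheory.Limits AlgebraicGeometry

set_option linter.style.haveILetI false

noncomputable section

namespace Groth.Agent.H24Def

theorem liftSurj_apply {R S T : Type*} [CommRing R] [CommRing S] [CommRing T] (f : R →+* S)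
    (hf : Function.Surjective f) (g : R →+* T) (hg : RingHom.ker f ≤ RingHom.ker g) (a : R) :
    RingHom.liftOfSurjective f hf ⟨g, hg⟩ (f a) = g a :=
  RingHom.liftOfRightInverse_comp_apply _ (Function.surjInv hf) (Function.rightInverse_surjInv _) ⟨g, hg⟩ a

open ArtFun ArtFun.Art

variable {Λ k : Type u} [CommRing Λ] [Field k] [Algebra Λ k] {B₀ : Type u} [CommRing B₀] [Algebra k B₀]

/-- The base morphism of an affine scheme over `k`. -/
abbrev affPt (k : Type u) [Field k] (B₀ : Type u) [CommRing B₀] [Algebra k B₀] :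
    Spec (CommRingCat.of B₀) ⟶ specPt k :=
  Spec.map (CommRingCat.ofHom (algebraMap k B₀))

/-- A flat algebra over `A` whose reduction is `B₀`. -/
structure AlgDef (B₀ : Type u) [CommRing B₀] [Algebra k B₀] (A : Art Λ k) : Type (u + 1) where
  /-- the algebra -/
  B : Type u
  [commRing : CommRing B]
  [algebra : Algebra A B]
  flat : Module.Flat A B
  /-- the reduction -/
  π : B →+* B₀
  π_algebraMap : ∀ a : A, π (algebraMap A B a) = algebraMap k B₀ (A.res a)
  π_surjective : Function.Surjective π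
  ker_π : RingHom.ker π = (IsLocalRing.maximalIdeal A).map (algebraMap A B)

namespace AlgDef

variable {A : Art Λ k}

instance (D : AlgDef B₀ A) : CommRing D.B := D.commRing

instance (D : AlgDef B₀ A) : Algebra A D.B := D.algebra

/-- An isomorphism of algebras compatible with the reductions. -/
def Rel (D D' : AlgDef B₀ A) : Prop := ∃ e : D.B ≃ₐ[A] D'.B, ∀ b, D'.π (e b) = D.π b

theorem Rel.equivalence : Equivalence (Rel : AlgDef B₀ A → AlgDef B₀ A → Prop) :=
  ⟨fun _ => ⟨AlgEquiv.refl, fun _ => rfl⟩,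
    fun ⟨e, he⟩ => ⟨e.symm, fun b => by rw [← he (e.symm b), AlgEquiv.apply_symm_apply]⟩,
    fun ⟨e, he⟩ ⟨f, hf⟩ => ⟨e.trans f, fun b => by rw [AlgEquiv.trans_apply, hf, he]⟩⟩

variable (B₀ A) in
/-- Being isomorphic. -/
def setoid : Setoid (AlgDef B₀ A) := ⟨Rel, Rel.equivalence⟩

theorem isPushout (D : AlgDef B₀ A) :
    IsPushout (CommRingCat.ofHom (algebraMap A D.B)) (CommRingCat.ofHom A.res.toRingHom)
      (CommRingCat.ofHom D.π) (CommRingCat.ofHom (algebraMap k B₀)) := by
  have w : CommRingCat.ofHom (algebraMap A D.B) ≫ CommRingCat.ofHom D.π =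
      CommRingCat.ofHom A.res.toRingHom ≫ CommRingCat.ofHom (algebraMap k B₀) :=
    CommRingCat.hom_ext (RingHom.ext D.π_algebraMap)
  have hker : ∀ s : PushoutCocone (CommRingCat.ofHom (algebraMap A D.B)) (CommRingCat.ofHom A.res.toRingHom),
      RingHom.ker D.π ≤ RingHom.ker s.inl.hom := fun s => by
    rw [D.ker_π, Ideal.map_le_iff_le_comap]
    intro a ha
    have h1 : s.inl.hom (algebraMap A D.B a) = s.inr.hom (A.res a) := ConcreteCategory.congr_hom s.condition a
    rw [Ideal.mem_comap, RingHom.mem_ker, h1, (A.mem_maximalIdeal_iff a).mp ha, map_zero]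
  refine ⟨⟨w⟩, ⟨PushoutCocone.IsColimit.mk w
    (fun s => CommRingCat.ofHom (RingHom.liftOfSurjective D.π D.π_surjective ⟨s.inl.hom, hker s⟩))
    (fun s => CommRingCat.hom_ext (RingHom.ext fun b =>
      liftSurj_apply D.π D.π_surjective s.inl.hom (hker s) b))
    (fun s => CommRingCat.hom_ext (RingHom.ext fun c => ?_))
    (fun s m h1 _ => CommRingCat.hom_ext (RingHom.ext fun x => ?_))⟩⟩
  · obtain ⟨a, rfl⟩ := A.res_surjective c
    refine Eq.trans ?_ (ConcreteCategory.congr_hom s.condition a)
    change RingHom.liftOfSurjective D.π D.π_surjective ⟨s.inl.hom, hker s⟩ (algebraMap k B₀ (A.res a)) = _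
    rw [← D.π_algebraMap]
    exact liftSurj_apply D.π D.π_surjective s.inl.hom (hker s) _
  · obtain ⟨b, rfl⟩ := D.π_surjective x
    refine Eq.trans (ConcreteCategory.congr_hom h1 b) ?_
    exact (liftSurj_apply D.π D.π_surjective s.inl.hom (hker s) b).symm

/-- The deformation given by an algebra. -/
def toSch (D : AlgDef B₀ A) : DefSch (Spec (CommRingCat.of B₀)) (affPt k B₀) A where
  total := Spec (CommRingCat.of D.B)
  f := Spec.map (CommRingCat.ofHom (algebraMap A D.B))
  flat := (HasRingHomProperty.Spec_iff (P := @Flat)).mpr (RingHom.flat_algebraMap_iff.mpr D.flat)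
  i := Spec.map (CommRingCat.ofHom D.π)
  isPullback := isPullback_SpecMap_of_isPushout _ _ _ _ D.isPushout

/-- Isomorphic algebras give isomorphic deformations. -/
theorem toSch_iso {D D' : AlgDef B₀ A} (h : Rel D D') : Nonempty (DefSch.Iso D.toSch D'.toSch) := by
  obtain ⟨e, he⟩ := h
  refine ⟨⟨Scheme.Spec.mapIso (RingEquiv.toCommRingCatIso e.toRingEquiv).op.symm, ?_, ?_⟩⟩
  · change Spec.map (CommRingCat.ofHom (e.toRingEquiv.symm.toRingHom)) ≫ Spec.map _ = Spec.map _
    rw [← Spec.map_comp, ← CommRingCat.ofHom_comp]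
    congr 2
    exact RingHom.ext fun a => e.symm.commutes a
  · change Spec.map _ ≫ Spec.map (CommRingCat.ofHom (e.toRingEquiv.symm.toRingHom)) = Spec.map _
    rw [← Spec.map_comp, ← CommRingCat.ofHom_comp]
    congr 2
    refine RingHom.ext fun b => ?_
    change D.π (e.symm b) = D'.π b
    rw [← he (e.symm b), AlgEquiv.apply_symm_apply]

/-- Isomorphic deformations come from isomorphic algebras. -/
theorem rel_of_iso {D D' : AlgDef B₀ A} (h : DefSch.Iso D.toSch D'.toSch) : Rel D D' := by
  let φ : CommRingCat.of D'.B ⟶ CommRingCat.of D.B := Spec.preimage h.iso.hom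
  let ψ : CommRingCat.of D.B ⟶ CommRingCat.of D'.B := Spec.preimage h.iso.inv
  have h1 : φ ≫ ψ = 𝟙 _ := Spec.map_injective (by
    rw [Spec.map_comp, Spec.map_preimage, Spec.map_preimage, Spec.map_id]; exact h.iso.inv_hom_id)
  have h2 : ψ ≫ φ = 𝟙 _ := Spec.map_injective (by
    rw [Spec.map_comp, Spec.map_preimage, Spec.map_preimage, Spec.map_id]; exact h.iso.hom_inv_id)
  let e : D'.B ≃+* D.B := (CategoryTheory.Iso.mk φ ψ h1 h2).commRingCatIsoToRingEquiv
  have hf : CommRingCat.ofHom (algebraMap A D'.B) ≫ φ = CommRingCat.ofHom (algebraMap A D.B) := Spec.map_injective (by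
    rw [Spec.map_comp, Spec.map_preimage]; exact h.hom_f)
  have hi : φ ≫ CommRingCat.ofHom D.π = CommRingCat.ofHom D'.π := Spec.map_injective (by
    rw [Spec.map_comp, Spec.map_preimage]; exact h.i_hom)
  refine Rel.equivalence.symm ⟨AlgEquiv.ofRingEquiv (f := e) (fun a => ConcreteCategory.congr_hom hf a), fun b => ?_⟩
  exact ConcreteCategory.congr_hom hi b

end AlgDef

theorem isClosedImmersion_surjective_specRes (A : Art Λ k) :
    IsClosedImmersion (specRes A) ∧ Surjective (specRes A) := by
  refine ⟨IsClosedImmersion.spec_of_surjective _ A.res_surjective, ⟨fun p => ?_⟩⟩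
  haveI : Subsingleton (PrimeSpectrum A) := inferInstance
  exact ⟨(default : PrimeSpectrum k), Subsingleton.elim (α := PrimeSpectrum A) _ p⟩

/-- Every deformation of an affine scheme is affine. -/
theorem exists_toSch_iso {A : Art Λ k} (ξ : DefSch (Spec (CommRingCat.of B₀)) (affPt k B₀) A) :
    ∃ D : AlgDef B₀ A, Nonempty (DefSch.Iso ξ D.toSch) := by
  obtain ⟨hci, hsur⟩ := isClosedImmersion_surjective_specRes A
  haveI hi : IsClosedImmersion ξ.i := MorphismProperty.of_isPullback ξ.isPullback.flip hci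
  have hs : Surjective ξ.i := MorphismProperty.of_isPullback ξ.isPullback.flip hsur
  haveI : IsAffine ξ.total := Groth.Agent.H7Lim.isAffine_of_surjective_closedImmersion ξ.i hs.surj
  let e := ξ.total.isoSpec
  let φ : CommRingCat.of A ⟶ Γ(ξ.total, ⊤) := Spec.preimage (e.inv ≫ ξ.f)
  let π : Γ(ξ.total, ⊤) ⟶ CommRingCat.of B₀ := Spec.preimage (ξ.i ≫ e.hom)
  letI : Algebra A Γ(ξ.total, ⊤) := φ.hom.toAlgebra
  have hw : φ ≫ π = CommRingCat.ofHom A.res.toRingHom ≫ CommRingCat.ofHom (algebraMap k B₀) := Spec.map_injective (by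
    rw [Spec.map_comp, Spec.map_comp, Spec.map_preimage, Spec.map_preimage, Category.assoc, e.hom_inv_id_assoc]
    exact ξ.i_f)
  have hflat : Module.Flat A Γ(ξ.total, ⊤) := by
    have h : Flat (Spec.map φ) := by rw [Spec.map_preimage]; infer_instance
    exact RingHom.flat_algebraMap_iff.mp ((HasRingHomProperty.Spec_iff (P := @Flat)).mp h)
  have hπs : Function.Surjective π.hom := by
    have h : IsClosedImmersion (Spec.map π) := by rw [Spec.map_preimage]; infer_instance
    have h2 := (IsClosedImmersion.isAffine_surjective_of_isAffine (Spec.map π)).2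
    intro b
    obtain ⟨c, hc⟩ := h2 ((Scheme.ΓSpecIso (CommRingCat.of B₀)).inv b)
    refine ⟨(Scheme.ΓSpecIso Γ(ξ.total, ⊤)).hom c, ?_⟩
    have := (ConcreteCategory.congr_hom (Scheme.ΓSpecIso_naturality π) c)
    refine this.symm.trans ?_
    change (Scheme.ΓSpecIso (CommRingCat.of B₀)).hom ((Spec.map π).appTop c) = b
    rw [hc]
    exact ConcreteCategory.congr_hom (Scheme.ΓSpecIso (CommRingCat.of B₀)).inv_hom_id b
  refine ⟨⟨Γ(ξ.total, ⊤), hflat, π.hom, fun a => ConcreteCategory.congr_hom hw a, hπs, ?_⟩, ⟨⟨e, ?_, ?_⟩⟩⟩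
  · refine le_antisymm ?_ ?_
    · let J : Ideal Γ(ξ.total, ⊤) := (IsLocalRing.maximalIdeal A).map (algebraMap A Γ(ξ.total, ⊤))
      let q : Γ(ξ.total, ⊤) →+* Γ(ξ.total, ⊤) ⧸ J := Ideal.Quotient.mk J
      have hk : RingHom.ker A.res.toRingHom ≤ RingHom.ker (q.comp (algebraMap A Γ(ξ.total, ⊤))) := fun a ha => by
        rw [RingHom.mem_ker, RingHom.comp_apply, Ideal.Quotient.eq_zero_iff_mem]
        exact Ideal.mem_map_of_mem _ ((A.mem_maximalIdeal_iff a).mpr ha)
      let v : k →+* Γ(ξ.total, ⊤) ⧸ J :=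
        RingHom.liftOfSurjective A.res.toRingHom A.res_surjective ⟨q.comp (algebraMap A Γ(ξ.total, ⊤)), hk⟩
      have hv : CommRingCat.ofHom A.res.toRingHom ≫ CommRingCat.ofHom v = φ ≫ CommRingCat.ofHom q :=
        CommRingCat.hom_ext (RingHom.ext fun a =>
          liftSurj_apply A.res.toRingHom A.res_surjective (q.comp (algebraMap A Γ(ξ.total, ⊤))) hk a)
      let l := ξ.isPullback.lift (Spec.map (CommRingCat.ofHom q) ≫ e.inv) (Spec.map (CommRingCat.ofHom v)) (by
        rw [Category.assoc, ← Spec.map_preimage (e.inv ≫ ξ.f)]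
        change Spec.map (CommRingCat.ofHom q) ≫ Spec.map φ = _ ≫ Spec.map _
        rw [← Spec.map_comp, ← Spec.map_comp, hv])
      have hl : π ≫ Spec.preimage l = CommRingCat.ofHom q := Spec.map_injective (by
        rw [Spec.map_comp, Spec.map_preimage, Spec.map_preimage, ← Category.assoc, IsPullback.lift_fst]
        exact (Category.assoc _ _ _).trans ((congrArg _ e.inv_hom_id).trans (Category.comp_id _)))
      intro b hb
      rw [← Ideal.Quotient.eq_zero_iff_mem]
      refine (ConcreteCategory.congr_hom hl b).symm.trans ?_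
      change (Spec.preimage l).hom (π.hom b) = 0
      rw [RingHom.mem_ker.mp hb, map_zero]
    · rw [Ideal.map_le_iff_le_comap]
      intro a ha
      rw [Ideal.mem_comap, RingHom.mem_ker]
      refine (ConcreteCategory.congr_hom hw a).trans ?_
      change algebraMap k B₀ (A.res a) = 0
      rw [(A.mem_maximalIdeal_iff a).mp ha, map_zero]
  · change e.hom ≫ Spec.map φ = ξ.f
    rw [Spec.map_preimage, e.hom_inv_id_assoc]
  · change ξ.i ≫ e.hom = Spec.map π
    rw [Spec.map_preimage]

/-- The deformation class of an algebra class. -/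
def clOf (A : Art Λ k) (q : Quotient (AlgDef.setoid (Λ := Λ) B₀ A)) :
    (defFunctor (Spec (CommRingCat.of B₀)) (affPt k B₀)).obj A :=
  Quotient.lift (s := AlgDef.setoid (Λ := Λ) B₀ A) (fun D => D.toSch.cl)
    (fun _ _ h => Quotient.sound (s := DefSch.setoid (Spec (CommRingCat.of B₀)) (affPt k B₀) A)
      (AlgDef.toSch_iso h)) q

/-- Classes of deformations of an affine scheme are classes of flat algebras. -/
def defEquiv (A : Art Λ k) : (defFunctor (Spec (CommRingCat.of B₀)) (affPt k B₀)).obj A ≃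
    Quotient (AlgDef.setoid (Λ := Λ) B₀ A) :=
  (Equiv.ofBijective (α := Quotient (AlgDef.setoid (Λ := Λ) B₀ A))
    (β := (defFunctor (Spec (CommRingCat.of B₀)) (affPt k B₀)).obj A)
    (clOf A)
    ⟨by
      intro q q'
      induction q using Quotient.inductionOn with
      | h D =>
        induction q' using Quotient.inductionOn with
        | h D' =>
          intro h
          obtain ⟨e⟩ := Quotient.exact h
          exact Quotient.sound (AlgDef.rel_of_iso e),
    fun q => by
      induction q using Quotient.inductionOn with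
      | h ξ =>
        obtain ⟨D, ⟨e⟩⟩ := exists_toSch_iso ξ
        exact ⟨Quotient.mk (AlgDef.setoid (Λ := Λ) B₀ A) D,
          (Quotient.sound (s := DefSch.setoid (Spec (CommRingCat.of B₀)) (affPt k B₀) A) ⟨e⟩).symm⟩⟩).symm

end Groth.Agent.H24Def
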