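import Groth.Agent.H24Def.AffineExtensions
import Mathlib.AlgebraicGeometry.Pullbacks

/-! Extensions of deformations of affine schemes versus extensions of algebras. -/

universe u

open CategoryTheory CategoryTheory.Limits AlgebraicGeometry ArtFun ArtFun.Art TensorProduct

set_option linter.style.haveILetI false

noncomputable section

namespace Groth.Agent.H24Def.AffExt

/-- A surjection of rings whose kernel is the extension of the kernel of a surjection of scalars gives
a cartesian square of spectra. -/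
theorem isPullback_spec {A A' B B' : Type u} [CommRing A] [CommRing A'] [CommRing B] [CommRing B']
    (f : A →+* A') (hf : Function.Surjective f) (g : A →+* B) (g' : A' →+* B') (q : B →+* B')
    (hq : Function.Surjective q) (w : q.comp g = g'.comp f) (hk : RingHom.ker q = (RingHom.ker f).map g) :
    IsPullback (Spec.map (CommRingCat.ofHom q)) (Spec.map (CommRingCat.ofHom g'))
      (Spec.map (CommRingCat.ofHom g)) (Spec.map (CommRingCat.ofHom f)) := by
  have w' : CommRingCat.ofHom g ≫ CommRingCat.ofHom q = CommRingCat.ofHom f ≫ CommRingCat.ofHom g' :=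
    CommRingCat.hom_ext w
  have hker : ∀ s : PushoutCocone (CommRingCat.ofHom g) (CommRingCat.ofHom f),
      RingHom.ker q ≤ RingHom.ker s.inl.hom := fun s => by
    rw [hk, Ideal.map_le_iff_le_comap]
    intro a ha
    rw [Ideal.mem_comap, RingHom.mem_ker]
    refine (ConcreteCategory.congr_hom s.condition a).trans ?_
    exact (congrArg s.inr.hom (RingHom.mem_ker.mp ha)).trans (map_zero _)
  refine isPullback_SpecMap_of_isPushout _ _ _ _
    ⟨⟨w'⟩, ⟨PushoutCocone.IsColimit.mk w'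
      (fun s => CommRingCat.ofHom (RingHom.liftOfSurjective q hq ⟨s.inl.hom, hker s⟩))
      (fun s => CommRingCat.hom_ext (RingHom.ext fun b => liftSurj_apply q hq s.inl.hom (hker s) b))
      (fun s => CommRingCat.hom_ext (RingHom.ext fun c => ?_))
      (fun s m h1 _ => CommRingCat.hom_ext (RingHom.ext fun x => ?_))⟩⟩
  · obtain ⟨a, rfl⟩ := hf c
    refine Eq.trans ?_ (ConcreteCategory.congr_hom s.condition a)
    refine (congrArg (RingHom.liftOfSurjective q hq ⟨s.inl.hom, hker s⟩) (RingHom.congr_fun w a).symm).trans ?_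
    exact liftSurj_apply q hq s.inl.hom (hker s) _
  · obtain ⟨b, rfl⟩ := hq x
    refine Eq.trans (ConcreteCategory.congr_hom h1 b) ?_
    exact (liftSurj_apply q hq s.inl.hom (hker s) b).symm

/-- Equality of ideals from cartesian squares of spectra. -/
theorem surjective_and_ker_of_isPullback {A A' B B' : Type u} [CommRing A] [CommRing A'] [CommRing B]
    [CommRing B'] (f : A →+* A') (hf : Function.Surjective f) (g : A →+* B) (g' : A' →+* B') (q : B →+* B')
    (h : IsPullback (Spec.map (CommRingCat.ofHom q)) (Spec.map (CommRingCat.ofHom g'))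
      (Spec.map (CommRingCat.ofHom g)) (Spec.map (CommRingCat.ofHom f))) :
    Function.Surjective q ∧ RingHom.ker q = (RingHom.ker f).map g := by
  let I := (RingHom.ker f).map g
  let mk : B →+* B ⧸ I := Ideal.Quotient.mk I
  have hle : RingHom.ker f ≤ RingHom.ker (mk.comp g) := fun a ha =>
    Ideal.Quotient.eq_zero_iff_mem.mpr (Ideal.mem_map_of_mem g ha)
  let g'' : A' →+* B ⧸ I := RingHom.liftOfSurjective f hf ⟨mk.comp g, hle⟩
  have hw : mk.comp g = g''.comp f := RingHom.ext fun a => (liftSurj_apply f hf (mk.comp g) hle a).symm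
  have h2 := isPullback_spec f hf g g'' mk Ideal.Quotient.mk_surjective hw Ideal.mk_ker
  let e := h2.isoIsPullback _ _ h
  let s : CommRingCat.of B' ⟶ CommRingCat.of (B ⧸ I) := Spec.preimage e.hom
  let t : CommRingCat.of (B ⧸ I) ⟶ CommRingCat.of B' := Spec.preimage e.inv
  have h1 : s ≫ t = 𝟙 _ := Spec.map_injective (by
    rw [Spec.map_comp, Spec.map_preimage, Spec.map_preimage, Spec.map_id]; exact e.inv_hom_id)
  have h1' : t ≫ s = 𝟙 _ := Spec.map_injective (by
    rw [Spec.map_comp, Spec.map_preimage, Spec.map_preimage, Spec.map_id]; exact e.hom_inv_id)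
  let e' := (CategoryTheory.Iso.mk s t h1 h1').commRingCatIsoToRingEquiv
  have hq : ∀ b, e' (q b) = mk b := fun b => by
    have : CommRingCat.ofHom q ≫ s = CommRingCat.ofHom mk := Spec.map_injective (by
      rw [Spec.map_comp, Spec.map_preimage]; exact h2.isoIsPullback_hom_fst _ _ h)
    exact ConcreteCategory.congr_hom this b
  refine ⟨fun x => ?_, ?_⟩
  · obtain ⟨b, hb⟩ := Ideal.Quotient.mk_surjective (e' x)
    exact ⟨b, e'.injective ((hq b).trans hb)⟩
  · ext b
    rw [RingHom.mem_ker, ← e'.injective.eq_iff, hq, map_zero]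
    exact Ideal.Quotient.eq_zero_iff_mem

variable {k : Type u} [Field k] {B₀ : Type u} [CommRing B₀] [Algebra k B₀] {C' C : Art k k}
  {p : C' ⟶ C}

theorem pullMap_comp {X : Scheme.{u}} {x : X ⟶ specPt k} {ξ ξ' ξ'' : DefSch X x C'} (φ : ξ.total ⟶ ξ'.total)
    (hφ : φ ≫ ξ'.f = ξ.f) (φ' : ξ'.total ⟶ ξ''.total) (hφ' : φ' ≫ ξ''.f = ξ'.f) (g : C' ⟶ C) :
    DefSch.pullMap φ hφ g ≫ DefSch.pullMap φ' hφ' g =
      DefSch.pullMap (φ ≫ φ') (by rw [Category.assoc, hφ', hφ]) g := by
  apply pullback.hom_ext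
  · rw [Category.assoc, DefSch.pullMap_fst, ← Category.assoc, DefSch.pullMap_fst, Category.assoc,
      DefSch.pullMap_fst]
  · rw [Category.assoc, DefSch.pullMap_snd, DefSch.pullMap_snd, DefSch.pullMap_snd]

theorem pullMap_eq_id {X : Scheme.{u}} {x : X ⟶ specPt k} {ξ : DefSch X x C'} (φ : ξ.total ⟶ ξ.total)
    (hφ : φ ≫ ξ.f = ξ.f) (g : C' ⟶ C) (h : φ = 𝟙 _) : DefSch.pullMap φ hφ g = 𝟙 _ := by
  subst h
  apply pullback.hom_ext
  · rw [DefSch.pullMap_fst, Category.id_comp, Category.comp_id]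
  · rw [DefSch.pullMap_snd, Category.id_comp]

/-- The equivalence of extensions of a deformation. -/
def ExtRel {X : Scheme.{u}} {x : X ⟶ specPt k} (p : C' ⟶ C) (𝒳 : DefSch X x C)
    (a b : Σ 𝒳' : DefSch X x C', (𝒳'.baseChange p).Iso 𝒳) : Prop :=
  ∃ ψ : a.1.Iso b.1, ((ψ.baseChange p).trans b.2).iso = a.2.iso

theorem extRel_equivalence {X : Scheme.{u}} {x : X ⟶ specPt k} (p : C' ⟶ C) (𝒳 : DefSch X x C) :
    Equivalence (ExtRel p 𝒳) := by
  refine ⟨fun a => ⟨DefSch.Iso.refl _, ?_⟩, fun {a b} ⟨ψ, hψ⟩ => ⟨ψ.symm, ?_⟩,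
    fun {a b c} ⟨ψ, hψ⟩ ⟨ψ', hψ'⟩ => ⟨ψ.trans ψ', ?_⟩⟩
  · refine Iso.ext ?_
    change DefSch.pullMap (𝟙 a.1.total) (Category.id_comp a.1.f) p ≫ a.2.iso.hom = a.2.iso.hom
    rw [pullMap_eq_id _ _ p rfl, Category.id_comp]
  · refine Iso.ext ?_
    change DefSch.pullMap ψ.iso.inv ψ.symm.hom_f p ≫ a.2.iso.hom = b.2.iso.hom
    rw [← hψ]
    change DefSch.pullMap ψ.iso.inv ψ.symm.hom_f p ≫ DefSch.pullMap ψ.iso.hom ψ.hom_f p ≫ b.2.iso.hom =
      b.2.iso.hom
    rw [← Category.assoc]
    convert Category.id_comp b.2.iso.hom using 2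
    exact (ψ.baseChange p).iso.inv_hom_id
  · refine Iso.ext ?_
    rw [← hψ]
    change DefSch.pullMap (ψ.iso.hom ≫ ψ'.iso.hom) (ψ.trans ψ').hom_f p ≫ c.2.iso.hom =
      DefSch.pullMap ψ.iso.hom ψ.hom_f p ≫ b.2.iso.hom
    rw [← hψ']
    change _ = DefSch.pullMap ψ.iso.hom ψ.hom_f p ≫ DefSch.pullMap ψ'.iso.hom ψ'.hom_f p ≫ c.2.iso.hom
    rw [← Category.assoc, pullMap_comp]

theorem pullMap_congr {X : Scheme.{u}} {x : X ⟶ specPt k} {ξ η : DefSch X x C'} {φ φ' : ξ.total ⟶ η.total}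
    (h : φ = φ') (hφ : φ ≫ η.f = ξ.f) (hφ' : φ' ≫ η.f = ξ.f) (g : C' ⟶ C) :
    DefSch.pullMap φ hφ g = DefSch.pullMap φ' hφ' g := by subst h; rfl

/-- Compatibility with identifications of the base changes is compatibility with the maps from the
common restriction. -/
theorem pullMap_comp_eq_iff {X : Scheme.{u}} {x : X ⟶ specPt k} {ξ η : DefSch X x C'}
    (ψ : ξ.total ⟶ η.total) (hψ : ψ ≫ η.f = ξ.f) {T : Scheme.{u}} (qξ : T ⟶ ξ.total) (qη : T ⟶ η.total)
    (t : T ⟶ C.spec) (hη : IsPullback qη t η.f (specMap p))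
    (iξ : pullback ξ.f (specMap p) ≅ T) (iη : pullback η.f (specMap p) ≅ T)
    (h1 : iξ.hom ≫ qξ = pullback.fst _ _) (h2 : iξ.hom ≫ t = pullback.snd _ _)
    (h3 : iη.hom ≫ qη = pullback.fst _ _) (h4 : iη.hom ≫ t = pullback.snd _ _) :
    DefSch.pullMap ψ hψ p ≫ iη.hom = iξ.hom ↔ qξ ≫ ψ = qη := by
  constructor
  · intro h
    rw [← cancel_epi iξ.hom, ← Category.assoc, h1, ← h, Category.assoc, h3, DefSch.pullMap_fst]
  · intro h
    apply hη.hom_ext
    · rw [Category.assoc, h3, DefSch.pullMap_fst, ← h, ← Category.assoc iξ.hom, h1]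
    · rw [Category.assoc, h4, DefSch.pullMap_snd, h2]

/-- Transport of an extension along an isomorphism. -/
theorem extRel_transport {X : Scheme.{u}} {x : X ⟶ specPt k} (p : C' ⟶ C) (𝒳 : DefSch X x C)
    (a : Σ 𝒳' : DefSch X x C', (𝒳'.baseChange p).Iso 𝒳) {η : DefSch X x C'} (θ : a.1.Iso η)
    (b : (η.baseChange p).Iso 𝒳)
    (h : b.iso.hom = DefSch.pullMap θ.iso.inv θ.symm.hom_f p ≫ a.2.iso.hom) :
    ExtRel p 𝒳 a ⟨η, b⟩ := by
  refine ⟨θ, Iso.ext ?_⟩
  change DefSch.pullMap θ.iso.hom θ.hom_f p ≫ b.iso.hom = a.2.iso.hom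
  rw [h, ← Category.assoc]
  refine (congrArg (· ≫ a.2.iso.hom) ((pullMap_comp θ.iso.hom θ.hom_f θ.iso.inv θ.symm.hom_f p).trans
    (pullMap_eq_id _ _ p θ.iso.hom_inv_id))).trans ?_
  exact Category.id_comp _

variable (hp : IsSemismallExt p) {D : AlgDef B₀ C}

/-- The deformation underlying an extension. -/
def Ext.toDef (E : Ext p D) : AlgDef B₀ C' where
  B := E.B
  flat := E.flat
  π := D.π.comp E.q
  π_algebraMap a := by rw [RingHom.comp_apply, E.q_algebraMap, D.π_algebraMap, res_app]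
  π_surjective := D.π_surjective.comp E.q_surjective
  ker_π := by
    refine le_antisymm (fun b hb => ?_) (Ideal.map_le_iff_le_comap.mpr fun c hc => ?_)
    · have h1 : E.q b ∈ (IsLocalRing.maximalIdeal C).map (algebraMap C D.B) := D.ker_π ▸ hb
      have h2 : (IsLocalRing.maximalIdeal C).map (algebraMap C D.B) ≤
          ((IsLocalRing.maximalIdeal C').map (algebraMap C' E.B)).map E.q := by
        rw [Ideal.map_map]
        refine Ideal.map_le_iff_le_comap.mpr fun c hc => ?_
        obtain ⟨c', rfl⟩ := hp.1 c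
        rw [Ideal.mem_comap, ← E.q_algebraMap]
        refine Ideal.mem_map_of_mem (E.q.comp (algebraMap C' E.B)) ?_
        rwa [mem_maximalIdeal_iff, ← res_app p, ← mem_maximalIdeal_iff]
      obtain ⟨y, hy, hyb⟩ := (Ideal.mem_map_iff_of_surjective _ E.q_surjective).mp (h2 h1)
      have h3 : b - y ∈ (J p).map (algebraMap C' E.B) := by
        rw [← E.ker_q, RingHom.mem_ker, map_sub, hyb, sub_self]
      simpa using add_mem (Ideal.map_mono (J_le p) h3) hy
    · rw [Ideal.mem_comap, RingHom.mem_ker, RingHom.comp_apply, E.q_algebraMap, D.π_algebraMap, res_app,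
        (mem_maximalIdeal_iff _ _).mp hc, map_zero]

include hp in
theorem Ext.isPullback (E : Ext p D) : IsPullback (Spec.map (CommRingCat.ofHom E.q))
    (Spec.map (CommRingCat.ofHom (algebraMap C D.B))) (Spec.map (CommRingCat.ofHom (algebraMap C' E.B)))
    (specMap p) :=
  isPullback_spec p.toAlgHom.toRingHom hp.1 _ _ E.q E.q_surjective
    (RingHom.ext fun c => E.q_algebraMap c) E.ker_q

include hp in
theorem Ext.iso_hom_fst (E : Ext p D) :
    ((IsPullback.of_hasPullback (E.toDef hp).toSch.f (specMap p)).isoIsPullback _ _ (E.isPullback hp)).hom ≫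
      Spec.map (CommRingCat.ofHom E.q) = pullback.fst _ _ :=
  IsPullback.isoIsPullback_hom_fst _ _ _ _

/-- The base change of the deformation underlying an extension. -/
def Ext.bcIso (E : Ext p D) : ((E.toDef hp).toSch.baseChange p).Iso D.toSch where
  iso := (IsPullback.of_hasPullback _ _).isoIsPullback _ _ (E.isPullback hp)
  hom_f := IsPullback.isoIsPullback_hom_snd _ _ _ _
  i_hom := by
    apply (E.isPullback hp).hom_ext
    · refine (Category.assoc _ _ _).trans
        ((congrArg (((E.toDef hp).toSch.baseChange p).i ≫ ·) (E.iso_hom_fst hp)).trans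
          ((DefSch.baseChange_i_fst _ p).trans ?_))
      change Spec.map (CommRingCat.ofHom (D.π.comp E.q)) = Spec.map _ ≫ Spec.map _
      rw [← Spec.map_comp]; rfl
    · exact (Category.assoc _ _ _).trans ((congrArg (((E.toDef hp).toSch.baseChange p).i ≫ ·)
        (IsPullback.isoIsPullback_hom_snd _ _ _ _)).trans
          ((DefSch.baseChange_i_f _ p).trans D.toSch.i_f.symm))

include hp in
theorem Ext.iso_hom_snd (E : Ext p D) :
    (E.bcIso hp).iso.hom ≫ Spec.map (CommRingCat.ofHom (algebraMap C D.B)) = pullback.snd _ _ :=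
  IsPullback.isoIsPullback_hom_snd _ _ _ _

include hp in
theorem Ext.pullMap_iff (E E' : Ext p D) (ψ : (E.toDef hp).toSch.Iso (E'.toDef hp).toSch) :
    DefSch.pullMap ψ.iso.hom ψ.hom_f p ≫ (E'.bcIso hp).iso.hom = (E.bcIso hp).iso.hom ↔
      (Spec.map (CommRingCat.ofHom E.q) : D.toSch.total ⟶ (E.toDef hp).toSch.total) ≫ ψ.iso.hom =
        Spec.map (CommRingCat.ofHom E'.q) :=
  pullMap_comp_eq_iff (η := (E'.toDef hp).toSch) ψ.iso.hom ψ.hom_f _ _ _ (E'.isPullback hp)
    (E.bcIso hp).iso (E'.bcIso hp).iso (E.iso_hom_fst hp) (E.iso_hom_snd hp) (E'.iso_hom_fst hp)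
    (E'.iso_hom_snd hp)

/-- The extension of deformations given by an extension of algebras. -/
def Ext.pair (𝒳 : DefSch (Spec (CommRingCat.of B₀)) (affPt k B₀) C) (e₀ : 𝒳.Iso D.toSch) (E : Ext p D) :
    Σ 𝒳' : DefSch (Spec (CommRingCat.of B₀)) (affPt k B₀) C', (𝒳'.baseChange p).Iso 𝒳 :=
  ⟨(E.toDef hp).toSch, (E.bcIso hp).trans e₀.symm⟩

variable (𝒳 : DefSch (Spec (CommRingCat.of B₀)) (affPt k B₀) C) (e₀ : 𝒳.Iso D.toSch)

include hp in
theorem extRel_pair_iff (E E' : Ext p D) :
    ExtRel p 𝒳 (E.pair hp 𝒳 e₀) (E'.pair hp 𝒳 e₀) ↔ Ext.Rel p D E E' := by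
  constructor
  · rintro ⟨ψ, hψ⟩
    let φ : CommRingCat.of E'.B ⟶ CommRingCat.of E.B := Spec.preimage ψ.iso.hom
    let φ' : CommRingCat.of E.B ⟶ CommRingCat.of E'.B := Spec.preimage ψ.iso.inv
    have hφ : Spec.map φ = ψ.iso.hom := Spec.map_preimage _
    have hφ' : Spec.map φ' = ψ.iso.inv := Spec.map_preimage _
    have h1 : φ ≫ φ' = 𝟙 _ := Spec.map_injective ((Spec.map_comp _ _).trans
      ((congrArg₂ (· ≫ ·) hφ' hφ).trans (ψ.iso.inv_hom_id.trans (Spec.map_id _).symm)))
    have h2 : φ' ≫ φ = 𝟙 _ := Spec.map_injective ((Spec.map_comp _ _).trans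
      ((congrArg₂ (· ≫ ·) hφ hφ').trans (ψ.iso.hom_inv_id.trans (Spec.map_id _).symm)))
    let e : E'.B ≃+* E.B := (CategoryTheory.Iso.mk φ φ' h1 h2).commRingCatIsoToRingEquiv
    have hf : CommRingCat.ofHom (algebraMap C' E'.B) ≫ φ = CommRingCat.ofHom (algebraMap C' E.B) :=
      Spec.map_injective ((Spec.map_comp _ _).trans ((congrArg (· ≫ _) hφ).trans ψ.hom_f))
    have hq : φ ≫ CommRingCat.ofHom E.q = CommRingCat.ofHom E'.q := Spec.map_injective (by
      refine ((Spec.map_comp _ _).trans (congrArg (Spec.map _ ≫ ·) hφ)).trans ?_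
      have h := congrArg (fun i => i.hom) hψ
      exact (E.pullMap_iff hp E' ψ).mp
        ((cancel_mono e₀.iso.inv).mp ((Category.assoc _ _ _).trans h)))
    refine (Ext.Rel.equivalence p D).symm ⟨AlgEquiv.ofRingEquiv (f := e)
      (fun a => ConcreteCategory.congr_hom hf a), fun b => ?_⟩
    exact ConcreteCategory.congr_hom hq b
  · intro h
    obtain ⟨e, he⟩ := h
    let i : Spec (CommRingCat.of E.B) ≅ Spec (CommRingCat.of E'.B) :=
      Scheme.Spec.mapIso (RingEquiv.toCommRingCatIso e.toRingEquiv).op.symm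
    have hif : i.hom ≫ Spec.map (CommRingCat.ofHom (algebraMap C' E'.B)) =
        Spec.map (CommRingCat.ofHom (algebraMap C' E.B)) := by
      change Spec.map (CommRingCat.ofHom e.toRingEquiv.symm.toRingHom) ≫ Spec.map _ = Spec.map _
      rw [← Spec.map_comp, ← CommRingCat.ofHom_comp]
      congr 2
      exact RingHom.ext fun a => e.symm.commutes a
    have hiq : Spec.map (CommRingCat.ofHom E.q) ≫ i.hom = Spec.map (CommRingCat.ofHom E'.q) := by
      change Spec.map _ ≫ Spec.map (CommRingCat.ofHom e.toRingEquiv.symm.toRingHom) = Spec.map _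
      rw [← Spec.map_comp, ← CommRingCat.ofHom_comp]
      congr 2
      refine RingHom.ext fun b => ?_
      change E.q (e.symm b) = E'.q b
      rw [← he (e.symm b), AlgEquiv.apply_symm_apply]
    let ψ : (E.toDef hp).toSch.Iso (E'.toDef hp).toSch := ⟨i, hif, by
      change Spec.map (CommRingCat.ofHom (D.π.comp E.q)) ≫ i.hom =
        Spec.map (CommRingCat.ofHom (D.π.comp E'.q))
      rw [CommRingCat.ofHom_comp, CommRingCat.ofHom_comp, Spec.map_comp, Spec.map_comp, Category.assoc, hiq]⟩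
    exact ⟨ψ, Iso.ext ((Category.assoc _ _ _).symm.trans
      (congrArg (· ≫ e₀.iso.inv) ((E.pullMap_iff hp E' ψ).mpr hiq)))⟩

include hp in
theorem exists_pair_rel (a : Σ 𝒳' : DefSch (Spec (CommRingCat.of B₀)) (affPt k B₀) C', (𝒳'.baseChange p).Iso 𝒳) :
    ∃ E : Ext p D, ExtRel p 𝒳 a (E.pair hp 𝒳 e₀) := by
  obtain ⟨D', ⟨θ⟩⟩ := exists_toSch_iso a.1
  let ι : (D'.toSch.baseChange p).Iso D.toSch := ((θ.symm.baseChange p).trans a.2).trans e₀
  let j : Spec (CommRingCat.of D.B) ⟶ Spec (CommRingCat.of D'.B) :=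
    ι.iso.inv ≫ pullback.fst D'.toSch.f (specMap p)
  let q : CommRingCat.of D'.B ⟶ CommRingCat.of D.B := Spec.preimage j
  have hpb : IsPullback (Spec.map q) (Spec.map (CommRingCat.ofHom (algebraMap C D.B)))
      (Spec.map (CommRingCat.ofHom (algebraMap C' D'.B))) (specMap p) := by
    rw [Spec.map_preimage]
    exact (IsPullback.of_hasPullback D'.toSch.f (specMap p)).of_iso ι.iso (Iso.refl _) (Iso.refl _)
      (Iso.refl _) ((Category.comp_id _).trans (ι.iso.hom_inv_id_assoc _).symm)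
      ((Category.comp_id _).trans ι.hom_f.symm)
      ((Category.comp_id _).trans (Category.id_comp _).symm)
      ((Category.comp_id _).trans (Category.id_comp _).symm)
  obtain ⟨hqs, hqk⟩ := surjective_and_ker_of_isPullback p.toAlgHom.toRingHom hp.1 _ _ q.hom hpb
  have hw : q.hom.comp (algebraMap C' D'.B) = (algebraMap C D.B).comp p.toAlgHom.toRingHom := by
    have h := hpb.w
    rw [specMap, ← Spec.map_comp, ← Spec.map_comp] at h
    exact congrArg CommRingCat.Hom.hom (Spec.map_injective h)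
  let E : Ext p D :=
    { B := D'.B
      flat := D'.flat
      q := q.hom
      q_algebraMap := fun c => RingHom.congr_fun hw c
      q_surjective := hqs
      ker_q := hqk }
  have hπ : D.π.comp q.hom = D'.π := by
    have h : Spec.map (CommRingCat.ofHom D.π) ≫ j = Spec.map (CommRingCat.ofHom D'.π) := by
      have h' := ι.i_hom
      rw [← Iso.eq_comp_inv] at h'
      exact (Category.assoc _ _ _).symm.trans
        ((congrArg (· ≫ pullback.fst D'.toSch.f (specMap p)) h'.symm).trans (DefSch.baseChange_i_fst _ p))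
    rw [← Spec.map_preimage j, ← Spec.map_comp] at h
    exact congrArg CommRingCat.Hom.hom (Spec.map_injective h)
  let σ : D'.toSch.Iso (E.toDef hp).toSch :=
    ⟨Iso.refl _, Category.id_comp _, (Category.comp_id _).trans
      (congrArg (fun f => Spec.map (CommRingCat.ofHom f)) hπ.symm)⟩
  refine ⟨E, extRel_transport p 𝒳 a (θ.trans σ) ((E.bcIso hp).trans e₀.symm) ?_⟩
  have hE : (E.bcIso hp).iso.hom = ι.iso.hom := by
    apply (E.isPullback hp).hom_ext
    · refine (E.iso_hom_fst hp).trans ?_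
      change _ = ι.iso.hom ≫ Spec.map q
      rw [Spec.map_preimage]
      exact (ι.iso.hom_inv_id_assoc _).symm
    · exact (E.iso_hom_snd hp).trans ι.hom_f.symm
  have h1 : (E.bcIso hp).iso.hom ≫ e₀.iso.inv =
      DefSch.pullMap θ.iso.inv θ.symm.hom_f p ≫ a.2.iso.hom := by
    refine (congrArg (· ≫ e₀.iso.inv) hE).trans ?_
    exact (Category.assoc _ _ _).trans
      ((congrArg (_ ≫ ·) e₀.iso.hom_inv_id).trans (Category.comp_id _))
  refine h1.trans (congrArg (· ≫ a.2.iso.hom) ?_)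
  exact pullMap_congr (ξ := (E.toDef hp).toSch) (Category.id_comp θ.iso.inv).symm θ.symm.hom_f
    (θ.trans σ).symm.hom_f p

include hp in
/-- Extensions of an affine deformation up to equivalence are classified by `T¹`. -/
theorem nonempty_extensions_equiv (hne : ∃ 𝒳' : DefSch (Spec (CommRingCat.of B₀)) (affPt k B₀) C',
    Nonempty ((𝒳'.baseChange p).Iso 𝒳)) :
    Nonempty (Quot (ExtRel p 𝒳) ≃
      CotT.T1 (CotT.canon k B₀) (B₀ ⊗[k] ↥(RingHom.ker p.toAlgHom))) := by
  obtain ⟨D, ⟨e₀⟩⟩ := exists_toSch_iso 𝒳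
  obtain ⟨𝒳', ⟨ι⟩⟩ := hne
  obtain ⟨E₀, -⟩ := exists_pair_rel hp 𝒳 e₀ ⟨𝒳', ι⟩
  obtain ⟨Φ⟩ := nonempty_equiv p D hp E₀
  let F : Quotient (Ext.setoid p D) → Quot (ExtRel p 𝒳) :=
    Quotient.lift (s := Ext.setoid p D) (fun E => Quot.mk _ (E.pair hp 𝒳 e₀))
      fun E E' h => Quot.sound ((extRel_pair_iff hp 𝒳 e₀ E E').mpr h)
  have hF : Function.Bijective F := by
    refine ⟨fun a b => ?_, fun a => ?_⟩
    · induction a using Quotient.inductionOn with
      | h E =>
        induction b using Quotient.inductionOn with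
        | h E' =>
          intro h
          refine Quotient.sound (s := Ext.setoid p D) ((extRel_pair_iff hp 𝒳 e₀ E E').mp ?_)
          exact (Equivalence.eqvGen_iff (extRel_equivalence p 𝒳)).mp (Quot.eqvGen_exact h)
    · induction a using Quot.ind with
      | mk a =>
        obtain ⟨E, hE⟩ := exists_pair_rel hp 𝒳 e₀ a
        exact ⟨Quotient.mk _ E, (Quot.sound hE).symm⟩
  exact ⟨(Equiv.ofBijective F hF).symm.trans Φ⟩

end Groth.Agent.H24Def.AffExt
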