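import Groth.Agent.H7Flat.FibreCriterion
import Mathlib.RingTheory.Flat.Basic
import Mathlib.LinearAlgebra.TensorProduct.RightExactness
import Mathlib.LinearAlgebra.TensorProduct.Quotient

/-! Flat lifts of an ideal along a small extension form a torsor under `Hom(I, J ⊗ B)`. -/

set_option autoImplicit false
set_option linter.style.haveILetI false

open TensorProduct

namespace Groth.Agent.H24Def.Translate

universe u

variable {C' : Type u} [CommRing C'] (J : Ideal C') {A' : Type u} [CommRing A'] [Algebra C' A']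


/-- Multiplication `A' ⊗ J → A'`. -/
noncomputable def rho : A' ⊗[C'] ↥J →ₗ[C'] A' :=
  (TensorProduct.rid C' A').toLinearMap ∘ₗ LinearMap.lTensor A' (Submodule.subtype J)

theorem rho_tmul (a : A') (j : J) : rho J (a ⊗ₜ[C'] j) = algebraMap C' A' (j : C') * a := by
  simp [rho, Algebra.smul_def]

theorem rho_smul (a : A') (z : A' ⊗[C'] ↥J) : rho J (a • z) = a * rho J z := by
  induction z using TensorProduct.induction_on with
  | zero => simp
  | add x y hx hy => rw [smul_add, map_add, map_add, hx, hy, mul_add]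
  | tmul b j => rw [TensorProduct.smul_tmul', rho_tmul, rho_tmul, smul_eq_mul]; ring

theorem rho_injective [Module.Flat C' A'] : Function.Injective (rho J (A' := A')) :=
  (TensorProduct.rid C' A').injective.comp
    (Module.Flat.lTensor_preserves_injective_linearMap _ (Submodule.injective_subtype J))

theorem mem_map_iff_exists (y : A') :
    y ∈ Ideal.map (algebraMap C' A') J ↔ ∃ z, rho J z = y := by
  constructor
  · intro hy
    induction hy using Submodule.span_induction with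
    | mem y hy =>
      obtain ⟨j, hj, rfl⟩ := hy
      exact ⟨(1 : A') ⊗ₜ ⟨j, hj⟩, by rw [rho_tmul, mul_one]⟩
    | zero => exact ⟨0, map_zero _⟩
    | add x y _ _ hx hy =>
      obtain ⟨z, rfl⟩ := hx
      obtain ⟨w, rfl⟩ := hy
      exact ⟨z + w, map_add _ _ _⟩
    | smul a x _ hx =>
      obtain ⟨z, rfl⟩ := hx
      exact ⟨a • z, rho_smul J a z⟩
  · rintro ⟨z, rfl⟩
    induction z using TensorProduct.induction_on with
    | zero => simp
    | add x y hx hy => rw [map_add]; exact add_mem hx hy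
    | tmul b j => rw [rho_tmul]; exact Ideal.mul_mem_right _ _ (Ideal.mem_map_of_mem _ j.2)

variable (I : Ideal (A' ⧸ Ideal.map (algebraMap C' A') J))

/-- Reduction `A' ⊗ J → B ⊗ J`. -/
noncomputable def red : A' ⊗[C'] ↥J →ₗ[C'] ((A' ⧸ Ideal.map (algebraMap C' A') J) ⧸ I) ⊗[C'] ↥J :=
  LinearMap.rTensor ↥J (IsScalarTower.toAlgHom C' A' ((A' ⧸ Ideal.map (algebraMap C' A') J) ⧸ I)).toLinearMap

theorem red_smul (a : A') (z : A' ⊗[C'] ↥J) : red J I (a • z) = a • red J I z := by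
  induction z using TensorProduct.induction_on with
  | zero => simp
  | add x y hx hy => rw [smul_add, map_add, map_add, hx, hy, smul_add]
  | tmul b j =>
    simp only [red, TensorProduct.smul_tmul', LinearMap.rTensor_tmul]
    congr 1

theorem red_surjective : Function.Surjective (red J I) :=
  LinearMap.rTensor_surjective _ (fun b => by
    obtain ⟨b, rfl⟩ := Ideal.Quotient.mk_surjective b
    obtain ⟨b, rfl⟩ := Ideal.Quotient.mk_surjective b
    exact ⟨b, rfl⟩)

theorem mem_of_map_eq {I₁ : Ideal A'} (hI₁ : I₁.map (Ideal.Quotient.mk _) = I) {y : A'}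
    (hy : y ∈ I₁) : Ideal.Quotient.mk (Ideal.map (algebraMap C' A') J) y ∈ I :=
  hI₁ ▸ Ideal.mem_map_of_mem _ hy

theorem exists_lift {I₁ : Ideal A'} (hI₁ : I₁.map (Ideal.Quotient.mk _) = I) {x : (A' ⧸ Ideal.map (algebraMap C' A') J)}
    (hx : x ∈ I) : ∃ x' ∈ I₁, Ideal.Quotient.mk (Ideal.map (algebraMap C' A') J) x' = x :=
  (Ideal.mem_map_iff_of_surjective _ Ideal.Quotient.mk_surjective).mp (hI₁.symm ▸ hx)

/-- Reduction factors through a bijection `(A'/I₁) ⊗ J → B ⊗ J` as soon as `I₁` reduces to `I`. -/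
theorem red_eq_zero_imp (hJ : J * J = ⊥) {I₁ : Ideal A'} (hI₁ : I₁.map (Ideal.Quotient.mk _) = I)
    (z : A' ⊗[C'] ↥J) (hz : red J I z = 0) :
    LinearMap.rTensor ↥J (Ideal.Quotient.mkₐ C' I₁).toLinearMap z = 0 := by
  have hle : I₁ ≤ I.comap (Ideal.Quotient.mk _) := fun y hy => mem_of_map_eq J I hI₁ hy
  let q : (A' ⧸ I₁) →ₗ[C'] (A' ⧸ Ideal.map (algebraMap C' A') J) ⧸ I := (Ideal.Quotient.liftₐ I₁ (IsScalarTower.toAlgHom C' A' ((A' ⧸ Ideal.map (algebraMap C' A') J) ⧸ I))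
    (fun a ha => Ideal.Quotient.eq_zero_iff_mem.mpr (hle ha))).toLinearMap
  have hq : Function.Surjective q := fun b => by
    obtain ⟨b, rfl⟩ := Ideal.Quotient.mk_surjective b
    obtain ⟨b, rfl⟩ := Ideal.Quotient.mk_surjective b
    exact ⟨Ideal.Quotient.mk I₁ b, rfl⟩
  have hfac : red J I z = q.rTensor ↥J (LinearMap.rTensor ↥J (Ideal.Quotient.mkₐ C' I₁).toLinearMap z) := by
    rw [← LinearMap.rTensor_comp_apply]; rfl
  rw [hz] at hfac
  obtain ⟨w, hw⟩ := (rTensor_exact ↥J (LinearMap.exact_subtype_ker_map q) hq _).mp hfac.symm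
  have h0 : (LinearMap.ker q).subtype.rTensor ↥J = 0 := by
    refine TensorProduct.ext' fun m j => ?_
    obtain ⟨m, hm⟩ := m
    have hmJ : m ∈ (J • ⊤ : Submodule C' (A' ⧸ I₁)) := by
      obtain ⟨a, rfl⟩ := Ideal.Quotient.mk_surjective m
      have ha : a ∈ Ideal.map (algebraMap C' A') J ⊔ I₁ := by
        rw [sup_comm, ← Ideal.mem_quotient_iff_mem_sup, hI₁]
        exact Ideal.Quotient.eq_zero_iff_mem.mp (show q (Ideal.Quotient.mk I₁ a) = 0 from hm)
      rw [Ideal.smul_top_eq_map, Submodule.restrictScalars_mem]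
      have := Ideal.mem_quotient_iff_mem_sup.mpr ha
      rwa [Ideal.map_map] at this
    simp only [LinearMap.rTensor_tmul, Submodule.subtype_apply, LinearMap.zero_apply]
    refine Submodule.smul_induction_on hmJ (fun c hc n _ => ?_) (fun a b ha hb => ?_)
    · rw [TensorProduct.smul_tmul]
      have : c • j = 0 := Subtype.ext (by
        have := Ideal.mul_mem_mul hc j.2
        rw [hJ] at this
        simpa using this)
      rw [this, TensorProduct.tmul_zero]
    · rw [TensorProduct.add_tmul, ha, hb, add_zero]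
  rw [← hw, h0, LinearMap.zero_apply]

variable [Module.Flat C' A']

theorem rho_mem_iff (hJ : J * J = ⊥) {I₁ : Ideal A'} [Module.Flat C' (A' ⧸ I₁)]
    (hI₁ : I₁.map (Ideal.Quotient.mk _) = I) (z : A' ⊗[C'] ↥J) :
    rho J z ∈ I₁ ↔ red J I z = 0 := by
  let g := (Ideal.Quotient.mkₐ C' I₁).toLinearMap
  have hnat : ∀ w, TensorProduct.rid C' (A' ⧸ I₁) (LinearMap.lTensor (A' ⧸ I₁) J.subtype
      (LinearMap.rTensor ↥J g w)) = g (rho J w) := fun w => by
    induction w using TensorProduct.induction_on with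
    | zero => simp
    | add x y hx hy => rw [map_add, map_add, map_add, map_add, map_add, hx, hy]
    | tmul b j => simp [rho, g]
  constructor
  · intro h
    have h0 : LinearMap.rTensor ↥J g z = 0 := by
      refine (Module.Flat.lTensor_preserves_injective_linearMap (M := A' ⧸ I₁) _
        (Submodule.injective_subtype J)) ((TensorProduct.rid C' (A' ⧸ I₁)).injective ?_)
      rw [hnat, map_zero, map_zero]
      exact Ideal.Quotient.eq_zero_iff_mem.mpr h
    let q : (A' ⧸ I₁) →ₗ[C'] (A' ⧸ Ideal.map (algebraMap C' A') J) ⧸ I := (Ideal.Quotient.liftₐ I₁ (IsScalarTower.toAlgHom C' A' ((A' ⧸ Ideal.map (algebraMap C' A') J) ⧸ I))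
      (fun a ha => Ideal.Quotient.eq_zero_iff_mem.mpr (mem_of_map_eq J I hI₁ ha))).toLinearMap
    have : red J I z = q.rTensor ↥J (LinearMap.rTensor ↥J g z) := by
      rw [← LinearMap.rTensor_comp_apply]; rfl
    rw [this, h0, map_zero]
  · intro h
    have h2 := hnat z
    rw [red_eq_zero_imp J I hJ hI₁ z h, map_zero, map_zero] at h2
    exact Ideal.Quotient.eq_zero_iff_mem.mp h2.symm

section Diff

variable {I' I'' : Ideal A'} [Module.Flat C' (A' ⧸ I')] [Module.Flat C' (A' ⧸ I'')]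

/-- The difference of two flat lifts of `I` is well defined. -/
theorem diff_unique (hJ : J * J = ⊥) (hI' : I'.map (Ideal.Quotient.mk _) = I)
    (hI'' : I''.map (Ideal.Quotient.mk _) = I) {x' x'' y' y'' : A'} (hx' : x' ∈ I') (hx'' : x'' ∈ I'')
    (hy' : y' ∈ I') (hy'' : y'' ∈ I'') (h : x' - y' ∈ Ideal.map (algebraMap C' A') J)
    (h' : x'' - y'' ∈ Ideal.map (algebraMap C' A') J) {z w : A' ⊗[C'] ↥J}
    (hz : rho J z = x'' - x') (hw : rho J w = y'' - y') : red J I z = red J I w := by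
  obtain ⟨u, hu⟩ := (mem_map_iff_exists J _).mp h
  obtain ⟨v, hv⟩ := (mem_map_iff_exists J _).mp h'
  have hu0 : red J I u = 0 := (rho_mem_iff J I hJ hI' u).mp (hu ▸ sub_mem hx' hy')
  have hv0 : red J I v = 0 := (rho_mem_iff J I hJ hI'' v).mp (hv ▸ sub_mem hx'' hy'')
  have : z - w = v - u := rho_injective J (by rw [map_sub, map_sub, hz, hw, hu, hv]; ring)
  rw [← sub_eq_zero, ← map_sub, this, map_sub, hu0, hv0, sub_zero]

theorem exists_diff_data (hI' : I'.map (Ideal.Quotient.mk _) = I)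
    (hI'' : I''.map (Ideal.Quotient.mk _) = I) (x : ↥I) :
    ∃ x' ∈ I', ∃ x'' ∈ I'', ∃ z, Ideal.Quotient.mk (Ideal.map (algebraMap C' A') J) x' = x.1 ∧
      Ideal.Quotient.mk (Ideal.map (algebraMap C' A') J) x'' = x.1 ∧ rho J z = x'' - x' := by
  obtain ⟨x', h1, h2⟩ := exists_lift J I hI' x.2
  obtain ⟨x'', h3, h4⟩ := exists_lift J I hI'' x.2
  obtain ⟨z, hz⟩ := (mem_map_iff_exists J (x'' - x')).mp (Ideal.Quotient.eq.mp (h4.trans h2.symm))
  exact ⟨x', h1, x'', h3, z, h2, h4, hz⟩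

theorem existsUnique_diff (hJ : J * J = ⊥) (hI' : I'.map (Ideal.Quotient.mk _) = I)
    (hI'' : I''.map (Ideal.Quotient.mk _) = I) :
    ∃! φ : ↥I →ₗ[A'] (((A' ⧸ Ideal.map (algebraMap C' A') J) ⧸ I) ⊗[C'] ↥J),
      (∀ (x : (A' ⧸ Ideal.map (algebraMap C' A') J)) (hx : x ∈ I) (x' x'' : A'), x' ∈ I' → x'' ∈ I'' →
          Ideal.Quotient.mk (J.map (algebraMap C' A')) x' = x → Ideal.Quotient.mk (J.map (algebraMap C' A')) x'' = x →
          ∀ z : A' ⊗[C'] ↥J, rho J z = x'' - x' → red J I z = φ ⟨x, hx⟩) := by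
  choose a ha b hb c h1 h2 h3 using fun x => exists_diff_data J I hI' hI'' x
  have key : ∀ (x : ↥I) (x' x'' : A'), x' ∈ I' → x'' ∈ I'' →
      Ideal.Quotient.mk (J.map (algebraMap C' A')) x' = x.1 → Ideal.Quotient.mk (J.map (algebraMap C' A')) x'' = x.1 →
      ∀ z : A' ⊗[C'] ↥J, rho J z = x'' - x' → red J I z = red J I (c x) := fun x x' x'' k1 k2 k3 k4 z hz =>
    diff_unique J I hJ hI' hI'' k1 k2 (ha x) (hb x) (Ideal.Quotient.eq.mp (k3.trans (h1 x).symm))
      (Ideal.Quotient.eq.mp (k4.trans (h2 x).symm)) hz (h3 x)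
  let φ : ↥I →ₗ[A'] (((A' ⧸ Ideal.map (algebraMap C' A') J) ⧸ I) ⊗[C'] ↥J) :=
    { toFun := fun x => red J I (c x)
      map_add' := fun x y => by
        rw [← map_add]
        refine (key (x + y) _ _ (add_mem (ha x) (ha y)) (add_mem (hb x) (hb y)) ?_ ?_ _ ?_).symm
        · rw [map_add, h1, h1]; rfl
        · rw [map_add, h2, h2]; rfl
        · rw [map_add, h3, h3]; ring
      map_smul' := fun r x => by
        rw [RingHom.id_apply, ← red_smul]
        refine (key (r • x) _ _ (I'.mul_mem_left r (ha x)) (I''.mul_mem_left r (hb x)) ?_ ?_ _ ?_).symm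
        · rw [map_mul, h1, Submodule.coe_smul_of_tower, Algebra.smul_def]; rfl
        · rw [map_mul, h2, Submodule.coe_smul_of_tower, Algebra.smul_def]; rfl
        · rw [rho_smul, h3, mul_sub] }
  refine ⟨φ, fun x hx => key ⟨x, hx⟩, fun ψ hψ => LinearMap.ext fun x => ?_⟩
  exact (hψ x.1 x.2 _ _ (ha x) (hb x) (h1 x) (h2 x) _ (h3 x)).symm

end Diff

/-- The translate of a flat lift `I'` by `φ`. -/
noncomputable def translate (I' : Ideal A') (φ : ↥I →ₗ[A'] (((A' ⧸ Ideal.map (algebraMap C' A') J) ⧸ I) ⊗[C'] ↥J)) : Ideal A' where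
  carrier := {y | ∃ (h : Ideal.Quotient.mk (Ideal.map (algebraMap C' A') J) y ∈ I) (x' : A')
    (z : A' ⊗[C'] ↥J), x' ∈ I' ∧ rho J z = y - x' ∧ red J I z = φ ⟨_, h⟩}
  add_mem' := by
    rintro a b ⟨ha, x, z, h1, h2, h3⟩ ⟨hb, x₂, z₂, k1, k2, k3⟩
    refine ⟨by rw [map_add]; exact add_mem ha hb, x + x₂, z + z₂, add_mem h1 k1, ?_, ?_⟩
    · rw [map_add, h2, k2]; ring
    · rw [map_add, h3, k3, ← map_add]; congr 1
  zero_mem' := ⟨by simp, 0, 0, zero_mem _, by simp, by
    rw [map_zero, ← map_zero φ]; congr 1⟩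
  smul_mem' := by
    rintro r a ⟨ha, x, z, h1, h2, h3⟩
    refine ⟨by rw [smul_eq_mul, map_mul]; exact I.mul_mem_left _ ha, r * x, r • z,
      I'.mul_mem_left r h1, ?_, ?_⟩
    · rw [rho_smul, h2, smul_eq_mul, mul_sub]
    · rw [red_smul, h3, ← map_smul]
      congr 1

theorem translate_spec (hJ : J * J = ⊥)
    [Module.Flat (C' ⧸ J) ((A' ⧸ Ideal.map (algebraMap C' A') J) ⧸ I)] (I' : Ideal A') [Module.Flat C' (A' ⧸ I')]
    (hI' : I'.map (Ideal.Quotient.mk _) = I) (φ : ↥I →ₗ[A'] (((A' ⧸ Ideal.map (algebraMap C' A') J) ⧸ I) ⊗[C'] ↥J)) :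
    ∃! I'' : Ideal A', Module.Flat C' (A' ⧸ I'') ∧
      I''.map (Ideal.Quotient.mk (J.map (algebraMap C' A'))) = I ∧
      (∀ (x : (A' ⧸ Ideal.map (algebraMap C' A') J)) (hx : x ∈ I) (x' x'' : A'), x' ∈ I' → x'' ∈ I'' →
          Ideal.Quotient.mk (J.map (algebraMap C' A')) x' = x → Ideal.Quotient.mk (J.map (algebraMap C' A')) x'' = x →
          ∀ z : A' ⊗[C'] ↥J, rho J z = x'' - x' → red J I z = φ ⟨x, hx⟩) := by
  let T := translate J I I' φ
  have hmap : T.map (Ideal.Quotient.mk (J.map (algebraMap C' A'))) = I := by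
    refine le_antisymm (Ideal.map_le_iff_le_comap.mpr fun y hy => hy.choose) fun x hx => ?_
    obtain ⟨x', h1, h2⟩ := exists_lift J I hI' hx
    obtain ⟨z, hz⟩ := red_surjective J I (φ ⟨x, hx⟩)
    have h4 : Ideal.Quotient.mk (J.map (algebraMap C' A')) (x' + rho J z) = x := by
      rw [map_add, Ideal.Quotient.eq_zero_iff_mem.mpr ((mem_map_iff_exists J _).mpr ⟨z, rfl⟩), add_zero, h2]
    rw [← h4]
    refine Ideal.mem_map_of_mem _ ⟨h4.symm ▸ hx, x', z, h1, by ring, ?_⟩
    rw [hz]; congr 1; exact Subtype.ext h4.symm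
  have hcond : ∀ (x : (A' ⧸ Ideal.map (algebraMap C' A') J)) (hx : x ∈ I) (x' x'' : A'), x' ∈ I' → x'' ∈ T →
          Ideal.Quotient.mk (J.map (algebraMap C' A')) x' = x → Ideal.Quotient.mk (J.map (algebraMap C' A')) x'' = x →
          ∀ z : A' ⊗[C'] ↥J, rho J z = x'' - x' → red J I z = φ ⟨x, hx⟩ := by
    rintro x hx x' x'' h1 ⟨h, x₀, z₀, k1, k2, k3⟩ e1 e2 z hz
    have hd : x₀ - x' ∈ J.map (algebraMap C' A') := by
      have : x₀ = x'' - rho J z₀ := by rw [k2]; ring
      rw [this, sub_right_comm]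
      exact sub_mem (Ideal.Quotient.eq.mp (e2.trans e1.symm)) ((mem_map_iff_exists J _).mpr ⟨z₀, rfl⟩)
    obtain ⟨w, hw⟩ := (mem_map_iff_exists J _).mp hd
    have hw0 : red J I w = 0 := (rho_mem_iff J I hJ hI' w).mp (hw ▸ sub_mem k1 h1)
    have hzz : z = z₀ + w := rho_injective J (by rw [map_add, hz, k2, hw]; ring)
    rw [hzz, map_add, hw0, add_zero, k3]
    congr 1; exact Subtype.ext e2
  have hker : ∀ z : A' ⊗[C'] ↥J, rho J z ∈ T → red J I z = 0 := fun z hz => by
    have := hcond 0 (zero_mem _) 0 (rho J z) (zero_mem _) hz (map_zero _)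
      (Ideal.Quotient.eq_zero_iff_mem.mpr ((mem_map_iff_exists J _).mpr ⟨z, rfl⟩)) z (sub_zero _).symm
    rw [this, ← map_zero φ]; rfl
  have hflat : Module.Flat C' (A' ⧸ T) := by
    let g := (Ideal.Quotient.mkₐ C' T).toLinearMap
    have hinj : Function.Injective (J.subtype.lTensor (A' ⧸ T)) := by
      rw [injective_iff_map_eq_zero]
      intro w hw
      obtain ⟨z, rfl⟩ := LinearMap.rTensor_surjective ↥J (g := g) Ideal.Quotient.mk_surjective w
      refine red_eq_zero_imp J I hJ hmap z (hker z ?_)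
      have h2 : TensorProduct.rid C' (A' ⧸ T) (LinearMap.lTensor (A' ⧸ T) J.subtype
          (LinearMap.rTensor ↥J g z)) = g (rho J z) := by
        clear hw
        induction z using TensorProduct.induction_on with
        | zero => simp
        | add x y hx hy => rw [map_add, map_add, map_add, map_add, map_add, hx, hy]
        | tmul b j => simp [rho, g]
      rw [hw, map_zero] at h2
      exact Ideal.Quotient.eq_zero_iff_mem.mp h2.symm
    have hle : T ≤ I.comap (Ideal.Quotient.mk _) := fun y hy => hy.choose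
    let q : (A' ⧸ T) →ₗ[C'] (A' ⧸ Ideal.map (algebraMap C' A') J) ⧸ I := (Ideal.Quotient.liftₐ T (IsScalarTower.toAlgHom C' A' ((A' ⧸ Ideal.map (algebraMap C' A') J) ⧸ I))
      (fun a ha => Ideal.Quotient.eq_zero_iff_mem.mpr (hle ha))).toLinearMap
    have hq : Function.Surjective q := fun b => by
      obtain ⟨b, rfl⟩ := Ideal.Quotient.mk_surjective b
      obtain ⟨b, rfl⟩ := Ideal.Quotient.mk_surjective b
      exact ⟨Ideal.Quotient.mk T b, rfl⟩
    have hqker : LinearMap.ker q = (J • ⊤ : Submodule C' (A' ⧸ T)) := by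
      ext m
      obtain ⟨a, rfl⟩ := Ideal.Quotient.mk_surjective m
      rw [LinearMap.mem_ker, Ideal.smul_top_eq_map, Submodule.restrictScalars_mem,
        IsScalarTower.algebraMap_eq C' A' (A' ⧸ T), ← Ideal.map_map, Ideal.Quotient.algebraMap_eq,
        Ideal.mem_quotient_iff_mem_sup, sup_comm, ← Ideal.mem_quotient_iff_mem_sup, hmap]
      exact Ideal.Quotient.eq_zero_iff_mem
    let e : ((C' ⧸ J) ⊗[C'] (A' ⧸ T)) ≃ₗ[C'] ((A' ⧸ Ideal.map (algebraMap C' A') J) ⧸ I) :=
      TensorProduct.quotTensorEquivQuotSMul (A' ⧸ T) J ≪≫ₗ Submodule.quotEquivOfEq _ _ hqker.symm ≪≫ₗ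
        q.quotKerEquivOfSurjective hq
    have : Module.Flat (C' ⧸ J) ((C' ⧸ J) ⊗[C'] (A' ⧸ T)) :=
      Module.Flat.of_linearEquiv (e.extendScalarsOfSurjective (S := C' ⧸ J) Ideal.Quotient.mk_surjective)
    exact Groth.Agent.H7Flat.flat_of_isNilpotent J ⟨2, by rw [pow_two, hJ]; rfl⟩ hinj
  refine ⟨T, ⟨hflat, hmap, hcond⟩, fun T' ⟨hf, hm, hc⟩ => ?_⟩
  have : Module.Flat C' (A' ⧸ T') := hf
  refine le_antisymm (fun y hy => ?_) (fun y hy => ?_)
  · have hyI := mem_of_map_eq J I hm hy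
    obtain ⟨x', h1, h2⟩ := exists_lift J I hI' hyI
    obtain ⟨z, hz⟩ := (mem_map_iff_exists J (y - x')).mp (Ideal.Quotient.eq.mp h2.symm)
    exact ⟨hyI, x', z, h1, hz, hc _ hyI x' y h1 hy h2 rfl z hz⟩
  · obtain ⟨h, x', z, h1, h2, h3⟩ := hy
    obtain ⟨y₂, k1, k2⟩ := exists_lift J I hm h
    have e1 : Ideal.Quotient.mk (J.map (algebraMap C' A')) x' = Ideal.Quotient.mk _ y := by
      rw [Ideal.Quotient.eq, mem_map_iff_exists]
      exact ⟨-z, by rw [map_neg, h2]; ring⟩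
    obtain ⟨z₂, hz₂⟩ := (mem_map_iff_exists J (y₂ - x')).mp (Ideal.Quotient.eq.mp (k2.trans e1.symm))
    have h5 := hc _ h x' y₂ h1 k1 e1 k2 z₂ hz₂
    have h6 : rho J (z₂ - z) ∈ T' :=
      (rho_mem_iff J I hJ hm _).mpr (by rw [map_sub, h5, h3, sub_self])
    have : y = y₂ - rho J (z₂ - z) := by rw [map_sub, hz₂, h2]; ring
    exact this ▸ sub_mem k1 h6

theorem mul_self_eq_bot [IsLocalRing C'] (hJ : IsLocalRing.maximalIdeal C' * J = ⊥) (hJne : J ≠ ⊤) :
    J * J = ⊥ :=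
  le_bot_iff.mp (hJ ▸ Ideal.mul_mono_left (IsLocalRing.le_maximalIdeal hJne))

end Groth.Agent.H24Def.Translate
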