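import Groth.Agent.H24Def.Affine
import Groth.Agent.H24Def.Translate
import Groth.Agent.H24Cot.Basic
import Groth.Agent.H3CAlg.ArtinRegular
import Mathlib.RingTheory.Flat.EquationalCriterion
import Mathlib.RingTheory.RingHom.Flat
import Mathlib.Algebra.MvPolynomial.Derivation

/-! Extensions of a deformation of an algebra along a semismall extension of Artinian algebras are
classified by the first cotangent module. -/

universe u

open TensorProduct ArtFun ArtFun.Art

set_option linter.style.haveILetI false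

noncomputable section

namespace Groth.Agent.H24Def.AffExt

/-- Surjectivity modulo a nilpotent ideal. -/
theorem surjective_of_nilpotent {R B : Type*} [CommRing R] [CommRing B] (f : R →+* B) (M : Ideal R)
    (hM : IsNilpotent M) (h : ∀ b, ∃ r, b - f r ∈ M.map f) : Function.Surjective f := by
  have key : ∀ n : ℕ, ∀ b, ∃ r, b - f r ∈ (M ^ n).map f := by
    intro n
    induction n with
    | zero => exact fun b => ⟨0, by simp [Ideal.one_eq_top, Ideal.map_top]⟩
    | succ n ih =>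
      intro b
      obtain ⟨r, hr⟩ := ih b
      suffices ∀ x ∈ (M ^ n).map f, ∃ r, x - f r ∈ (M ^ (n + 1)).map f by
        obtain ⟨r', hr'⟩ := this _ hr
        exact ⟨r + r', by rwa [map_add, ← sub_sub]⟩
      intro x hx
      induction hx using Submodule.span_induction with
      | mem x hx =>
        obtain ⟨a, _, rfl⟩ := hx
        exact ⟨a, by simp⟩
      | zero => exact ⟨0, by simp⟩
      | add x y _ _ hx hy =>
        obtain ⟨a, ha⟩ := hx
        obtain ⟨c, hc⟩ := hy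
        exact ⟨a + c, by rw [map_add, add_sub_add_comm]; exact add_mem ha hc⟩
      | smul d x hxM hx =>
        obtain ⟨a, ha⟩ := hx
        obtain ⟨e, he⟩ := h d
        refine ⟨e * a, ?_⟩
        have : d • x - f (e * a) = f e * (x - f a) + (d - f e) * x := by
          rw [map_mul, smul_eq_mul]; ring
        rw [this]
        refine add_mem (Ideal.mul_mem_left _ _ ha) ?_
        rw [pow_succ', Ideal.map_mul]
        exact Ideal.mul_mem_mul he hxM
  intro b
  obtain ⟨n, hn⟩ := hM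
  obtain ⟨r, hr⟩ := key n b
  rw [hn, Ideal.zero_eq_bot, Ideal.map_bot, Ideal.mem_bot, sub_eq_zero] at hr
  exact ⟨r, hr.symm⟩

theorem isNilpotent_maximalIdeal {Λ k : Type u} [CommRing Λ] [Field k] [Algebra Λ k] (A : Art Λ k) :
    IsNilpotent (IsLocalRing.maximalIdeal A) := by
  rw [← IsLocalRing.jacobson_eq_maximalIdeal ⊥ bot_ne_top]
  exact IsArtinianRing.isNilpotent_jacobson_bot

variable {k : Type u} [Field k] {B₀ : Type u} [CommRing B₀] [Algebra k B₀] {C' C : Art k k}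
  (p : C' ⟶ C) (D : AlgDef B₀ C)

/-- The kernel. -/
abbrev J : Ideal C' := RingHom.ker p.toAlgHom

theorem J_le : J p ≤ IsLocalRing.maximalIdeal C' := fun c hc => by
  rw [mem_maximalIdeal_iff, ← res_app p c, show p c = 0 from hc, map_zero]

theorem J_mul_self (hp : IsSemismallExt p) : J p * J p = ⊥ :=
  le_bot_iff.mp (hp.2 ▸ Ideal.mul_mono_left (J_le p))

theorem sub_res_mem (c : C') : c - algebraMap k C' (C'.res c) ∈ IsLocalRing.maximalIdeal C' := by
  rw [mem_maximalIdeal_iff, map_sub, C'.res.commutes]; exact sub_self _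

theorem smul_J (hp : IsSemismallExt p) (c : C') (j : ↥(J p)) : c • j = C'.res c • j := by
  refine Subtype.ext ?_
  have h := Ideal.mul_mem_mul (sub_res_mem c) j.2
  rw [hp.2, Ideal.mem_bot, sub_mul, sub_eq_zero] at h
  change c * (j : C') = C'.res c • (j : C')
  rw [h, Algebra.smul_def]

/-- An extension of `D` along `p`. -/
structure Ext : Type (u + 1) where
  /-- the algebra -/
  B : Type u
  [commRing : CommRing B]
  [algebra : Algebra C' B]
  flat : Module.Flat C' B
  /-- the reduction -/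
  q : B →+* D.B
  q_algebraMap : ∀ c : C', q (algebraMap C' B c) = algebraMap C D.B (p c)
  q_surjective : Function.Surjective q
  ker_q : RingHom.ker q = (J p).map (algebraMap C' B)

instance (E : Ext p D) : CommRing E.B := E.commRing

instance (E : Ext p D) : Algebra C' E.B := E.algebra

/-- Isomorphism of extensions. -/
def Ext.Rel (E E' : Ext p D) : Prop := ∃ e : E.B ≃ₐ[C'] E'.B, ∀ b, E'.q (e b) = E.q b

theorem Ext.Rel.equivalence : Equivalence (Ext.Rel p D) :=
  ⟨fun _ => ⟨AlgEquiv.refl, fun _ => rfl⟩,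
    fun ⟨e, he⟩ => ⟨e.symm, fun b => by rw [← he (e.symm b), AlgEquiv.apply_symm_apply]⟩,
    fun ⟨e, he⟩ ⟨f, hf⟩ => ⟨e.trans f, fun b => by rw [AlgEquiv.trans_apply, hf, he]⟩⟩

/-- Extensions up to isomorphism. -/
def Ext.setoid : Setoid (Ext p D) := ⟨Ext.Rel p D, Ext.Rel.equivalence p D⟩

/-- The polynomial algebra on the elements of `B₀`. -/
abbrev Pol (k : Type u) [Field k] (B₀ : Type u) (C' : Art k k) : Type u := MvPolynomial B₀ C'

/-- Lifts of the elements of `B₀`. -/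
def gen (b : B₀) : D.B := Function.surjInv D.π_surjective b

theorem π_gen (b : B₀) : D.π (gen D b) = b := Function.surjInv_eq _ b

/-- The presentation of `D` over `C'`. -/
def ψ : Pol k B₀ C' →+* D.B :=
  MvPolynomial.eval₂Hom ((algebraMap C D.B).comp p.toAlgHom.toRingHom) (gen D)

theorem ψ_C (c : C') : ψ p D (MvPolynomial.C c) = algebraMap C D.B (p c) := MvPolynomial.eval₂Hom_C ..

theorem ψ_algebraMap (c : C') : ψ p D (algebraMap C' (Pol k B₀ C') c) = algebraMap C D.B (p c) :=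
  ψ_C p D c

theorem ψ_X (b : B₀) : ψ p D (MvPolynomial.X b) = gen D b := MvPolynomial.eval₂Hom_X' ..

theorem ψ_surjective (hp : IsSemismallExt p) : Function.Surjective (ψ p D) := by
  refine surjective_of_nilpotent (ψ p D)
    ((IsLocalRing.maximalIdeal C').map (algebraMap C' (Pol k B₀ C'))) ?_ fun b => ?_
  · obtain ⟨n, hn⟩ := isNilpotent_maximalIdeal C'
    exact ⟨n, by rw [← Ideal.map_pow, hn]; exact Ideal.map_bot⟩
  refine ⟨MvPolynomial.X (D.π b), ?_⟩
  have h0 : b - gen D (D.π b) ∈ RingHom.ker D.π := by rw [RingHom.mem_ker, map_sub, π_gen, sub_self]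
  rw [D.ker_π] at h0
  rw [ψ_X, Ideal.map_map]
  refine (Ideal.map_le_iff_le_comap.mpr fun c hc => ?_) h0
  obtain ⟨c', rfl⟩ := hp.1 c
  rw [Ideal.mem_comap, ← ψ_algebraMap]
  refine Ideal.mem_map_of_mem ((ψ p D).comp (algebraMap C' (Pol k B₀ C'))) ?_
  rwa [mem_maximalIdeal_iff, ← res_app p, ← mem_maximalIdeal_iff]

/-- The image of `J`. -/
abbrev JA : Ideal (Pol k B₀ C') := (J p).map (algebraMap C' (Pol k B₀ C'))

theorem JA_le : JA p ≤ RingHom.ker (ψ p D) := Ideal.map_le_iff_le_comap.mpr fun c hc => by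
  rw [Ideal.mem_comap, RingHom.mem_ker, ψ_algebraMap, show p c = 0 from hc, map_zero]

/-- The presentation modulo `J`. -/
def ψbar : (Pol k B₀ C' ⧸ JA (B₀ := B₀) p) →+* D.B := Ideal.Quotient.lift _ (ψ p D) (JA_le p D)

theorem ψbar_mk (a : Pol k B₀ C') : ψbar p D (Ideal.Quotient.mk _ a) = ψ p D a := Ideal.Quotient.lift_mk _ _ _

/-- The ideal of `D` in the reduction. -/
abbrev ID : Ideal (Pol k B₀ C' ⧸ JA (B₀ := B₀) p) := RingHom.ker (ψbar p D)

/-- `D.B` in the form used for translation. -/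
abbrev Q : Type u := (Pol k B₀ C' ⧸ JA (B₀ := B₀) p) ⧸ ID p D

/-- The identification. -/
def eQ (hp : IsSemismallExt p) : Q p D ≃+* D.B :=
  RingHom.quotientKerEquivOfSurjective (f := ψbar p D)
    (Ideal.Quotient.lift_surjective_of_surjective _ (JA_le p D) (ψ_surjective p D hp))

/-- Projection. -/
def mkQ : Pol k B₀ C' →+* Q p D := (Ideal.Quotient.mk (ID p D)).comp (Ideal.Quotient.mk _)

theorem eQ_mkQ (hp : IsSemismallExt p) (a : Pol k B₀ C') : eQ p D hp (mkQ p D a) = ψ p D a :=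
  (RingHom.quotientKerEquivOfSurjective_apply_mk _ _).trans (ψbar_mk p D a)

theorem mkQ_surjective : Function.Surjective (mkQ p D) :=
  Ideal.Quotient.mk_surjective.comp Ideal.Quotient.mk_surjective

theorem flat_Q (hp : IsSemismallExt p) : Module.Flat (C' ⧸ J p) (Q p D) := by
  let e₁ : (C' ⧸ J p) →+* C := RingHom.kerLift p.toAlgHom.toRingHom
  have hb : Function.Bijective e₁ := ⟨RingHom.kerLift_injective _, fun c => by
    obtain ⟨c', rfl⟩ := hp.1 c; exact ⟨Ideal.Quotient.mk _ c', rfl⟩⟩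
  have h : algebraMap (C' ⧸ J p) (Q p D) =
      ((eQ p D hp).symm.toRingHom.comp (algebraMap C D.B)).comp e₁ := by
    refine Ideal.Quotient.ringHom_ext (RingHom.ext fun c => (eQ p D hp).injective ?_)
    change eQ p D hp (mkQ p D (algebraMap C' _ c)) = eQ p D hp ((eQ p D hp).symm (algebraMap C D.B (p c)))
    rw [eQ_mkQ, RingEquiv.apply_symm_apply, ψ_algebraMap]
  refine (RingHom.flat_algebraMap_iff (R := C' ⧸ J p) (S := Q p D)).mp ?_
  rw [h]
  exact (RingHom.Flat.of_bijective hb).comp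
    ((RingHom.flat_algebraMap_iff.mpr D.flat).comp (RingHom.Flat.of_bijective (eQ p D hp).symm.bijective))

/-- Reduction of coefficients. -/
def ρ₀ : Pol k B₀ C' →+* MvPolynomial B₀ k := MvPolynomial.map C'.res.toRingHom

/-- The tautological presentation of `B₀`. -/
def π₀ : MvPolynomial B₀ k →ₐ[k] B₀ := MvPolynomial.aeval id

theorem π_ψ (a : Pol k B₀ C') : π₀ (ρ₀ a) = D.π (ψ p D a) := by
  refine RingHom.congr_fun (f := (π₀ : MvPolynomial B₀ k →ₐ[k] B₀).toRingHom.comp ρ₀)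
    (g := D.π.comp (ψ p D)) (MvPolynomial.ringHom_ext (fun c => ?_) fun b => ?_) a
  · rw [RingHom.comp_apply, RingHom.comp_apply, ψ_C, D.π_algebraMap, res_app, ρ₀, MvPolynomial.map_C]
    exact MvPolynomial.aeval_C _ _
  · rw [RingHom.comp_apply, RingHom.comp_apply, ψ_X, π_gen, ρ₀, MvPolynomial.map_X]
    exact MvPolynomial.aeval_X _ _

theorem ρ₀_surjective : Function.Surjective (ρ₀ (k := k) (B₀ := B₀) (C' := C')) :=
  MvPolynomial.map_surjective _ C'.res_surjective

theorem algebraMap_canon (f : MvPolynomial B₀ k) :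
    algebraMap (CotT.canon k B₀).toExtension.Ring B₀ f = π₀ f :=
  (CotT.canon k B₀).algebraMap_apply f

/-- The class of an element of the kernel in the conormal module. -/
def cmk (f : MvPolynomial B₀ k) (h : π₀ f = 0) : (CotT.canon k B₀).toExtension.Cotangent :=
  Algebra.Extension.Cotangent.mk ⟨f, (algebraMap_canon f).trans h⟩

theorem cmk_congr {f g : MvPolynomial B₀ k} (e : f = g) (h : π₀ f = 0) (h' : π₀ g = 0) :
    cmk f h = cmk g h' := by subst e; rfl

theorem cmk_add (f g : MvPolynomial B₀ k) (hf : π₀ f = 0) (hg : π₀ g = 0) (h : π₀ (f + g) = 0) :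
    cmk (f + g) h = cmk f hf + cmk g hg := by
  refine Eq.trans ?_ (map_add (Algebra.Extension.Cotangent.mk (P := (CotT.canon k B₀).toExtension)) _ _)
  rfl

theorem cmk_mul (r f : MvPolynomial B₀ k) (hf : π₀ f = 0) (h : π₀ (r * f) = 0) :
    cmk (r * f) h = π₀ r • cmk f hf := by
  rw [← algebraMap_canon]
  refine Eq.trans ?_ (algebraMap_smul (R := (CotT.canon k B₀).toExtension.Ring) B₀ _ _).symm
  refine Eq.trans ?_ (map_smul (Algebra.Extension.Cotangent.mk (P := (CotT.canon k B₀).toExtension)) _ _)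
  rfl

theorem exists_cmk (z : (CotT.canon k B₀).toExtension.Cotangent) : ∃ f h, cmk f h = z := by
  obtain ⟨⟨f, hf⟩, rfl⟩ := Algebra.Extension.Cotangent.mk_surjective z
  exact ⟨f, (algebraMap_canon f).symm.trans hf, rfl⟩

/-- The coefficient module. -/
abbrev N : Type u := B₀ ⊗[k] ↥(J p)

variable (hp : IsSemismallExt p)

theorem tmul_eq_zero (q : Q p D) (hq : D.π (eQ p D hp q) = 0) (j : ↥(J p)) :
    q ⊗ₜ[C'] j = 0 := by
  have h1 : eQ p D hp q ∈ RingHom.ker D.π := hq
  rw [D.ker_π] at h1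
  suffices ∀ x ∈ (IsLocalRing.maximalIdeal C).map (algebraMap C D.B), (eQ p D hp).symm x ⊗ₜ[C'] j = 0 by
    simpa using this _ h1
  intro x hx
  induction hx using Submodule.span_induction generalizing j with
  | mem x hx =>
    obtain ⟨c, hc, rfl⟩ := hx
    obtain ⟨c', rfl⟩ := hp.1 c
    have : (eQ p D hp).symm (algebraMap C D.B (p c')) = c' • (1 : Q p D) := by
      rw [RingEquiv.symm_apply_eq, ← Algebra.algebraMap_eq_smul_one]
      exact ((eQ_mkQ p D hp _).trans (ψ_algebraMap p D c')).symm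
    rw [this, TensorProduct.smul_tmul, smul_J p hp, ← res_app p,
      (mem_maximalIdeal_iff _ _).mp hc, zero_smul, TensorProduct.tmul_zero]
  | zero => rw [map_zero, TensorProduct.zero_tmul]
  | add x y _ _ hx hy => rw [map_add, TensorProduct.add_tmul, hx, hy, add_zero]
  | smul a x _ hx =>
    have h := congrArg (fun z => (eQ p D hp).symm a • z) (hx j)
    simp only [TensorProduct.smul_tmul', smul_zero, smul_eq_mul] at h
    rwa [smul_eq_mul, map_mul]

/-- `Q ⊗ J → B₀ ⊗ J`. -/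
def toN : Q p D ⊗[C'] ↥(J p) →+ N (B₀ := B₀) p :=
  TensorProduct.liftAddHom
    (AddMonoidHom.mk' (fun q => AddMonoidHom.mk' (fun j => D.π (eQ p D hp q) ⊗ₜ[k] j)
      fun a b => TensorProduct.tmul_add _ _ _)
      fun a b => AddMonoidHom.ext fun j => by
        simp only [AddMonoidHom.mk'_apply, AddMonoidHom.add_apply, map_add, TensorProduct.add_tmul])
    fun c q j => by
      obtain ⟨a, rfl⟩ := mkQ_surjective p D q
      have h : c • mkQ p D a = mkQ p D (algebraMap C' _ c * a) := by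
        rw [map_mul, Algebra.smul_def]; rfl
      simp only [AddMonoidHom.mk'_apply, h, eQ_mkQ, smul_J p hp]
      rw [map_mul, map_mul, ψ_algebraMap, D.π_algebraMap, res_app, ← Algebra.smul_def,
        TensorProduct.smul_tmul]

theorem toN_tmul (a : Pol k B₀ C') (j : ↥(J p)) :
    toN p D hp (mkQ p D a ⊗ₜ[C'] j) = D.π (ψ p D a) ⊗ₜ[k] j := by
  change D.π (eQ p D hp (mkQ p D a)) ⊗ₜ[k] j = _
  rw [eQ_mkQ]

theorem toN_smul (a : Pol k B₀ C') (z : Q p D ⊗[C'] ↥(J p)) :
    toN p D hp (a • z) = D.π (ψ p D a) • toN p D hp z := by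
  induction z using TensorProduct.induction_on with
  | zero => simp
  | add x y hx hy => rw [smul_add, map_add, map_add, hx, hy, smul_add]
  | tmul q j =>
    obtain ⟨a', rfl⟩ := mkQ_surjective p D q
    have h : a • mkQ p D a' = mkQ p D (a * a') := by rw [map_mul, Algebra.smul_def]; rfl
    rw [TensorProduct.smul_tmul', h, toN_tmul, toN_tmul, TensorProduct.smul_tmul', map_mul, map_mul,
      smul_eq_mul]

theorem toN_bijective : Function.Bijective (toN p D hp) := by
  have key : ∀ (q : Q p D) (j : ↥(J p)),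
      q ⊗ₜ[C'] j = mkQ p D (MvPolynomial.X (D.π (eQ p D hp q))) ⊗ₜ[C'] j := fun q j => by
    rw [← sub_eq_zero, ← TensorProduct.sub_tmul]
    exact tmul_eq_zero p D hp _ (by rw [map_sub, eQ_mkQ, map_sub, ψ_X, π_gen, sub_self]) j
  have hadd : ∀ (b b' : B₀) (j : ↥(J p)), mkQ p D (MvPolynomial.X (b + b')) ⊗ₜ[C'] j =
      mkQ p D (MvPolynomial.X b) ⊗ₜ[C'] j + mkQ p D (MvPolynomial.X b') ⊗ₜ[C'] j := fun b b' j => by
    rw [← TensorProduct.add_tmul, key (mkQ p D (MvPolynomial.X b) + mkQ p D (MvPolynomial.X b')) j,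
      map_add, map_add, eQ_mkQ, eQ_mkQ, ψ_X, ψ_X, π_gen, π_gen]
  let inv : N (B₀ := B₀) p →+ Q p D ⊗[C'] ↥(J p) :=
    TensorProduct.liftAddHom
      (AddMonoidHom.mk' (fun b => AddMonoidHom.mk' (fun j => mkQ p D (MvPolynomial.X b) ⊗ₜ[C'] j)
        fun a c => TensorProduct.tmul_add _ _ _)
        fun b b' => AddMonoidHom.ext fun j => hadd b b' j)
      fun c b j => by
        change mkQ p D (MvPolynomial.X (c • b)) ⊗ₜ[C'] j = mkQ p D (MvPolynomial.X b) ⊗ₜ[C'] (c • j)
        have hc : c • j = (algebraMap k C' c) • j := by rw [smul_J p hp, C'.res.commutes]; rfl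
        rw [hc, ← TensorProduct.smul_tmul, key (algebraMap k C' c • mkQ p D (MvPolynomial.X b)) j]
        congr 3
        rw [show algebraMap k C' c • mkQ p D (MvPolynomial.X b) =
          mkQ p D (algebraMap C' _ (algebraMap k C' c) * MvPolynomial.X b) by
            rw [map_mul, Algebra.smul_def]; rfl, eQ_mkQ, map_mul, map_mul, ψ_algebraMap,
          D.π_algebraMap, res_app, ψ_X, π_gen, C'.res.commutes, Algebra.smul_def]
        rfl
  refine Function.bijective_iff_has_inverse.mpr ⟨inv, fun z => ?_, fun z => ?_⟩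
  · induction z using TensorProduct.induction_on with
    | zero => simp
    | add x y hx hy => rw [map_add, map_add, hx, hy]
    | tmul q j => exact (key q j).symm
  · induction z using TensorProduct.induction_on with
    | zero => simp
    | add x y hx hy => rw [map_add, map_add, hx, hy]
    | tmul b j =>
      change toN p D hp (mkQ p D (MvPolynomial.X b) ⊗ₜ[C'] j) = _
      rw [toN_tmul, ψ_X, π_gen]

include hp in
/-- Elements of the ideal killed by reduction lie in `m I`. -/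
theorem exists_smul_of_ρ₀_eq_zero (x : Pol k B₀ C') (hx : Ideal.Quotient.mk (JA (B₀ := B₀) p) x ∈ ID p D)
    (h0 : ρ₀ x = 0) : Ideal.Quotient.mk (JA (B₀ := B₀) p) x ∈
      (IsLocalRing.maximalIdeal C').map (algebraMap C' (Pol k B₀ C' ⧸ JA (B₀ := B₀) p)) * ID p D := by
  classical
  have hxm : x ∈ (IsLocalRing.maximalIdeal C').map (algebraMap C' (Pol k B₀ C')) := by
    rw [MvPolynomial.algebraMap_eq, MvPolynomial.mem_map_C_iff]
    intro d
    rw [mem_maximalIdeal_iff]
    have := congrArg (MvPolynomial.coeff d) h0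
    rwa [ρ₀, MvPolynomial.coeff_map, MvPolynomial.coeff_zero] at this
  obtain ⟨n, a, y, hsum⟩ : ∃ (n : ℕ) (a : Fin n → C') (y : Fin n → Pol k B₀ C'),
      (∀ i, a i ∈ IsLocalRing.maximalIdeal C') ∧ x = ∑ i, algebraMap C' _ (a i) * y i := by
    clear hx h0
    induction hxm using Submodule.span_induction with
    | mem x hx =>
      obtain ⟨c, hc, rfl⟩ := hx
      exact ⟨1, fun _ => c, fun _ => 1, fun _ => hc, by simp⟩
    | zero => exact ⟨0, Fin.elim0, Fin.elim0, fun i => i.elim0, by simp⟩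
    | add x z _ _ hx hz =>
      obtain ⟨n, a, y, ha, rfl⟩ := hx
      obtain ⟨m, c, w, hc, rfl⟩ := hz
      refine ⟨n + m, Fin.append a c, Fin.append y w, fun i => ?_, ?_⟩
      · refine Fin.addCases (fun i => ?_) (fun i => ?_) i
        · rw [Fin.append_left]; exact ha i
        · rw [Fin.append_right]; exact hc i
      · rw [Fin.sum_univ_add]; simp only [Fin.append_left, Fin.append_right]
    | smul r x _ hx =>
      obtain ⟨n, a, y, ha, rfl⟩ := hx
      exact ⟨n, a, fun i => r * y i, ha, by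
        rw [smul_eq_mul, Finset.mul_sum]; exact Finset.sum_congr rfl fun i _ => by ring⟩
  obtain ⟨ha, rfl⟩ := hsum
  let a' : Fin n → C := fun i => p (a i)
  have hrel : ∑ i, a' i • ψ p D (y i) = 0 := by
    have := hx
    rw [RingHom.mem_ker, ψbar_mk, map_sum] at this
    refine Eq.trans (Finset.sum_congr rfl fun i _ => ?_) this
    rw [map_mul, ψ_algebraMap, Algebra.smul_def]
  obtain ⟨m, A, z, hz, hA⟩ := (Module.Flat.iff_forall_isTrivialRelation.mp D.flat) hrel
  choose c hc using fun i j => hp.1 (A i j)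
  choose w hw using fun j => ψ_surjective p D hp (z j)
  let u : Fin n → Pol k B₀ C' := fun i => y i - ∑ j, algebraMap C' _ (c i j) * w j
  have hu : ∀ i, Ideal.Quotient.mk (JA (B₀ := B₀) p) (u i) ∈ ID p D := fun i => by
    rw [RingHom.mem_ker, ψbar_mk, map_sub, map_sum, sub_eq_zero]
    refine (hz i).trans ?_
    exact Finset.sum_congr rfl fun j _ => by
      rw [map_mul, ψ_algebraMap, hw, hc, Algebra.smul_def]
  have hJ : ∀ j, ∑ i, a i * c i j ∈ J p := fun j => by
    change p (∑ i, a i * c i j) = 0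
    rw [map_sum, ← hA j]
    exact Finset.sum_congr rfl fun i _ => by rw [map_mul, hc]
  have hx' : Ideal.Quotient.mk (JA (B₀ := B₀) p) (∑ i, algebraMap C' _ (a i) * y i) =
      ∑ i, algebraMap C' _ (a i) * Ideal.Quotient.mk (JA (B₀ := B₀) p) (u i) := by
    have h : ∑ i, algebraMap C' (Pol k B₀ C') (a i) * y i - ∑ i, algebraMap C' _ (a i) * u i =
        ∑ j, algebraMap C' _ (∑ i, a i * c i j) * w j := by
      simp only [u, mul_sub, Finset.sum_sub_distrib, sub_sub_cancel, Finset.mul_sum, map_sum,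
        Finset.sum_mul, map_mul]
      rw [Finset.sum_comm]
      exact Finset.sum_congr rfl fun j _ => Finset.sum_congr rfl fun i _ => mul_assoc _ _ _ |>.symm
    have h' : ∑ i, algebraMap C' (Pol k B₀ C') (a i) * y i - ∑ i, algebraMap C' _ (a i) * u i ∈
        JA (B₀ := B₀) p := h ▸ Ideal.sum_mem _ fun j _ =>
      Ideal.mul_mem_right _ _ (Ideal.mem_map_of_mem _ (hJ j))
    rw [Ideal.Quotient.eq.mpr h', map_sum]
    exact Finset.sum_congr rfl fun i _ => by rw [map_mul]; rfl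
  rw [hx']
  exact Ideal.sum_mem _ fun i _ => Ideal.mul_mem_mul (Ideal.mem_map_of_mem _ (ha i)) (hu i)

theorem π₀_ρ₀_eq_zero {x : Pol k B₀ C'} (hx : Ideal.Quotient.mk _ x ∈ ID p D) :
    π₀ (ρ₀ x) = 0 := by
  rw [π_ψ p D, ← ψbar_mk, show ψbar p D _ = 0 from hx, map_zero]

theorem ρ₀_map_maximalIdeal {x : Pol k B₀ C'}
    (hx : x ∈ (IsLocalRing.maximalIdeal C').map (algebraMap C' (Pol k B₀ C'))) : ρ₀ x = 0 := by
  refine (Ideal.map_le_iff_le_comap.mpr fun c hc => ?_ :
    (IsLocalRing.maximalIdeal C').map (algebraMap C' (Pol k B₀ C')) ≤ RingHom.ker ρ₀) hx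
  rw [Ideal.mem_comap, RingHom.mem_ker, MvPolynomial.algebraMap_eq, ρ₀, MvPolynomial.map_C]
  exact (congrArg MvPolynomial.C ((mem_maximalIdeal_iff _ _).mp hc)).trans MvPolynomial.C_0

include hp in
/-- The element of the kernel of the fibre lifts to the ideal. -/
theorem exists_lift_mem (f : MvPolynomial B₀ k) (hf : π₀ f = 0) :
    ∃ x, Ideal.Quotient.mk _ x ∈ ID p D ∧ ρ₀ x = f := by
  obtain ⟨x₀, hx₀⟩ := ρ₀_surjective (C' := C') f
  have h0 : ψ p D x₀ ∈ RingHom.ker D.π := by rw [RingHom.mem_ker, ← π_ψ, hx₀]; exact hf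
  have hle : RingHom.ker D.π ≤
      ((IsLocalRing.maximalIdeal C').map (algebraMap C' (Pol k B₀ C'))).map (ψ p D) := by
    rw [D.ker_π, Ideal.map_map]
    refine Ideal.map_le_iff_le_comap.mpr fun c hc => ?_
    obtain ⟨c', rfl⟩ := hp.1 c
    rw [Ideal.mem_comap, ← ψ_algebraMap]
    refine Ideal.mem_map_of_mem ((ψ p D).comp (algebraMap C' (Pol k B₀ C'))) ?_
    rwa [mem_maximalIdeal_iff, ← res_app p, ← mem_maximalIdeal_iff]
  obtain ⟨y, hy, hyx⟩ := (Ideal.mem_map_iff_of_surjective _ (ψ_surjective p D hp)).mp (hle h0)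
  exact ⟨x₀ - y, by rw [RingHom.mem_ker, ψbar_mk, map_sub, hyx, sub_self],
    by rw [map_sub, ρ₀_map_maximalIdeal hy, sub_zero, hx₀]⟩

/-- Every linear map on the ideal vanishes on the elements with trivial reduction. -/
theorem toN_eq_zero_of_ρ₀ (φ' : ↥(ID p D) →ₗ[Pol k B₀ C'] (Q p D ⊗[C'] ↥(J p))) (x : Pol k B₀ C')
    (hx : Ideal.Quotient.mk _ x ∈ ID p D) (h0 : ρ₀ x = 0) : toN p D hp (φ' ⟨_, hx⟩) = 0 := by
  have key : ∀ z ∈ (IsLocalRing.maximalIdeal C').map
      (algebraMap C' (Pol k B₀ C' ⧸ JA (B₀ := B₀) p)) * ID p D,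
      ∃ hz : z ∈ ID p D, toN p D hp (φ' ⟨z, hz⟩) = 0 := by
    intro z hz
    refine Submodule.mul_induction_on hz (fun a ha b hb => ?_) (fun a b iha ihb => ?_)
    · obtain ⟨a', rfl⟩ := Ideal.Quotient.mk_surjective a
      refine ⟨Ideal.mul_mem_left _ _ hb, ?_⟩
      have e : (⟨Ideal.Quotient.mk _ a' * b, Ideal.mul_mem_left _ _ hb⟩ : ↥(ID p D)) =
          a' • (⟨b, hb⟩ : ↥(ID p D)) := Subtype.ext rfl
      have h : D.π (ψ p D a') = 0 := by
        rw [← ψbar_mk]
        refine (Ideal.map_le_iff_le_comap.mpr fun c hc => ?_ :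
          _ ≤ RingHom.ker (D.π.comp (ψbar p D))) ha
        rw [Ideal.mem_comap, RingHom.mem_ker, RingHom.comp_apply,
          IsScalarTower.algebraMap_apply C' (Pol k B₀ C') (Pol k B₀ C' ⧸ JA (B₀ := B₀) p),
          Ideal.Quotient.algebraMap_eq, ψbar_mk, ψ_algebraMap, D.π_algebraMap, res_app,
          (mem_maximalIdeal_iff _ _).mp hc, map_zero]
      rw [e, map_smul, toN_smul, h, zero_smul]
    · obtain ⟨ha, ha'⟩ := iha
      obtain ⟨hb, hb'⟩ := ihb
      refine ⟨add_mem ha hb, ?_⟩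
      have e : (⟨_, add_mem ha hb⟩ : ↥(ID p D)) = ⟨a, ha⟩ + ⟨b, hb⟩ := rfl
      rw [e, map_add, map_add, ha', hb', add_zero]
  exact (key _ (exists_smul_of_ρ₀_eq_zero p D hp x hx h0)).choose_spec

/-- Linear maps on the ideal are the linear maps on the conormal module of the fibre. -/
theorem exists_hom (φ : (CotT.canon k B₀).toExtension.Cotangent →ₗ[B₀] N (B₀ := B₀) p) :
    ∃ φ' : ↥(ID p D) →ₗ[Pol k B₀ C'] (Q p D ⊗[C'] ↥(J p)),
      ∀ (x : Pol k B₀ C') (hx : Ideal.Quotient.mk _ x ∈ ID p D),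
        toN p D hp (φ' ⟨_, hx⟩) = φ (cmk (ρ₀ x) (π₀_ρ₀_eq_zero p D hx)) := by
  choose l hl using fun x : ↥(ID p D) => Ideal.Quotient.mk_surjective x.1
  let f : ↥(ID p D) → N (B₀ := B₀) p := fun x =>
    φ (cmk (ρ₀ (l x)) (π₀_ρ₀_eq_zero p D (by rw [hl]; exact x.2)))
  have hf : ∀ (x : ↥(ID p D)) (y : Pol k B₀ C') (hy : Ideal.Quotient.mk _ y = x.1),
      f x = φ (cmk (ρ₀ y) (π₀_ρ₀_eq_zero p D (by rw [hy]; exact x.2))) := fun x y hy => by
    refine congrArg φ (cmk_congr ?_ _ _)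
    rw [← sub_eq_zero, ← map_sub]
    refine ρ₀_map_maximalIdeal ?_
    exact Ideal.map_mono (J_le p) (Ideal.Quotient.eq.mp ((hl x).trans hy.symm))
  let e := AddEquiv.ofBijective (toN p D hp) (toN_bijective p D hp)
  refine ⟨{ toFun := fun x => e.symm (f x), map_add' := fun x y => ?_, map_smul' := fun r x => ?_ },
    fun x hx => (AddEquiv.apply_symm_apply e _).trans (hf ⟨_, hx⟩ x rfl)⟩
  · rw [← map_add]
    refine congrArg e.symm ?_
    rw [hf (x + y) (l x + l y) (by rw [map_add, hl, hl]; rfl)]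
    simp only [f, ← map_add]
    refine congrArg φ ((cmk_congr (map_add _ _ _) _ ?_).trans (cmk_add _ _ _ _ _))
    rw [map_add, π₀_ρ₀_eq_zero p D (x := l x) (by rw [hl]; exact x.2),
      π₀_ρ₀_eq_zero p D (x := l y) (by rw [hl]; exact y.2), add_zero]
  · refine e.injective ?_
    rw [RingHom.id_apply, AddEquiv.apply_symm_apply]
    refine Eq.trans ?_ (toN_smul p D hp r (e.symm (f x))).symm
    change _ = _ • e (e.symm (f x))
    rw [AddEquiv.apply_symm_apply, hf (r • x) (r * l x) (by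
        rw [map_mul, hl]; rfl)]
    simp only [f]
    rw [← map_smul φ, ← π_ψ p D r]
    refine congrArg φ ((cmk_congr (map_mul _ _ _) _ ?_).trans (cmk_mul _ _ _ _))
    rw [map_mul, π₀_ρ₀_eq_zero p D (x := l x) (by rw [hl]; exact x.2), mul_zero]

theorem exists_cot_hom (φ' : ↥(ID p D) →ₗ[Pol k B₀ C'] (Q p D ⊗[C'] ↥(J p))) :
    ∃ φ : (CotT.canon k B₀).toExtension.Cotangent →ₗ[B₀] N (B₀ := B₀) p,
      ∀ (x : Pol k B₀ C') (hx : Ideal.Quotient.mk _ x ∈ ID p D),
        toN p D hp (φ' ⟨_, hx⟩) = φ (cmk (ρ₀ x) (π₀_ρ₀_eq_zero p D hx)) := by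
  have hwd : ∀ (x y : Pol k B₀ C') (hx : Ideal.Quotient.mk _ x ∈ ID p D)
      (hy : Ideal.Quotient.mk _ y ∈ ID p D), ρ₀ x = ρ₀ y →
      toN p D hp (φ' ⟨_, hx⟩) = toN p D hp (φ' ⟨_, hy⟩) := by
    intro x y hx hy h
    rw [← sub_eq_zero, ← map_sub, ← map_sub]
    refine (congrArg (fun z => toN p D hp (φ' z)) (Subtype.ext ?_)).trans
      (toN_eq_zero_of_ρ₀ p D hp φ' (x - y) (by rw [map_sub]; exact sub_mem hx hy)
        (by rw [map_sub, h, sub_self]))
    exact (map_sub _ _ _).symm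
  choose l hlI hlρ using fun f : {f : MvPolynomial B₀ k // π₀ f = 0} => exists_lift_mem p D hp f.1 f.2
  let P₀ := (CotT.canon k B₀).toExtension
  have hker : ∀ f : ↥P₀.ker, π₀ (f.1 : MvPolynomial B₀ k) = 0 := fun f =>
    (algebraMap_canon _).symm.trans f.2
  let g : ↥P₀.ker → N (B₀ := B₀) p := fun f => toN p D hp (φ' ⟨_, hlI ⟨f.1, hker f⟩⟩)
  have hg : ∀ (f : ↥P₀.ker) (x : Pol k B₀ C') (hx : Ideal.Quotient.mk _ x ∈ ID p D),
      ρ₀ x = (f.1 : MvPolynomial B₀ k) → g f = toN p D hp (φ' ⟨_, hx⟩) :=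
    fun f x hx h => hwd _ _ _ hx ((hlρ ⟨f.1, hker f⟩).trans h.symm)
  let ψ₀ : ↥P₀.ker →ₗ[P₀.Ring] N (B₀ := B₀) p :=
    { toFun := g
      map_add' := fun f f' => by
        rw [hg (f + f') (l ⟨f.1, hker f⟩ + l ⟨f'.1, hker f'⟩)
          (by rw [map_add]; exact add_mem (hlI _) (hlI _))
          (by rw [map_add, hlρ, hlρ]; rfl)]
        simp only [g, ← map_add]
        exact congrArg (fun z => toN p D hp (φ' z)) (Subtype.ext (map_add _ _ _))
      map_smul' := fun r f => by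
        obtain ⟨r', hr'⟩ := ρ₀_surjective (C' := C') (r : MvPolynomial B₀ k)
        rw [RingHom.id_apply, hg (r • f) (r' * l ⟨f.1, hker f⟩)
          (by rw [map_mul]; exact Ideal.mul_mem_left _ _ (hlI _))
          (by rw [map_mul, hlρ, hr']; rfl),
          ← algebraMap_smul B₀ r (g f), algebraMap_canon r, ← hr', π_ψ p D]
        refine Eq.trans ?_ (toN_smul p D hp r' (φ' ⟨_, hlI ⟨f.1, hker f⟩⟩))
        rw [← map_smul φ']
        exact congrArg (fun z => toN p D hp (φ' z)) (Subtype.ext (map_mul _ _ _)) }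
  have hle : P₀.ker • (⊤ : Submodule P₀.Ring P₀.ker) ≤ LinearMap.ker ψ₀ :=
    Submodule.smul_le.2 fun r hr n _ => by
      rw [LinearMap.mem_ker, map_smul, ← algebraMap_smul B₀, show algebraMap P₀.Ring B₀ r = 0 from hr,
        zero_smul]
  let f₀ : P₀.Cotangent ≃ₗ[P₀.Ring] P₀.ker.Cotangent :=
    { __ := AddEquiv.refl _, map_smul' := Algebra.Extension.Cotangent.val_smul' }
  refine ⟨((Submodule.liftQ _ ψ₀ hle).comp f₀.toLinearMap).extendScalarsOfSurjective
    P₀.algebraMap_surjective, fun x hx => ?_⟩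
  exact (hg ⟨ρ₀ x, (algebraMap_canon _).trans (π₀_ρ₀_eq_zero p D hx)⟩ x hx rfl).symm

section Classify

/-- The derivation with prescribed values. -/
abbrev der (w : B₀ → Pol k B₀ C' ⊗[C'] ↥(J p)) :
    Derivation C' (Pol k B₀ C') (Pol k B₀ C' ⊗[C'] ↥(J p)) :=
  MvPolynomial.mkDerivation C' w

/-- The infinitesimal change of coordinates. -/
def α (w : B₀ → Pol k B₀ C' ⊗[C'] ↥(J p)) : Pol k B₀ C' →ₐ[C'] Pol k B₀ C' :=
  MvPolynomial.aeval fun b => MvPolynomial.X b + Translate.rho (J p) (w b)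

include hp in
theorem rho_mul_rho (z z' : Pol k B₀ C' ⊗[C'] ↥(J p)) :
    Translate.rho (J p) z * Translate.rho (J p) z' = 0 := by
  have h1 := (Translate.mem_map_iff_exists (J p) (A' := Pol k B₀ C') _).mpr ⟨z, rfl⟩
  have h2 := (Translate.mem_map_iff_exists (J p) (A' := Pol k B₀ C') _).mpr ⟨z', rfl⟩
  have h := Ideal.mul_mem_mul h1 h2
  rwa [← Ideal.map_mul, J_mul_self p hp, Ideal.map_bot, Ideal.mem_bot] at h

include hp in
theorem α_apply (w : B₀ → Pol k B₀ C' ⊗[C'] ↥(J p)) (f : Pol k B₀ C') :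
    α p w f = f + Translate.rho (J p) (der p w f) := by
  induction f using MvPolynomial.induction_on with
  | C a => rw [MvPolynomial.derivation_C, map_zero, add_zero]; exact MvPolynomial.aeval_C _ _
  | add f g hf hg => rw [map_add, hf, hg, map_add, map_add]; ring
  | mul_X f b hf =>
    rw [map_mul, hf, α, MvPolynomial.aeval_X, Derivation.leibniz, MvPolynomial.mkDerivation_X, map_add,
      Translate.rho_smul, Translate.rho_smul]
    linear_combination rho_mul_rho p hp (der p w f) (w b)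

include hp in
theorem red_smul_J (c : C') (hc : c ∈ J p) (z : Pol k B₀ C' ⊗[C'] ↥(J p)) : c • z = 0 := by
  induction z using TensorProduct.induction_on with
  | zero => simp
  | add x y hx hy => rw [smul_add, hx, hy, add_zero]
  | tmul a j =>
    rw [← TensorProduct.tmul_smul]
    have : c • j = 0 := Subtype.ext (by
      have h := Ideal.mul_mem_mul hc j.2
      rw [J_mul_self p hp, Ideal.mem_bot] at h
      exact h)
    rw [this, TensorProduct.tmul_zero]

/-- Composite of a derivation with the reduction. -/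
abbrev δ (w : B₀ → Pol k B₀ C' ⊗[C'] ↥(J p)) (f : Pol k B₀ C') : N (B₀ := B₀) p :=
  toN p D hp (Translate.red (J p) (ID p D) (der p w f))

theorem red_mk_tmul (a : Pol k B₀ C') (j : ↥(J p)) :
    Translate.red (J p) (ID p D) (a ⊗ₜ[C'] j) = mkQ p D a ⊗ₜ[C'] j := rfl

include hp in
theorem toN_red_smul (a : Pol k B₀ C') (z : Pol k B₀ C' ⊗[C'] ↥(J p)) :
    toN p D hp (Translate.red (J p) (ID p D) (a • z)) =
      D.π (ψ p D a) • toN p D hp (Translate.red (J p) (ID p D) z) := by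
  rw [Translate.red_smul]; exact toN_smul p D hp a _

include hp in
theorem δ_mul (w : B₀ → Pol k B₀ C' ⊗[C'] ↥(J p)) (f g : Pol k B₀ C') :
    δ p D hp w (f * g) = π₀ (ρ₀ f) • δ p D hp w g + π₀ (ρ₀ g) • δ p D hp w f := by
  simp only [δ, Derivation.leibniz, map_add, toN_red_smul, π_ψ p D]

include hp in
theorem δ_congr (w : B₀ → Pol k B₀ C' ⊗[C'] ↥(J p)) {f g : Pol k B₀ C'} (h : f - g ∈ JA (B₀ := B₀) p) :
    δ p D hp w f = δ p D hp w g := by
  rw [← sub_eq_zero]
  simp only [δ, ← map_sub]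
  suffices h2 : ∀ x ∈ JA (B₀ := B₀) p, toN p D hp (Translate.red (J p) (ID p D) (der p w x)) = 0 from h2 _ h
  intro x hx
  induction hx using Submodule.span_induction with
  | mem x hx =>
    obtain ⟨c, _, rfl⟩ := hx
    rw [Derivation.map_algebraMap, map_zero, map_zero]
  | zero => rw [map_zero, map_zero, map_zero]
  | add x y _ _ hx hy => rw [map_add, map_add, map_add, hx, hy, add_zero]
  | smul a x hx0 hx =>
    rw [smul_eq_mul, Derivation.leibniz, map_add, map_add, toN_red_smul, hx, smul_zero, zero_add,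
      toN_red_smul, show D.π (ψ p D x) = 0 from by
        rw [show ψ p D x = 0 from JA_le p D hx0, map_zero], zero_smul]

include hp in
theorem α_neg (w : B₀ → Pol k B₀ C' ⊗[C'] ↥(J p)) : (α p (-w)).comp (α p w) = AlgHom.id C' _ := by
  refine MvPolynomial.algHom_ext fun b => ?_
  have h0 : Translate.rho (J p) (der p (-w) (Translate.rho (J p) (w b))) = 0 := by
    obtain ⟨z, hz⟩ : ∃ z, z = Translate.rho (J p) (w b) := ⟨_, rfl⟩
    have hm : z ∈ JA (B₀ := B₀) p := (Translate.mem_map_iff_exists (J p) _).mpr ⟨w b, hz.symm⟩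
    rw [← hz]
    clear hz
    induction hm using Submodule.span_induction with
    | mem x hx =>
      obtain ⟨c, _, rfl⟩ := hx
      rw [Derivation.map_algebraMap, map_zero]
    | zero => rw [map_zero, map_zero]
    | add x y _ _ hx hy => rw [map_add, map_add, hx, hy, add_zero]
    | smul a x hx0 hx =>
      obtain ⟨u, hu⟩ := (Translate.mem_map_iff_exists (J p) _).mp hx0
      rw [smul_eq_mul, Derivation.leibniz, map_add, Translate.rho_smul, Translate.rho_smul, hx, mul_zero,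
        zero_add, ← hu, rho_mul_rho p hp]
  change α p (-w) (α p w (MvPolynomial.X b)) = MvPolynomial.X b
  rw [α_apply p hp w, MvPolynomial.mkDerivation_X, α_apply p hp (-w), map_add (der p (-w)), map_add,
    MvPolynomial.mkDerivation_X, h0, Pi.neg_apply, map_neg]
  ring

/-- Flat lifts of the ideal. -/
abbrev Lifts : Type u :=
  {I' : Ideal (Pol k B₀ C') // Module.Flat C' (Pol k B₀ C' ⧸ I') ∧
    I'.map (Ideal.Quotient.mk (JA (B₀ := B₀) p)) = ID p D}

theorem le_ker_ψ (I' : Lifts p D) : ∀ x ∈ I'.1, ψ p D x = 0 := fun x hx => by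
  have h := Translate.mem_of_map_eq (J p) (ID p D) I'.2.2 hx
  rwa [RingHom.mem_ker, ψbar_mk] at h

/-- The extension given by a lift of the ideal. -/
def ofIdeal (I' : Lifts p D) : Ext p D where
  B := Pol k B₀ C' ⧸ I'.1
  flat := I'.2.1
  q := Ideal.Quotient.lift _ (ψ p D) (le_ker_ψ p D I')
  q_algebraMap c := by
    rw [IsScalarTower.algebraMap_apply C' (Pol k B₀ C'), Ideal.Quotient.algebraMap_eq,
      Ideal.Quotient.lift_mk, ψ_algebraMap]
  q_surjective := Ideal.Quotient.lift_surjective_of_surjective _ _ (ψ_surjective p D hp)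
  ker_q := by
    rw [IsScalarTower.algebraMap_eq C' (Pol k B₀ C'), ← Ideal.map_map, Ideal.Quotient.algebraMap_eq]
    refine le_antisymm (fun x hx => ?_) (Ideal.map_le_iff_le_comap.mpr fun x hx => ?_)
    · obtain ⟨x, rfl⟩ := Ideal.Quotient.mk_surjective x
      rw [RingHom.mem_ker, Ideal.Quotient.lift_mk, ← ψbar_mk, ← RingHom.mem_ker] at hx
      have hx' : Ideal.Quotient.mk (JA (B₀ := B₀) p) x ∈ I'.1.map (Ideal.Quotient.mk _) := I'.2.2.ge hx
      rw [Ideal.mem_quotient_iff_mem_sup, sup_comm, ← Ideal.mem_quotient_iff_mem_sup] at hx'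
      exact hx'
    · rw [Ideal.mem_comap, RingHom.mem_ker, Ideal.Quotient.lift_mk]
      exact JA_le p D hx

include hp in
theorem exists_ofIdeal_rel (E : Ext p D) : ∃ I' : Lifts p D, Ext.Rel p D (ofIdeal p D hp I') E := by
  choose g hg using fun b => E.q_surjective (gen D b)
  let φE : Pol k B₀ C' →ₐ[C'] E.B := MvPolynomial.aeval g
  have hqφ : ∀ x, E.q (φE x) = ψ p D x := fun x => by
    refine RingHom.congr_fun (f := E.q.comp φE.toRingHom) (MvPolynomial.ringHom_ext (fun c => ?_) fun b => ?_) x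
    · change E.q (φE (MvPolynomial.C c)) = _
      rw [MvPolynomial.aeval_C, E.q_algebraMap, ψ_C]
    · change E.q (φE (MvPolynomial.X b)) = _
      rw [MvPolynomial.aeval_X, hg, ψ_X]
  have hmapJ : (JA (B₀ := B₀) p).map φE.toRingHom = (J p).map (algebraMap C' E.B) := by
    rw [Ideal.map_map]; congr 1; exact RingHom.ext fun c => φE.commutes c
  have hs : Function.Surjective φE := by
    refine surjective_of_nilpotent φE.toRingHom (JA (B₀ := B₀) p) ⟨2, ?_⟩ fun b => ?_
    · rw [pow_two, ← Ideal.map_mul, J_mul_self p hp]; exact Ideal.map_bot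
    · obtain ⟨x, hx⟩ := ψ_surjective p D hp (E.q b)
      refine ⟨x, hmapJ ▸ E.ker_q ▸ ?_⟩
      rw [RingHom.mem_ker, map_sub, sub_eq_zero]
      exact hx.symm.trans (hqφ x).symm
  let I' : Ideal (Pol k B₀ C') := RingHom.ker φE
  let e : (Pol k B₀ C' ⧸ I') ≃ₐ[C'] E.B := Ideal.quotientKerAlgEquivOfSurjective hs
  have hI' : I'.map (Ideal.Quotient.mk (JA (B₀ := B₀) p)) = ID p D := by
    refine le_antisymm (Ideal.map_le_iff_le_comap.mpr fun x hx => ?_) fun x hx => ?_
    · rw [Ideal.mem_comap, RingHom.mem_ker, ψbar_mk, ← hqφ, show φE x = 0 from hx, map_zero]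
    · obtain ⟨x, rfl⟩ := Ideal.Quotient.mk_surjective x
      rw [RingHom.mem_ker, ψbar_mk, ← hqφ, ← RingHom.mem_ker, E.ker_q, ← hmapJ] at hx
      obtain ⟨j, hj, hjx⟩ := (Ideal.mem_map_iff_of_surjective φE.toRingHom hs).mp hx
      have : Ideal.Quotient.mk (JA (B₀ := B₀) p) x = Ideal.Quotient.mk _ (x - j) := by
        rw [map_sub, Ideal.Quotient.eq_zero_iff_mem.mpr hj, sub_zero]
      rw [this]
      refine Ideal.mem_map_of_mem _ ?_
      rw [RingHom.mem_ker, map_sub]
      exact sub_eq_zero.mpr hjx.symm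
  have := E.flat
  refine ⟨⟨I', Module.Flat.of_linearEquiv e.toLinearEquiv, hI'⟩, e, fun b => ?_⟩
  obtain ⟨x, rfl⟩ := Ideal.Quotient.mk_surjective b
  exact (hqφ x).trans (Ideal.Quotient.lift_mk _ _ _).symm

/-- Differences of two lifts are given by `φ`. -/
def Diff (I' I'' : Lifts p D) (φ : Pol k B₀ C' → N (B₀ := B₀) p) : Prop :=
  ∀ (x' x'' : Pol k B₀ C') (z : Pol k B₀ C' ⊗[C'] ↥(J p)), x' ∈ I'.1 → x'' ∈ I''.1 →
    Translate.rho (J p) z = x'' - x' → toN p D hp (Translate.red (J p) (ID p D) z) = φ x'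

include hp in
theorem exists_data (I' I'' : Lifts p D) {x : Pol k B₀ C'} (hx : Ideal.Quotient.mk _ x ∈ ID p D) :
    ∃ (x' x'' : Pol k B₀ C') (z : Pol k B₀ C' ⊗[C'] ↥(J p)), x' ∈ I'.1 ∧ x'' ∈ I''.1 ∧
      Ideal.Quotient.mk (JA (B₀ := B₀) p) x' = Ideal.Quotient.mk _ x ∧
      Ideal.Quotient.mk (JA (B₀ := B₀) p) x'' = Ideal.Quotient.mk _ x ∧
      Translate.rho (J p) z = x'' - x' := by
  have := I'.2.1
  have := I''.2.1
  obtain ⟨x', h1, x'', h2, z, h3, h4, h5⟩ :=
    Translate.exists_diff_data (J p) (ID p D) (I' := I'.1) (I'' := I''.1) I'.2.2 I''.2.2 ⟨_, hx⟩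
  exact ⟨x', x'', z, h1, h2, h3, h4, h5⟩

include hp in
theorem maps_iff (I' I'' : Lifts p D) (w : B₀ → Pol k B₀ C' ⊗[C'] ↥(J p)) :
    (∀ x ∈ I'.1, α p w x ∈ I''.1) ↔ Diff p D hp I' I'' (δ p D hp w) := by
  have := I''.2.1
  constructor
  · intro h x' x'' z hx' hx'' hz
    have h1 : Translate.rho (J p) (z - der p w x') ∈ I''.1 := by
      have : Translate.rho (J p) (z - der p w x') = x'' - α p w x' := by
        rw [map_sub, hz, α_apply p hp]; ring
      rw [this]; exact sub_mem hx'' (h x' hx')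
    have h2 := (Translate.rho_mem_iff (J p) (ID p D) (J_mul_self p hp) I''.2.2 _).mp h1
    rw [map_sub, sub_eq_zero] at h2
    exact congrArg (toN p D hp) h2
  · intro h x hx
    obtain ⟨x'', h1, h2⟩ := Translate.exists_lift (J p) (ID p D) I''.2.2
      (Translate.mem_of_map_eq (J p) (ID p D) I'.2.2 hx)
    obtain ⟨z, hz⟩ := (Translate.mem_map_iff_exists (J p) (x'' - x)).mp (Ideal.Quotient.eq.mp h2)
    have h3 := (toN_bijective p D hp).injective (h x x'' z hx h1 hz)
    have h4 : Translate.rho (J p) (z - der p w x) ∈ I''.1 :=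
      (Translate.rho_mem_iff (J p) (ID p D) (J_mul_self p hp) I''.2.2 _).mpr
        (by rw [map_sub, h3, sub_self])
    have : α p w x = x'' - Translate.rho (J p) (z - der p w x) := by
      rw [map_sub, hz, α_apply p hp]; ring
    rw [this]
    exact sub_mem h1 h4

include hp in
theorem diff_symm {I' I'' : Lifts p D} {w : B₀ → Pol k B₀ C' ⊗[C'] ↥(J p)}
    (h : Diff p D hp I' I'' (δ p D hp w)) : Diff p D hp I'' I' (δ p D hp (-w)) := by
  intro x'' x' z hx'' hx' hz
  have h1 := h x' x'' (-z) hx' hx'' (by rw [map_neg, hz]; ring)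
  rw [map_neg, map_neg, neg_eq_iff_eq_neg] at h1
  rw [h1]
  have h2 : δ p D hp w x'' = δ p D hp w x' := δ_congr p D hp w (by
    rw [show x'' - x' = -Translate.rho (J p) z by rw [hz]; ring]
    exact neg_mem ((Translate.mem_map_iff_exists (J p) _).mpr ⟨z, rfl⟩))
  have h3 : δ p D hp (-w) x'' = -δ p D hp w x'' := by
    have : der p (-w) = -der p w := MvPolynomial.derivation_ext fun b => by
      simp [MvPolynomial.mkDerivation_X]
    simp only [δ, this, Derivation.neg_apply, map_neg]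
  rw [h3, h2]

include hp in
theorem rel_iff (I' I'' : Lifts p D) : Ext.Rel p D (ofIdeal p D hp I') (ofIdeal p D hp I'') ↔
    ∃ w, Diff p D hp I' I'' (δ p D hp w) := by
  simp only [← maps_iff p D hp]
  constructor
  · rintro ⟨e, he⟩
    have hw : ∀ b, ∃ w : Pol k B₀ C' ⊗[C'] ↥(J p),
        Ideal.Quotient.mk I''.1 (MvPolynomial.X b + Translate.rho (J p) w) =
          e (Ideal.Quotient.mk I'.1 (MvPolynomial.X b)) := by
      intro b
      obtain ⟨y, hy⟩ := Ideal.Quotient.mk_surjective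
        (e (Ideal.Quotient.mk I'.1 (MvPolynomial.X b)))
      have h1 : Ideal.Quotient.mk (JA (B₀ := B₀) p) (y - MvPolynomial.X b) ∈ ID p D := by
        rw [RingHom.mem_ker, ψbar_mk, map_sub, sub_eq_zero]
        refine (Ideal.Quotient.lift_mk _ _ (le_ker_ψ p D I'') (a := y)).symm.trans ?_
        refine Eq.trans ?_ (Ideal.Quotient.lift_mk _ _ (le_ker_ψ p D I') (a := MvPolynomial.X b))
        exact (congrArg (ofIdeal p D hp I'').q hy).trans (he _)
      obtain ⟨u, hu, hu'⟩ := Translate.exists_lift (J p) (ID p D) I''.2.2 h1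
      obtain ⟨w, hw⟩ := (Translate.mem_map_iff_exists (J p) _).mp (Ideal.Quotient.eq.mp hu'.symm)
      refine ⟨w, Eq.trans ?_ hy⟩
      rw [hw, Ideal.Quotient.eq]
      have : MvPolynomial.X b + (y - MvPolynomial.X b - u) - y = -u := by ring
      rw [this]; exact neg_mem hu
    choose w hw using hw
    refine ⟨w, fun x hx => ?_⟩
    have h : ∀ y, Ideal.Quotient.mk I''.1 (α p w y) = e (Ideal.Quotient.mk I'.1 y) := fun y => by
      refine AlgHom.congr_fun (φ₁ := (Ideal.Quotient.mkₐ C' I''.1).comp (α p w))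
        (φ₂ := e.toAlgHom.comp (Ideal.Quotient.mkₐ C' I'.1)) (MvPolynomial.algHom_ext fun b => ?_) y
      change Ideal.Quotient.mk I''.1 (α p w (MvPolynomial.X b)) = _
      rw [α, MvPolynomial.aeval_X]
      exact hw b
    refine Ideal.Quotient.eq_zero_iff_mem.mp ((h x).trans ?_)
    rw [Ideal.Quotient.eq_zero_iff_mem.mpr hx]
    exact map_zero e
  · rintro ⟨w, hw⟩
    have hw' : ∀ x ∈ I''.1, α p (-w) x ∈ I'.1 :=
      (maps_iff p D hp I'' I' (-w)).mpr (diff_symm p D hp ((maps_iff p D hp I' I'' w).mp hw))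
    let f : (ofIdeal p D hp I').B →ₐ[C'] (ofIdeal p D hp I'').B :=
      Ideal.Quotient.liftₐ I'.1 ((Ideal.Quotient.mkₐ C' I''.1).comp (α p w))
        fun x hx => Ideal.Quotient.eq_zero_iff_mem.mpr (hw x hx)
    let g : (ofIdeal p D hp I'').B →ₐ[C'] (ofIdeal p D hp I').B :=
      Ideal.Quotient.liftₐ I''.1 ((Ideal.Quotient.mkₐ C' I'.1).comp (α p (-w)))
        fun x hx => Ideal.Quotient.eq_zero_iff_mem.mpr (hw' x hx)
    have hgf : ∀ x, g (f (Ideal.Quotient.mk I'.1 x)) = Ideal.Quotient.mk I'.1 x := fun x =>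
      congrArg (Ideal.Quotient.mk I'.1) (AlgHom.congr_fun (α_neg p hp w) x)
    have hfg : ∀ x, f (g (Ideal.Quotient.mk I''.1 x)) = Ideal.Quotient.mk I''.1 x := fun x => by
      have h := AlgHom.congr_fun (α_neg p hp (-w)) x
      rw [neg_neg] at h
      exact congrArg (Ideal.Quotient.mk I''.1) h
    refine ⟨AlgEquiv.ofAlgHom f g
      (AlgHom.ext fun b => by obtain ⟨x, rfl⟩ := Ideal.Quotient.mk_surjective b; exact hfg x)
      (AlgHom.ext fun b => by obtain ⟨x, rfl⟩ := Ideal.Quotient.mk_surjective b; exact hgf x), fun b => ?_⟩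
    obtain ⟨x, rfl⟩ := Ideal.Quotient.mk_surjective b
    change ψ p D (α p w x) = ψ p D x
    rw [α_apply p hp, map_add]
    exact add_eq_left.mpr (JA_le p D ((Translate.mem_map_iff_exists (J p) _).mpr ⟨_, rfl⟩))

include hp in
theorem exists_translate (I₀ : Lifts p D)
    (φ : (CotT.canon k B₀).toExtension.Cotangent →ₗ[B₀] N (B₀ := B₀) p) :
    ∃ I' : Lifts p D, ∀ (x' x'' : Pol k B₀ C') (z : Pol k B₀ C' ⊗[C'] ↥(J p)), x' ∈ I₀.1 → x'' ∈ I'.1 →
      Translate.rho (J p) z = x'' - x' → ∀ h, toN p D hp (Translate.red (J p) (ID p D) z) = φ (cmk (ρ₀ x') h) := by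
  obtain ⟨φ', hφ'⟩ := exists_hom p D hp φ
  have := flat_Q p D hp
  have := I₀.2.1
  obtain ⟨T, ⟨h1, h2, h3⟩, -⟩ :=
    Translate.translate_spec (J p) (ID p D) (J_mul_self p hp) I₀.1 I₀.2.2 φ'
  refine ⟨⟨T, h1, h2⟩, fun x' x'' z hx' hx'' hz h => ?_⟩
  have hx : Ideal.Quotient.mk (JA (B₀ := B₀) p) x' ∈ ID p D :=
    Translate.mem_of_map_eq (J p) (ID p D) I₀.2.2 hx'
  rw [h3 _ hx x' x'' hx' hx'' rfl (Ideal.Quotient.eq.mpr
    (hz ▸ (Translate.mem_map_iff_exists (J p) _).mpr ⟨z, rfl⟩)) z hz]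
  exact hφ' x' hx

/-- The value of a linear form on the differential of a polynomial. -/
def dval (l : CotT.L0 (CotT.canon k B₀) →ₗ[B₀] N (B₀ := B₀) p) (f : MvPolynomial B₀ k) : N (B₀ := B₀) p :=
  l (1 ⊗ₜ KaehlerDifferential.D k (CotT.canon k B₀).toExtension.Ring f)

theorem lcomp_cmk (l : CotT.L0 (CotT.canon k B₀) →ₗ[B₀] N (B₀ := B₀) p) (f : MvPolynomial B₀ k) (h : π₀ f = 0) :
    LinearMap.lcomp B₀ _ (CotT.canon k B₀).toExtension.cotangentComplex l (cmk f h) = dval p l f := rfl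

include hp in
theorem δ_eq_dval (w : B₀ → Pol k B₀ C' ⊗[C'] ↥(J p)) (l : CotT.L0 (CotT.canon k B₀) →ₗ[B₀] N (B₀ := B₀) p)
    (hl : ∀ b, dval p l (MvPolynomial.X b) = toN p D hp (Translate.red (J p) (ID p D) (w b)))
    (f : Pol k B₀ C') : δ p D hp w f = dval p l (ρ₀ f) := by
  have hadd : ∀ a b : (CotT.canon k B₀).toExtension.Ring, dval p l (a + b) = dval p l a + dval p l b :=
    fun a b => by simp only [dval, map_add, TensorProduct.tmul_add]
  have hmul : ∀ a b : (CotT.canon k B₀).toExtension.Ring, dval p l (a * b) =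
      algebraMap (CotT.canon k B₀).toExtension.Ring B₀ a • dval p l b +
      algebraMap (CotT.canon k B₀).toExtension.Ring B₀ b • dval p l a := fun a b => by
    simp only [dval]
    rw [Derivation.leibniz, TensorProduct.tmul_add, TensorProduct.tmul_smul, TensorProduct.tmul_smul,
      map_add, ← algebraMap_smul B₀ a, map_smul, ← algebraMap_smul B₀ b, map_smul]
  have hC : ∀ a : k, dval p l (algebraMap k (CotT.canon k B₀).toExtension.Ring a) = 0 := fun a => by
    simp only [dval, Derivation.map_algebraMap, TensorProduct.tmul_zero, map_zero]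
  induction f using MvPolynomial.induction_on with
  | C a =>
    simp only [δ, MvPolynomial.derivation_C, map_zero]
    rw [ρ₀, MvPolynomial.map_C]
    exact (hC _).symm
  | add f g hf hg =>
    rw [map_add]
    refine Eq.trans ?_ (hadd (ρ₀ f) (ρ₀ g)).symm
    rw [← hf, ← hg]
    simp only [δ, map_add]
  | mul_X f b hf =>
    rw [δ_mul, map_mul]
    refine Eq.trans ?_ (hmul (ρ₀ f) (ρ₀ (MvPolynomial.X b))).symm
    rw [algebraMap_canon, algebraMap_canon, hf]
    congr 2
    simp only [δ, MvPolynomial.mkDerivation_X, ρ₀, MvPolynomial.map_X]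
    exact (hl b).symm

/-- The class of the translate. -/
def Φ (I₀ : Lifts p D) (φ : (CotT.canon k B₀).toExtension.Cotangent →ₗ[B₀] N (B₀ := B₀) p) :
    Quotient (Ext.setoid p D) :=
  Quotient.mk _ (ofIdeal p D hp (exists_translate p D hp I₀ φ).choose)

include hp in
theorem Φ_eq_iff (I₀ : Lifts p D) (φ₁ φ₂ : (CotT.canon k B₀).toExtension.Cotangent →ₗ[B₀] N (B₀ := B₀) p) :
    Φ p D hp I₀ φ₁ = Φ p D hp I₀ φ₂ ↔
      CotT.homToT1 (CotT.canon k B₀) _ φ₁ = CotT.homToT1 (CotT.canon k B₀) _ φ₂ := by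
  set T₁ := (exists_translate p D hp I₀ φ₁).choose
  set T₂ := (exists_translate p D hp I₀ φ₂).choose
  have hT₁ := (exists_translate p D hp I₀ φ₁).choose_spec
  have hT₂ := (exists_translate p D hp I₀ φ₂).choose_spec
  refine (Iff.trans ⟨Quotient.exact (s := Ext.setoid p D), fun h => Quotient.sound (s := Ext.setoid p D) h⟩
    (rel_iff p D hp T₁ T₂)).trans ?_
  rw [eq_comm, ← sub_eq_zero, ← map_sub, ← LinearMap.mem_ker, H24Cot.ker_homToT1, LinearMap.mem_range]
  let b₀ := (CotT.canon k B₀).toGenerators.cotangentSpaceBasis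
  have key : ∀ w l, (∀ b, dval p l (MvPolynomial.X b) = toN p D hp (Translate.red (J p) (ID p D) (w b))) →
      (Diff p D hp T₁ T₂ (δ p D hp w) ↔
        LinearMap.lcomp B₀ _ (CotT.canon k B₀).toExtension.cotangentComplex l = φ₂ - φ₁) := by
    intro w l hl
    constructor
    · intro h
      refine LinearMap.ext fun c => ?_
      obtain ⟨f, hf, rfl⟩ := exists_cmk c
      obtain ⟨x, hx, rfl⟩ := exists_lift_mem p D hp f hf
      obtain ⟨x₀, x₁, z₁, k0, k1, k2, k3, k4⟩ := exists_data p D hp I₀ T₁ hx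
      obtain ⟨x₂, l1, l2⟩ := Translate.exists_lift (J p) (ID p D) T₂.2.2 hx
      obtain ⟨z₂, hz₂⟩ := (Translate.mem_map_iff_exists (J p) (x₂ - x₀)).mp
        (Ideal.Quotient.eq.mp (l2.trans k2.symm))
      have e0 : ρ₀ x₀ = ρ₀ x := by
        rw [← sub_eq_zero, ← map_sub]
        exact ρ₀_map_maximalIdeal (Ideal.map_mono (J_le p) (Ideal.Quotient.eq.mp k2))
      have h12 := h x₁ x₂ (z₂ - z₁) k1 l1 (by rw [map_sub, hz₂, k4]; ring)
      rw [map_sub, map_sub, hT₁ x₀ x₁ z₁ k0 k1 k4 (by rw [e0]; exact hf),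
        hT₂ x₀ x₂ z₂ k0 l1 hz₂ (by rw [e0]; exact hf), δ_eq_dval p D hp w l hl,
        cmk_congr e0 _ hf] at h12
      rw [lcomp_cmk, LinearMap.sub_apply, h12]
      congr 1
      rw [← sub_eq_zero, ← map_sub]
      refine ρ₀_map_maximalIdeal (Ideal.map_mono (J_le p) ?_)
      have := sub_mem (Ideal.Quotient.eq.mp k3) (Ideal.Quotient.eq.mp (rfl : Ideal.Quotient.mk (JA (B₀ := B₀) p) x = _))
      rw [sub_self, sub_zero] at this
      rw [← neg_sub]; exact neg_mem this
    · intro h x₁ x₂ z hx₁ hx₂ hz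
      obtain ⟨x₀, k0, k2⟩ := Translate.exists_lift (J p) (ID p D) I₀.2.2
        (Translate.mem_of_map_eq (J p) (ID p D) T₁.2.2 hx₁)
      obtain ⟨z₁, hz₁⟩ := (Translate.mem_map_iff_exists (J p) (x₁ - x₀)).mp
        (Ideal.Quotient.eq.mp k2.symm)
      have hz₂ : Translate.rho (J p) (z₁ + z) = x₂ - x₀ := by rw [map_add, hz₁, hz]; ring
      have hf : π₀ (ρ₀ x₀) = 0 := π₀_ρ₀_eq_zero p D (Translate.mem_of_map_eq (J p) (ID p D) I₀.2.2 k0)
      have e1 := hT₁ x₀ x₁ z₁ k0 hx₁ hz₁ hf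
      have e2 := hT₂ x₀ x₂ (z₁ + z) k0 hx₂ hz₂ hf
      rw [map_add, map_add, e1] at e2
      have e3 := LinearMap.congr_fun h (cmk (ρ₀ x₀) hf)
      rw [lcomp_cmk, LinearMap.sub_apply] at e3
      rw [δ_eq_dval p D hp w l hl, eq_sub_of_add_eq' e2, ← e3]
      congr 1
      rw [← sub_eq_zero, ← map_sub]
      exact ρ₀_map_maximalIdeal (Ideal.map_mono (J_le p) (Ideal.Quotient.eq.mp k2))
  have hb₀ : ∀ b, b₀ b = 1 ⊗ₜ KaehlerDifferential.D k (CotT.canon k B₀).toExtension.Ring
      (MvPolynomial.X b : MvPolynomial B₀ k) := fun b =>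
    Algebra.Generators.cotangentSpaceBasis_apply _ b
  constructor
  · rintro ⟨w, hw⟩
    refine ⟨b₀.constr B₀ fun b => toN p D hp (Translate.red (J p) (ID p D) (w b)), (key w _ fun b => ?_).mp hw⟩
    rw [dval, ← hb₀, Module.Basis.constr_basis]
  · rintro ⟨l, hl⟩
    choose w hw using fun b => (toN_bijective p D hp).surjective.comp
      (Translate.red_surjective (J p) (ID p D)) (dval p l (MvPolynomial.X b))
    exact ⟨w, (key w l fun b => (hw b).symm).mpr hl⟩

include hp in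
theorem Φ_surjective (I₀ : Lifts p D) : Function.Surjective (Φ p D hp I₀) := by
  intro q
  induction q using Quotient.inductionOn with
  | h E =>
    obtain ⟨I'', hI''⟩ := exists_ofIdeal_rel p D hp E
    have := I₀.2.1
    have := I''.2.1
    obtain ⟨φ', hφ', -⟩ := Translate.existsUnique_diff (J p) (ID p D) (I' := I₀.1) (I'' := I''.1)
      (J_mul_self p hp) I₀.2.2 I''.2.2
    obtain ⟨φ, hφ⟩ := exists_cot_hom p D hp φ'
    refine ⟨φ, Quotient.sound (s := Ext.setoid p D) ((Ext.Rel.equivalence p D).trans ?_ hI'')⟩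
    refine (rel_iff p D hp _ I'').mpr ⟨0, ?_⟩
    intro x₁ x₂ z hx₁ hx₂ hz
    have hT := (exists_translate p D hp I₀ φ).choose_spec
    obtain ⟨x₀, k0, k2⟩ := Translate.exists_lift (J p) (ID p D) I₀.2.2
      (Translate.mem_of_map_eq (J p) (ID p D) (exists_translate p D hp I₀ φ).choose.2.2 hx₁)
    obtain ⟨z₁, hz₁⟩ := (Translate.mem_map_iff_exists (J p) (x₁ - x₀)).mp (Ideal.Quotient.eq.mp k2.symm)
    have hz₂ : Translate.rho (J p) (z₁ + z) = x₂ - x₀ := by rw [map_add, hz₁, hz]; ring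
    have hx₀ := Translate.mem_of_map_eq (J p) (ID p D) I₀.2.2 k0
    have hf : π₀ (ρ₀ x₀) = 0 := π₀_ρ₀_eq_zero p D hx₀
    have e2 := congrArg (toN p D hp) (hφ' _ hx₀ x₀ x₂ k0 hx₂ rfl (Ideal.Quotient.eq.mpr
      (hz₂ ▸ (Translate.mem_map_iff_exists (J p) _).mpr ⟨_, rfl⟩)) (z₁ + z) hz₂)
    rw [hφ x₀ hx₀, map_add, map_add, hT x₀ x₁ z₁ k0 hx₁ hz₁ hf, add_eq_left] at e2
    rw [e2]
    simp [δ, show (MvPolynomial.mkDerivation C' (0 : B₀ → Pol k B₀ C' ⊗[C'] ↥(J p))) = 0 from
      MvPolynomial.derivation_ext fun b => by simp]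

include hp in
/-- Extensions up to isomorphism are the elements of `T¹`. -/
theorem nonempty_equiv (E₀ : Ext p D) :
    Nonempty (Quotient (Ext.setoid p D) ≃ CotT.T1 (CotT.canon k B₀) (N (B₀ := B₀) p)) := by
  obtain ⟨I₀, -⟩ := exists_ofIdeal_rel p D hp E₀
  have h : Setoid.ker (Φ p D hp I₀) = Setoid.ker (CotT.homToT1 (CotT.canon k B₀) (N (B₀ := B₀) p)) :=
    Setoid.ext fun a b => Φ_eq_iff p D hp I₀ a b
  exact ⟨((Setoid.quotientKerEquivOfSurjective _ (Φ_surjective p D hp I₀)).symm.trans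
    (Quotient.congr (Equiv.refl _) fun a b => by rw [h]; rfl)).trans
    (Setoid.quotientKerEquivOfSurjective _ (H24Cot.homToT1_surjective _ _))⟩

end Classify

end Groth.Agent.H24Def.AffExt
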