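import Groth.Agent.H24Def.AffineObstruction
import Groth.Agent.H24Def.AffineExtScheme
import Groth.Agent.H24Cot.Compare
import Groth.Prelude.Def_ArtFun3

/-! The second cotangent module is an obstruction space for deformations of an affine scheme. -/

universe u

open TensorProduct ArtFun ArtFun.Art CategoryTheory AlgebraicGeometry

set_option linter.style.haveILetI false

noncomputable section

namespace Groth.Agent.H24Def.AffExt

variable {k : Type u} [Field k] {B₀ : Type u} [CommRing B₀] [Algebra k B₀]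

/-- Every class comes from an algebra. -/
theorem exists_alg {C : Art k k} (u : (defFunctor (Λ := k) (Spec (CommRingCat.of B₀)) (affPt k B₀)).obj C) :
    ∃ D : AlgDef B₀ C, D.toSch.cl = u := by
  induction u using Quotient.inductionOn with
  | h ξ =>
    obtain ⟨D, ⟨e⟩⟩ := exists_toSch_iso ξ
    exact ⟨D, (Quotient.sound (s := DefSch.setoid (Spec (CommRingCat.of B₀)) (affPt k B₀) C) ⟨e⟩).symm⟩

theorem nonempty_ext_iff {C' C : Art k k} (p : C' ⟶ C) (hp : IsSemismallExt p) (D : AlgDef B₀ C) :
    Nonempty (Ext p D) ↔ ∃ u', (defFunctor (Λ := k) (Spec (CommRingCat.of B₀)) (affPt k B₀)).map p u' =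
      D.toSch.cl := by
  constructor
  · rintro ⟨E⟩
    exact ⟨(E.toDef hp).toSch.cl, (defFunctor_map_cl p _).trans
      (Quotient.sound (s := DefSch.setoid (Spec (CommRingCat.of B₀)) (affPt k B₀) C) ⟨E.bcIso hp⟩)⟩
  · rintro ⟨u', hu'⟩
    induction u' using Quotient.inductionOn with
    | h ξ =>
      obtain ⟨e⟩ := Quotient.exact ((defFunctor_map_cl p ξ).symm.trans hu')
      obtain ⟨E, -⟩ := exists_pair_rel hp D.toSch (DefSch.Iso.refl D.toSch) ⟨ξ, e⟩
      exact ⟨E⟩

/-- A finite kernel. -/
theorem finite_ker {C' C : Art k k} (p : C' ⟶ C) : Module.Finite k ↥(RingHom.ker p.toAlgHom) := by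
  have := H24Art.moduleFinite C'
  exact Module.Finite.of_injective (((RingHom.ker p.toAlgHom).subtype).restrictScalars k)
    Subtype.val_injective

/-- The obstruction in `T² ⊗ J`. -/
def obsT {C' C : Art k k} (p : C' ⟶ C) (hp : IsSemismallExt p) (D : AlgDef B₀ C) :
    CotT.T2 (CotT.canon k B₀) B₀ ⊗[k] ↥(RingHom.ker p.toAlgHom) :=
  haveI := finite_ker p
  Function.surjInv (theta_bijective (k := k) (B₀ := B₀) ↥(RingHom.ker p.toAlgHom)).surjective (obsC p D hp)

theorem theta_obsT {C' C : Art k k} (p : C' ⟶ C) (hp : IsSemismallExt p) (D : AlgDef B₀ C) :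
    theta (k := k) (B₀ := B₀) ↥(RingHom.ker p.toAlgHom) (obsT p hp D) = obsC p D hp := by
  haveI := finite_ker p
  exact Function.surjInv_eq _ _

theorem obsT_eq_zero_iff {C' C : Art k k} (p : C' ⟶ C) (hp : IsSemismallExt p) (D : AlgDef B₀ C) :
    obsT p hp D = 0 ↔ Nonempty (Ext p D) := by
  haveI := finite_ker p
  refine Iff.trans ⟨fun h => ?_, fun h => ?_⟩ (obsC_eq_zero_iff p D hp)
  · exact (theta_obsT p hp D).symm.trans ((congrArg (theta (k := k) (B₀ := B₀) _) h).trans
      (theta (k := k) (B₀ := B₀) ↥(RingHom.ker p.toAlgHom)).map_zero)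
  · exact (theta_bijective (k := k) (B₀ := B₀) ↥(RingHom.ker p.toAlgHom)).injective
      ((theta_obsT p hp D).trans (h.trans (theta (k := k) (B₀ := B₀) ↥(RingHom.ker p.toAlgHom)).map_zero.symm))

theorem obsT_natural {C' C : Art k k} (p : C' ⟶ C) (hp : IsSemismallExt p) (D : AlgDef B₀ C)
    {K : Ideal C'} (hK : K ≤ IsLocalRing.maximalIdeal C') (hKJ : K ≤ RingHom.ker p.toAlgHom)
    (hq : IsSemismallExt (quotFactor hK p hKJ)) :
    obsT (quotFactor hK p hKJ) hq D =
      LinearMap.lTensor _ ((kerToQuot hK p hKJ).restrictScalars k) (obsT p hp D) := by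
  haveI := finite_ker (quotFactor hK p hKJ)
  refine (theta_bijective (k := k) (B₀ := B₀) ↥(RingHom.ker (quotFactor hK p hKJ).toAlgHom)).injective ?_
  refine (theta_obsT _ hq D).trans ((obsC_natural p D hp hK hKJ hq).trans (Eq.trans ?_
    (theta_natural (k := k) (B₀ := B₀) ((kerToQuot hK p hKJ).restrictScalars k) (obsT p hp D)).symm))
  exact congrArg _ (theta_obsT p hp D).symm

variable (k B₀) in
/-- The obstruction theory with values in the second cotangent module. -/
def obsTheory : ObsTheory (defFunctor (Λ := k) (Spec (CommRingCat.of B₀)) (affPt k B₀))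
    (CotT.T2 (CotT.canon k B₀) B₀) where
  obs p hp u := obsT p hp (exists_alg u).choose
  obs_eq_zero_iff p hp u := by
    rw [obsT_eq_zero_iff, nonempty_ext_iff p hp, (exists_alg u).choose_spec]
  obs_quot p hp _ hK hKJ hq u := obsT_natural p hp (exists_alg u).choose hK hKJ hq

/-- Obstruction theories along an isomorphism of spaces. -/
def obsTheoryCongr {F : Art k k ⥤ Type*} {V V' : Type u} [AddCommGroup V] [Module k V] [AddCommGroup V']
    [Module k V'] (e : V ≃ₗ[k] V') (T : ObsTheory F V) : ObsTheory F V' where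
  obs p hp u := LinearMap.rTensor _ e.toLinearMap (T.obs p hp u)
  obs_eq_zero_iff p hp u := by
    rw [← T.obs_eq_zero_iff p hp u]
    exact (LinearEquiv.rTensor _ e).map_eq_zero_iff
  obs_quot p hp K hK hKJ hq u := by
    rw [T.obs_quot p hp K hK hKJ hq u, ← LinearMap.comp_apply, LinearMap.rTensor_comp_lTensor,
      ← LinearMap.lTensor_comp_rTensor, LinearMap.comp_apply]

/-- The obstruction theory with values in the second cotangent module of a presentation. -/
def obsTheoryPres {ι σ : Type u} (P : Algebra.Presentation k B₀ ι σ) :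
    ObsTheory (defFunctor (Λ := k) (Spec (CommRingCat.of B₀)) (affPt k B₀)) (CotT.T2 P B₀) :=
  obsTheoryCongr ((H24Cot.T2equiv P (CotT.canon k B₀) B₀).restrictScalars k) (obsTheory k B₀)

end Groth.Agent.H24Def.AffExt
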