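import Groth.Agent.H24Def.AffineExtensions
import Groth.Agent.H24Art.Basic
import Mathlib.RingTheory.Flat.Equalizer
import Mathlib.RingTheory.Polynomial.Quotient

/-! The obstruction to extending a deformation of an algebra lies in the second cotangent module. -/

universe u

open TensorProduct ArtFun ArtFun.Art

set_option linter.style.haveILetI false

noncomputable section

namespace Groth.Agent.H24Def.AffExt

variable {k : Type u} [Field k] {B₀ : Type u} [CommRing B₀] [Algebra k B₀]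

/-- The relation attached to an index, as a polynomial. -/
def relv (s : CotT.CanonRels k B₀) : MvPolynomial B₀ k := s.1

theorem π₀_relv (s : CotT.CanonRels k B₀) : π₀ (relv s) = 0 :=
  (algebraMap_canon (relv s)).symm.trans s.2

theorem exists_relv (f : MvPolynomial B₀ k) (hf : π₀ f = 0) : ∃ s, relv s = f :=
  ⟨⟨f, (algebraMap_canon f).trans hf⟩, rfl⟩

/-- An ideal reducing to `I` whose elements in the image of `J` reduce to zero has flat quotient. -/
theorem flat_of_red {C' : Type u} [CommRing C'] (J : Ideal C') {A' : Type u} [CommRing A'] [Algebra C' A']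
    [Module.Flat C' A'] (I : Ideal (A' ⧸ Ideal.map (algebraMap C' A') J))
    [Module.Flat (C' ⧸ J) ((A' ⧸ Ideal.map (algebraMap C' A') J) ⧸ I)] (hJ : J * J = ⊥) (T : Ideal A')
    (hmap : T.map (Ideal.Quotient.mk _) = I)
    (hker : ∀ z : A' ⊗[C'] ↥J, Translate.rho J z ∈ T → Translate.red J I z = 0) :
    Module.Flat C' (A' ⧸ T) := by
  let g := (Ideal.Quotient.mkₐ C' T).toLinearMap
  have hinj : Function.Injective (J.subtype.lTensor (A' ⧸ T)) := by
    rw [injective_iff_map_eq_zero]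
    intro w hw
    obtain ⟨z, rfl⟩ := LinearMap.rTensor_surjective ↥J (g := g) Ideal.Quotient.mk_surjective w
    refine Translate.red_eq_zero_imp J I hJ hmap z (hker z ?_)
    have h2 : TensorProduct.rid C' (A' ⧸ T) (LinearMap.lTensor (A' ⧸ T) J.subtype
        (LinearMap.rTensor ↥J g z)) = g (Translate.rho J z) := by
      clear hw
      induction z using TensorProduct.induction_on with
      | zero => simp
      | add x y hx hy => rw [map_add, map_add, map_add, map_add, map_add, hx, hy]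
      | tmul b j => simp [Translate.rho, g]
    rw [hw, map_zero] at h2
    exact Ideal.Quotient.eq_zero_iff_mem.mp h2.symm
  have hle : T ≤ I.comap (Ideal.Quotient.mk _) := fun y hy => Translate.mem_of_map_eq J I hmap hy
  let q : (A' ⧸ T) →ₗ[C'] (A' ⧸ Ideal.map (algebraMap C' A') J) ⧸ I := (Ideal.Quotient.liftₐ T (IsScalarTower.toAlgHom C' A' ((A' ⧸ Ideal.map (algebraMap C' A') J) ⧸ I))
    (fun a ha => Ideal.Quotient.eq_zero_iff_mem.mpr (hle ha))).toLinearMap
  have hq : Function.Surjective q := fun b => by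
    obtain ⟨b, rfl⟩ := Ideal.Quotient.mk_surjective b
    obtain ⟨b, rfl⟩ := Ideal.Quotient.mk_surjective b
    exact ⟨Ideal.Quotient.mk T b, rfl⟩
  have hqker : LinearMap.ker q = (J • ⊤ : Submodule C' (A' ⧸ T)) := by
    ext m
    obtain ⟨a, rfl⟩ := Ideal.Quotient.mk_surjective m
    rw [LinearMap.mem_ker, Ideal.smul_top_eq_map, Submodule.restrictScalars_mem,
      IsScalarTower.algebraMap_eq C' A' (A' ⧸ T), ← Ideal.map_map, Ideal.Quotient.algebraMap_eq,
      Ideal.mem_quotient_iff_mem_sup, sup_comm, ← Ideal.mem_quotient_iff_mem_sup, hmap]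
    exact Ideal.Quotient.eq_zero_iff_mem
  let e : ((C' ⧸ J) ⊗[C'] (A' ⧸ T)) ≃ₗ[C'] ((A' ⧸ Ideal.map (algebraMap C' A') J) ⧸ I) :=
    TensorProduct.quotTensorEquivQuotSMul (A' ⧸ T) J ≪≫ₗ Submodule.quotEquivOfEq _ _ hqker.symm ≪≫ₗ
      q.quotKerEquivOfSurjective hq
  have : Module.Flat (C' ⧸ J) ((C' ⧸ J) ⊗[C'] (A' ⧸ T)) :=
    Module.Flat.of_linearEquiv (e.extendScalarsOfSurjective (S := C' ⧸ J) Ideal.Quotient.mk_surjective)
  exact Groth.Agent.H7Flat.flat_of_isNilpotent J ⟨2, by rw [pow_two, hJ]; rfl⟩ hinj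

variable {C' C : Art k k} (p : C' ⟶ C) (D : AlgDef B₀ C)

/-- A lift of the relations. -/
def IsLift (F : CotT.CanonRels k B₀ → Pol k B₀ C') : Prop :=
  ∀ s, ψ p D (F s) = 0 ∧ ρ₀ (F s) = relv s

/-- Combinations of the lifted relations. -/
abbrev jF (F : CotT.CanonRels k B₀ → Pol k B₀ C') :
    (CotT.CanonRels k B₀ →₀ Pol k B₀ C') →ₗ[Pol k B₀ C'] Pol k B₀ C' :=
  Finsupp.linearCombination (Pol k B₀ C') F

/-- Reduction of a combination. -/
def redF (r : CotT.CanonRels k B₀ →₀ Pol k B₀ C') : CotT.CanonRels k B₀ →₀ MvPolynomial B₀ k :=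
  Finsupp.mapRange ρ₀ (map_zero _) r

theorem redF_add (r r' : CotT.CanonRels k B₀ →₀ Pol k B₀ C') : redF (r + r') = redF r + redF r' :=
  Finsupp.mapRange_add (map_add _) r r'

theorem redF_smul (a : Pol k B₀ C') (r : CotT.CanonRels k B₀ →₀ Pol k B₀ C') :
    redF (a • r) = ρ₀ a • redF r := by
  ext1 s
  simp [redF]

theorem redF_single (s : CotT.CanonRels k B₀) (a : Pol k B₀ C') :
    redF (Finsupp.single s a) = Finsupp.single s (ρ₀ a) := Finsupp.mapRange_single ..

theorem redF_surjective : Function.Surjective (redF (k := k) (B₀ := B₀) (C' := C')) :=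
  Finsupp.mapRange_surjective ρ₀ (map_zero _) ρ₀_surjective

/-- The combination of relations over the field. -/
abbrev j₀ : (CotT.CanonRels k B₀ →₀ MvPolynomial B₀ k) →ₗ[MvPolynomial B₀ k] MvPolynomial B₀ k :=
  Finsupp.linearCombination (MvPolynomial B₀ k) relv

theorem j₀_eq_jmap (q : CotT.relMod (CotT.canon k B₀)) :
    j₀ (q : CotT.CanonRels k B₀ →₀ MvPolynomial B₀ k) = (CotT.jmap (CotT.canon k B₀) q : MvPolynomial B₀ k) := rfl

variable (hp : IsSemismallExt p) {F : CotT.CanonRels k B₀ → Pol k B₀ C'}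

include hp in
theorem exists_isLift : ∃ F : CotT.CanonRels k B₀ → Pol k B₀ C', IsLift p D F := by
  choose F hF hF' using fun s : CotT.CanonRels k B₀ => exists_lift_mem p D hp (relv s) (π₀_relv s)
  exact ⟨F, fun s => ⟨by have := hF s; rwa [RingHom.mem_ker, ψbar_mk] at this, hF' s⟩⟩

theorem IsLift.ψ_jF (hF : IsLift p D F) (r : CotT.CanonRels k B₀ →₀ Pol k B₀ C') : ψ p D (jF F r) = 0 := by
  induction r using Finsupp.induction_linear with
  | zero => simp
  | add a b ha hb => rw [map_add, map_add, ha, hb, add_zero]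
  | single s a => rw [Finsupp.linearCombination_single, smul_eq_mul, map_mul, (hF s).1, mul_zero]

theorem IsLift.mk_jF_mem (hF : IsLift p D F) (r : CotT.CanonRels k B₀ →₀ Pol k B₀ C') :
    Ideal.Quotient.mk (JA (B₀ := B₀) p) (jF F r) ∈ ID p D := by
  rw [RingHom.mem_ker, ψbar_mk, hF.ψ_jF]

theorem IsLift.ρ₀_jF (hF : IsLift p D F) (r : CotT.CanonRels k B₀ →₀ Pol k B₀ C') :
    ρ₀ (jF F r) = j₀ (redF r) := by
  induction r using Finsupp.induction_linear with
  | zero => simp [redF]
  | add a b ha hb => rw [map_add, map_add, ha, hb, redF_add, map_add]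
  | single s a =>
    rw [redF_single, Finsupp.linearCombination_single, Finsupp.linearCombination_single, smul_eq_mul,
      smul_eq_mul, map_mul, (hF s).2]

/-- The extended maximal ideal. -/
abbrev MA : Ideal (Pol k B₀ C' ⧸ JA (B₀ := B₀) p) :=
  (IsLocalRing.maximalIdeal C').map (algebraMap C' (Pol k B₀ C' ⧸ JA (B₀ := B₀) p))

include hp in
theorem exists_mk_jF (hF : IsLift p D F) {z : Pol k B₀ C' ⧸ JA (B₀ := B₀) p} (hz : z ∈ ID p D) :
    ∃ r, Ideal.Quotient.mk _ (jF F r) = z := by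
  let S : Ideal (Pol k B₀ C' ⧸ JA (B₀ := B₀) p) :=
    (Ideal.span (Set.range F)).map (Ideal.Quotient.mk _)
  have h1 : ID p D ≤ S ⊔ MA p * ID p D := by
    intro z hz
    obtain ⟨x, rfl⟩ := Ideal.Quotient.mk_surjective z
    obtain ⟨s, hs⟩ := exists_relv (ρ₀ x) (π₀_ρ₀_eq_zero p D hz)
    have h2 : Ideal.Quotient.mk (JA (B₀ := B₀) p) (x - F s) ∈ ID p D := by
      rw [map_sub]
      refine sub_mem hz ?_
      rw [RingHom.mem_ker, ψbar_mk]
      exact (hF s).1
    have h3 := exists_smul_of_ρ₀_eq_zero p D hp (x - F s) h2 (by rw [map_sub, (hF s).2, hs, sub_self])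
    have : Ideal.Quotient.mk (JA (B₀ := B₀) p) x =
        Ideal.Quotient.mk _ (F s) + Ideal.Quotient.mk _ (x - F s) := by rw [map_sub]; ring
    rw [this]
    exact Submodule.add_mem_sup (Ideal.mem_map_of_mem _ (Ideal.subset_span ⟨s, rfl⟩)) h3
  let g := algebraMap C' (Pol k B₀ C' ⧸ JA (B₀ := B₀) p)
  have h2 : ∀ n : ℕ, ID p D ≤ S ⊔ (IsLocalRing.maximalIdeal C' ^ n).map g * ID p D := by
    intro n
    induction n with
    | zero => simp [Ideal.one_eq_top, Ideal.map_top, g]
    | succ n ih =>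
      refine h1.trans (sup_le le_sup_left ((Ideal.mul_mono_right ih).trans ?_))
      rw [Ideal.mul_sup, ← mul_assoc, ← Ideal.map_mul]
      refine sup_le (Ideal.mul_le_right.trans le_sup_left) (le_sup_of_le_right (le_of_eq ?_))
      simp [pow_succ', g]
  obtain ⟨n, hn⟩ := isNilpotent_maximalIdeal C'
  have h3 := h2 n hz
  rw [hn, Ideal.zero_eq_bot, Ideal.map_bot, Ideal.bot_mul, sup_bot_eq] at h3
  obtain ⟨y, hy, rfl⟩ := (Ideal.mem_map_iff_of_surjective _ Ideal.Quotient.mk_surjective).mp h3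
  obtain ⟨r, hr⟩ := Finsupp.mem_ideal_span_range_iff_exists_finsupp.mp hy
  refine ⟨r, ?_⟩
  rw [← hr, jF, Finsupp.linearCombination_apply]
  rfl

include hp in
theorem exists_syz (hF : IsLift p D F) {q : CotT.CanonRels k B₀ →₀ MvPolynomial B₀ k} (hq : j₀ q = 0) :
    ∃ r, redF r = q ∧ jF F r ∈ JA (B₀ := B₀) p := by
  obtain ⟨r₀, rfl⟩ := redF_surjective (C' := C') q
  have h := exists_smul_of_ρ₀_eq_zero p D hp (jF F r₀) (hF.mk_jF_mem p D r₀) (by rw [hF.ρ₀_jF p D, hq])
  have key : ∀ z ∈ MA p * ID p D, ∃ r, redF r = 0 ∧ Ideal.Quotient.mk _ (jF F r) = z := by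
    intro z hz
    refine Submodule.mul_induction_on hz (fun a ha b hb => ?_) fun a b => ?_
    · obtain ⟨r, hr⟩ := exists_mk_jF p D hp hF hb
      have ha' : a ∈ ((IsLocalRing.maximalIdeal C').map (algebraMap C' (Pol k B₀ C'))).map
          (Ideal.Quotient.mk (JA (B₀ := B₀) p)) := by rw [Ideal.map_map]; exact ha
      obtain ⟨a', ha'', rfl⟩ := (Ideal.mem_map_iff_of_surjective _ Ideal.Quotient.mk_surjective).mp ha'
      exact ⟨a' • r, by rw [redF_smul, ρ₀_map_maximalIdeal ha'', zero_smul],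
        by rw [map_smul, smul_eq_mul, map_mul, hr]⟩
    · rintro ⟨r, hr, hr'⟩ ⟨r', hs, hs'⟩
      exact ⟨r + r', by rw [redF_add, hr, hs, add_zero], by rw [map_add, map_add, hr', hs']⟩
  obtain ⟨r', hr', hr''⟩ := key _ h
  refine ⟨r₀ + (-1 : Pol k B₀ C') • r', by rw [redF_add, redF_smul, hr', smul_zero, add_zero], ?_⟩
  rw [map_add, map_smul, neg_one_smul, ← sub_eq_add_neg]
  exact Ideal.Quotient.eq.mp hr''.symm

theorem flat_polQuot : Module.Flat (C' ⧸ J p) (Pol k B₀ C' ⧸ JA (B₀ := B₀) p) := by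
  have e : MvPolynomial B₀ (C' ⧸ J p) ≃ₐ[C'] Pol k B₀ C' ⧸ JA (B₀ := B₀) p :=
    (MvPolynomial.quotientEquivQuotientMvPolynomial (J p)).trans
      (Ideal.quotientEquivAlgOfEq C' (show (J p).map MvPolynomial.C = JA (B₀ := B₀) p from rfl))
  exact Module.Flat.of_linearEquiv
    (e.symm.toLinearEquiv.extendScalarsOfSurjective (S := C' ⧸ J p) Ideal.Quotient.mk_surjective)

include hp in
theorem flat_ID : Module.Flat (C' ⧸ J p) ↥((ID p D).restrictScalars (C' ⧸ J p)) := by
  have := flat_Q p D hp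
  have := flat_polQuot (B₀ := B₀) p
  rw [Module.Flat.iff_rTensor_injective']
  intro a
  let ι := ((ID p D).restrictScalars (C' ⧸ J p)).subtype
  let q : (Pol k B₀ C' ⧸ JA (B₀ := B₀) p) →ₗ[C' ⧸ J p] Q p D :=
    (IsScalarTower.toAlgHom (C' ⧸ J p) (Pol k B₀ C' ⧸ JA (B₀ := B₀) p) (Q p D)).toLinearMap
  have hex : Function.Exact ι q := fun x =>
    ⟨fun hx => ⟨⟨x, Ideal.Quotient.eq_zero_iff_mem.mp hx⟩, rfl⟩, fun ⟨y, hy⟩ => hy ▸
      Ideal.Quotient.eq_zero_iff_mem.mpr y.2⟩
  have h1 : Function.Injective (ι.lTensor a) :=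
    LinearMap.lTensor_injective_of_exact_of_flat q Ideal.Quotient.mk_surjective ι
      (Submodule.injective_subtype _) hex a
  have h2 : Function.Injective (a.subtype.rTensor (Pol k B₀ C' ⧸ JA (B₀ := B₀) p)) :=
    Module.Flat.rTensor_preserves_injective_linearMap _ (Submodule.injective_subtype a)
  have h3 : (ι.lTensor (C' ⧸ J p)) ∘ₗ (a.subtype.rTensor _) = (a.subtype.rTensor _) ∘ₗ (ι.lTensor a) := by
    rw [LinearMap.lTensor_comp_rTensor, LinearMap.rTensor_comp_lTensor]
  refine Function.Injective.of_comp (f := ι.lTensor (C' ⧸ J p)) ?_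
  rw [← LinearMap.coe_comp, h3, LinearMap.coe_comp]
  exact h2.comp h1

/-- The value of a good combination. -/
def val (F : CotT.CanonRels k B₀ → Pol k B₀ C') (r : CotT.CanonRels k B₀ →₀ Pol k B₀ C')
    (h : jF F r ∈ JA (B₀ := B₀) p) : N (B₀ := B₀) p :=
  toN p D hp (Translate.red (J p) (ID p D) ((Translate.mem_map_iff_exists (J p) _).mp h).choose)

include hp in
theorem val_eq {r : CotT.CanonRels k B₀ →₀ Pol k B₀ C'} (h : jF F r ∈ JA (B₀ := B₀) p)
    {z : Pol k B₀ C' ⊗[C'] ↥(J p)} (hz : Translate.rho (J p) z = jF F r) :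
    val p D hp F r h = toN p D hp (Translate.red (J p) (ID p D) z) := by
  rw [val]
  congr 2
  exact Translate.rho_injective (J p)
    (((Translate.mem_map_iff_exists (J p) _).mp h).choose_spec.trans hz.symm)

include hp in
theorem val_add {r r' : CotT.CanonRels k B₀ →₀ Pol k B₀ C'} (h : jF F r ∈ JA (B₀ := B₀) p)
    (h' : jF F r' ∈ JA (B₀ := B₀) p) (h'' : jF F (r + r') ∈ JA (B₀ := B₀) p) :
    val p D hp F (r + r') h'' = val p D hp F r h + val p D hp F r' h' := by
  obtain ⟨z, hz⟩ := (Translate.mem_map_iff_exists (J p) _).mp h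
  obtain ⟨z', hz'⟩ := (Translate.mem_map_iff_exists (J p) _).mp h'
  rw [val_eq p D hp h hz, val_eq p D hp h' hz',
    val_eq p D hp h'' (z := z + z') (by rw [map_add, hz, hz', map_add]), map_add, map_add]

include hp in
theorem val_smul {a : Pol k B₀ C'} {r : CotT.CanonRels k B₀ →₀ Pol k B₀ C'} (h : jF F r ∈ JA (B₀ := B₀) p)
    (h' : jF F (a • r) ∈ JA (B₀ := B₀) p) :
    val p D hp F (a • r) h' = π₀ (ρ₀ a) • val p D hp F r h := by
  obtain ⟨z, hz⟩ := (Translate.mem_map_iff_exists (J p) _).mp h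
  rw [val_eq p D hp h hz, val_eq p D hp h' (z := a • z) (by rw [Translate.rho_smul, hz, map_smul, smul_eq_mul]),
    toN_red_smul p D hp, π_ψ p D]

theorem exists_sum_of_redF_eq_zero {r : CotT.CanonRels k B₀ →₀ Pol k B₀ C'} (h : redF r = 0) :
    ∃ (n : ℕ) (a : Fin n → C') (y : Fin n → CotT.CanonRels k B₀ →₀ Pol k B₀ C'),
      (∀ i, a i ∈ IsLocalRing.maximalIdeal C') ∧ r = ∑ i, algebraMap C' (Pol k B₀ C') (a i) • y i := by
  classical
  have key : ∀ x ∈ (IsLocalRing.maximalIdeal C').map (algebraMap C' (Pol k B₀ C')), ∀ s : CotT.CanonRels k B₀,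
      ∃ (n : ℕ) (a : Fin n → C') (y : Fin n → CotT.CanonRels k B₀ →₀ Pol k B₀ C'),
      (∀ i, a i ∈ IsLocalRing.maximalIdeal C') ∧
        Finsupp.single s x = ∑ i, algebraMap C' (Pol k B₀ C') (a i) • y i := by
    intro x hx s
    induction hx using Submodule.span_induction with
    | mem x hx =>
      obtain ⟨c, hc, rfl⟩ := hx
      exact ⟨1, fun _ => c, fun _ => Finsupp.single s 1, fun _ => hc, by simp⟩
    | zero => exact ⟨0, Fin.elim0, Fin.elim0, fun i => i.elim0, by simp⟩
    | add x z _ _ hx hz =>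
      obtain ⟨n, a, y, ha, he⟩ := hx
      obtain ⟨m, c, w, hc, he'⟩ := hz
      refine ⟨n + m, Fin.append a c, Fin.append y w, fun i => ?_, ?_⟩
      · refine Fin.addCases (fun i => ?_) (fun i => ?_) i
        · rw [Fin.append_left]; exact ha i
        · rw [Fin.append_right]; exact hc i
      · rw [Finsupp.single_add, he, he', Fin.sum_univ_add]; simp only [Fin.append_left, Fin.append_right]
    | smul b x _ hx =>
      obtain ⟨n, a, y, ha, he⟩ := hx
      exact ⟨n, a, fun i => b • y i, ha, by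
        rw [← Finsupp.smul_single, he, Finset.smul_sum]
        exact Finset.sum_congr rfl fun i _ => smul_comm _ _ _⟩
  have hc : ∀ s, r s ∈ (IsLocalRing.maximalIdeal C').map (algebraMap C' (Pol k B₀ C')) := fun s => by
    rw [MvPolynomial.algebraMap_eq, MvPolynomial.mem_map_C_iff]
    intro d
    rw [mem_maximalIdeal_iff]
    have h' := congrArg (fun q => MvPolynomial.coeff d (q s)) h
    simp only [redF, Finsupp.mapRange_apply, ρ₀, MvPolynomial.coeff_map, Finsupp.coe_zero, Pi.zero_apply,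
      MvPolynomial.coeff_zero] at h'
    exact h'
  clear h
  induction r using Finsupp.induction with
  | zero => exact ⟨0, Fin.elim0, Fin.elim0, fun i => i.elim0, by simp⟩
  | single_add s b f hs hb ih =>
    obtain ⟨m, c, w, hcm, he'⟩ := ih fun t => by
      by_cases ht : s = t
      · subst ht; rw [Finsupp.notMem_support_iff.mp hs]; exact zero_mem _
      · have := hc t
        rwa [Finsupp.add_apply, Finsupp.single_eq_of_ne' ht, zero_add] at this
    obtain ⟨n, a, y, ha, he⟩ := key b (by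
      have := hc s
      rwa [Finsupp.add_apply, Finsupp.single_eq_same, Finsupp.notMem_support_iff.mp hs, add_zero] at this) s
    refine ⟨n + m, Fin.append a c, Fin.append y w, fun i => ?_, ?_⟩
    · refine Fin.addCases (fun i => ?_) (fun i => ?_) i
      · rw [Fin.append_left]; exact ha i
      · rw [Fin.append_right]; exact hcm i
    · rw [he, he', Fin.sum_univ_add]; simp only [Fin.append_left, Fin.append_right]

include hp in
theorem val_eq_zero (hF : IsLift p D F) {r : CotT.CanonRels k B₀ →₀ Pol k B₀ C'}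
    (h : jF F r ∈ JA (B₀ := B₀) p) (h0 : redF r = 0) : val p D hp F r h = 0 := by
  classical
  obtain ⟨n, a, y, ha, hr⟩ := exists_sum_of_redF_eq_zero h0
  let xb : Fin n → ↥((ID p D).restrictScalars (C' ⧸ J p)) := fun i => ⟨_, hF.mk_jF_mem p D (y i)⟩
  have hrel : ∑ i, Ideal.Quotient.mk (J p) (a i) • xb i = 0 := by
    refine Subtype.ext ?_
    rw [Submodule.coe_sum, Submodule.coe_zero]
    have h1 := Ideal.Quotient.eq_zero_iff_mem.mpr h
    rw [hr, map_sum, map_sum] at h1
    refine Eq.trans (Finset.sum_congr rfl fun i _ => ?_) h1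
    rw [map_smul, smul_eq_mul, map_mul]
    rw [Submodule.coe_smul_of_tower, Algebra.smul_def]
    rfl
  have := flat_ID p D hp
  obtain ⟨m, A, zb, hzb, hA⟩ :=
    (Module.Flat.iff_forall_isTrivialRelation.mp ‹_›) hrel
  choose c hc using fun i j => Ideal.Quotient.mk_surjective (A i j)
  choose w hw using fun j => exists_mk_jF p D hp hF (zb j).2
  let u : Fin n → CotT.CanonRels k B₀ →₀ Pol k B₀ C' := fun i =>
    y i - ∑ j, algebraMap C' (Pol k B₀ C') (c i j) • w j
  have hu : ∀ i, jF F (u i) ∈ JA (B₀ := B₀) p := fun i => by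
    rw [← Ideal.Quotient.eq_zero_iff_mem, map_sub, map_sub, sub_eq_zero, map_sum, map_sum]
    refine (congrArg Subtype.val (hzb i)).trans ?_
    rw [Submodule.coe_sum]
    refine Finset.sum_congr rfl fun j _ => ?_
    rw [Submodule.coe_smul_of_tower, ← hc, ← hw, Algebra.smul_def, map_smul, smul_eq_mul, map_mul]
    rfl
  have he : ∀ j, ∑ i, a i * c i j ∈ J p := fun j => by
    rw [← Ideal.Quotient.eq_zero_iff_mem, map_sum, ← hA j]
    exact Finset.sum_congr rfl fun i _ => by rw [map_mul, hc]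
  choose zu hzu using fun i => (Translate.mem_map_iff_exists (J p) _).mp (hu i)
  let z := ∑ i, algebraMap C' (Pol k B₀ C') (a i) • zu i + ∑ j, jF F (w j) ⊗ₜ[C'] (⟨_, he j⟩ : ↥(J p))
  have hz : Translate.rho (J p) z = jF F r := by
    simp only [z, map_add, map_sum, Translate.rho_smul, hzu, Translate.rho_tmul, hr, map_smul, smul_eq_mul,
      u, map_sub, mul_sub, Finset.sum_sub_distrib, Finset.mul_sum, Finset.sum_mul, map_mul]
    rw [Finset.sum_comm (γ := Fin m)]
    have : ∀ i j, algebraMap C' (Pol k B₀ C') (a i) * (algebraMap C' (Pol k B₀ C') (c i j) * jF F (w j)) =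
        algebraMap C' (Pol k B₀ C') (a i) * algebraMap C' (Pol k B₀ C') (c i j) * jF F (w j) :=
      fun i j => (mul_assoc _ _ _).symm
    simp only [this]
    ring
  rw [val_eq p D hp h hz]
  simp only [z, map_add, map_sum]
  rw [Finset.sum_eq_zero, Finset.sum_eq_zero, add_zero]
  · intro j _
    rw [red_mk_tmul p D, toN_tmul, hF.ψ_jF p D, map_zero, TensorProduct.zero_tmul]
  · intro i _
    rw [toN_red_smul p D hp, ψ_algebraMap, D.π_algebraMap, res_app,
      (mem_maximalIdeal_iff _ _).mp (ha i), map_zero, zero_smul]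

include hp in
theorem val_congr (hF : IsLift p D F) {r r' : CotT.CanonRels k B₀ →₀ Pol k B₀ C'}
    (h : jF F r ∈ JA (B₀ := B₀) p) (h' : jF F r' ∈ JA (B₀ := B₀) p) (e : redF r = redF r') :
    val p D hp F r h = val p D hp F r' h' := by
  have hm : jF F ((-1 : Pol k B₀ C') • r') ∈ JA (B₀ := B₀) p := by
    rw [map_smul, smul_eq_mul]; exact Ideal.mul_mem_left _ _ h'
  have hd : jF F (r + (-1 : Pol k B₀ C') • r') ∈ JA (B₀ := B₀) p := by rw [map_add]; exact add_mem h hm
  have h0 := val_eq_zero p D hp hF hd (by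
    rw [redF_add, redF_smul, e, map_neg, map_one, neg_one_smul, add_neg_cancel])
  have e2 : r + (-1 : Pol k B₀ C') • r' + r' = r := by
    rw [show (-1 : Pol k B₀ C') • r' = -r' from neg_one_smul _ _, neg_add_cancel_right]
  have h3 := val_add p D hp hd h' (by rw [e2]; exact h)
  rw [h0, zero_add] at h3
  refine Eq.trans ?_ h3
  congr 1
  exact e2.symm

section Cocycle

/-- A relation of the canonical presentation, as a combination of polynomials. -/
abbrev qv (q : ↥(CotT.relKer (CotT.canon k B₀))) : CotT.CanonRels k B₀ →₀ MvPolynomial B₀ k :=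
  (q : CotT.relMod (CotT.canon k B₀))

theorem j₀_qv (q : ↥(CotT.relKer (CotT.canon k B₀))) : j₀ (qv q) = 0 := q.2

include hp in
theorem exists_cocycle (hF : IsLift p D F) :
    ∃ ω : CotT.L2 (CotT.canon k B₀) →ₗ[B₀] N (B₀ := B₀) p,
      ∀ (q : ↥(CotT.relKer (CotT.canon k B₀))) (r : CotT.CanonRels k B₀ →₀ Pol k B₀ C')
        (h : jF F r ∈ JA (B₀ := B₀) p), redF r = qv q →
          ω (Submodule.Quotient.mk (1 ⊗ₜ q)) = val p D hp F r h := by
  choose l hl hlJ using fun q : ↥(CotT.relKer (CotT.canon k B₀)) => exists_syz p D hp hF (j₀_qv q)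
  have hf : ∀ q r h, redF r = qv q → val p D hp F (l q) (hlJ q) = val p D hp F r h :=
    fun q r h e => val_congr p D hp hF _ h ((hl q).trans e.symm)
  let ω₀ : ↥(CotT.relKer (CotT.canon k B₀)) →ₗ[(CotT.canon k B₀).toExtension.Ring] N (B₀ := B₀) p :=
    { toFun := fun q => val p D hp F (l q) (hlJ q)
      map_add' := fun a b => by
        have h' : jF F (l a + l b) ∈ JA (B₀ := B₀) p := by rw [map_add]; exact add_mem (hlJ a) (hlJ b)
        rw [hf (a + b) _ h' (by rw [redF_add, hl, hl]; rfl)]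
        exact val_add p D hp (hlJ a) (hlJ b) h'
      map_smul' := fun c a => by
        obtain ⟨c', hc'⟩ := ρ₀_surjective (C' := C') (c : MvPolynomial B₀ k)
        have h' : jF F (c' • l a) ∈ JA (B₀ := B₀) p := by
          rw [map_smul, smul_eq_mul]; exact Ideal.mul_mem_left _ _ (hlJ a)
        rw [RingHom.id_apply, hf (c • a) _ h' (by rw [redF_smul, hl, hc']; rfl), val_smul p D hp (hlJ a) h',
          hc', ← algebraMap_smul B₀ c]
        exact congrArg (· • _) (algebraMap_canon (c : MvPolynomial B₀ k)).symm }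
  let ωB : B₀ ⊗[(CotT.canon k B₀).toExtension.Ring] ↥(CotT.relKer (CotT.canon k B₀)) →ₗ[B₀]
      N (B₀ := B₀) p := LinearMap.liftBaseChange B₀ ω₀
  have htriv : ∀ y ∈ CotT.trivRel (CotT.canon k B₀), ∃ r, ∃ h : jF F r ∈ JA (B₀ := B₀) p,
      redF r = (y : CotT.CanonRels k B₀ →₀ MvPolynomial B₀ k) ∧ val p D hp F r h = 0 := by
    intro y hy
    induction hy using Submodule.span_induction with
    | mem y hy =>
      obtain ⟨a, b, rfl⟩ := hy
      obtain ⟨a', ha'⟩ := redF_surjective (C' := C') (a : CotT.CanonRels k B₀ →₀ MvPolynomial B₀ k)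
      obtain ⟨b', hb'⟩ := redF_surjective (C' := C') (b : CotT.CanonRels k B₀ →₀ MvPolynomial B₀ k)
      let r := jF F a' • b' + (-jF F b') • a'
      have h0 : jF F r = 0 := by
        simp only [r, map_add, map_smul, smul_eq_mul]; ring
      refine ⟨r, h0 ▸ zero_mem _, ?_, ?_⟩
      · simp only [r, redF_add, redF_smul, map_neg, hF.ρ₀_jF p D, ha', hb']
        have e : ∀ (x z : MvPolynomial B₀ k) (u v : CotT.CanonRels k B₀ →₀ MvPolynomial B₀ k),
            x • u + -z • v = x • u - z • v := fun x z u v => by rw [neg_smul, sub_eq_add_neg]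
        exact (e _ _ _ _).trans rfl
      · rw [val_eq p D hp _ (z := 0) (by rw [map_zero, h0]), map_zero, map_zero]
    | zero =>
      refine ⟨0, by rw [map_zero]; exact zero_mem _, Finsupp.mapRange_zero, ?_⟩
      rw [val_eq p D hp _ (z := 0) (by rw [map_zero, map_zero]), map_zero, map_zero]
    | add a b _ _ ha hb =>
      obtain ⟨r, h, e, e0⟩ := ha
      obtain ⟨r', h', e', e0'⟩ := hb
      refine ⟨r + r', by rw [map_add]; exact add_mem h h', by rw [redF_add, e, e']; rfl, ?_⟩
      rw [val_add p D hp h h', e0, e0', add_zero]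
    | smul c a _ ha =>
      obtain ⟨r, h, e, e0⟩ := ha
      obtain ⟨c', hc'⟩ := ρ₀_surjective (C' := C') (c : MvPolynomial B₀ k)
      refine ⟨c' • r, by rw [map_smul, smul_eq_mul]; exact Ideal.mul_mem_left _ _ h,
        by rw [redF_smul, e, hc']; rfl, ?_⟩
      rw [val_smul p D hp h, e0, smul_zero]
  have hle : LinearMap.range ((CotT.trivRelKer (CotT.canon k B₀)).subtype.baseChange B₀) ≤
      LinearMap.ker ωB := by
    rw [LinearMap.range_le_ker_iff]
    refine TensorProduct.AlgebraTensorModule.ext fun b q => ?_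
    obtain ⟨r, h, e, e0⟩ := htriv _ q.2
    rw [LinearMap.comp_apply, LinearMap.baseChange_tmul, LinearMap.zero_apply]
    refine (LinearMap.liftBaseChange_tmul _ _ _ _).trans ?_
    change b • val p D hp F (l q.1) (hlJ q.1) = 0
    rw [hf q.1 r h e, e0, smul_zero]
  refine ⟨Submodule.liftQ _ ωB hle, fun q r h e => ?_⟩
  change LinearMap.liftBaseChange B₀ ω₀ (1 ⊗ₜ q) = _
  refine (LinearMap.liftBaseChange_tmul _ _ _ _).trans ?_
  change (1 : B₀) • val p D hp F (l q) (hlJ q) = _
  rw [one_smul, hf q r h e]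

/-- The cocycle of a lift. -/
def cocycle (F : CotT.CanonRels k B₀ → Pol k B₀ C') (hF : IsLift p D F) :
    CotT.L2 (CotT.canon k B₀) →ₗ[B₀] N (B₀ := B₀) p :=
  (exists_cocycle p D hp hF).choose

theorem cocycle_spec (hF : IsLift p D F) (q : ↥(CotT.relKer (CotT.canon k B₀)))
    (r : CotT.CanonRels k B₀ →₀ Pol k B₀ C') (h : jF F r ∈ JA (B₀ := B₀) p) (e : redF r = qv q) :
    cocycle p D hp F hF (Submodule.Quotient.mk (1 ⊗ₜ q)) = val p D hp F r h :=
  (exists_cocycle p D hp hF).choose_spec q r h e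

theorem L2_ext {M : Type u} [AddCommGroup M] [Module B₀ M]
    {f g : CotT.L2 (CotT.canon k B₀) →ₗ[B₀] M}
    (h : ∀ q, f (Submodule.Quotient.mk (1 ⊗ₜ q)) = g (Submodule.Quotient.mk (1 ⊗ₜ q))) : f = g := by
  refine LinearMap.ext fun x => ?_
  obtain ⟨x, rfl⟩ := Submodule.Quotient.mk_surjective _ x
  induction x using TensorProduct.induction_on with
  | zero => rw [Submodule.Quotient.mk_zero, map_zero, map_zero]
  | add a b ha hb => rw [Submodule.Quotient.mk_add, map_add, map_add, ha, hb]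
  | tmul b q =>
    have e : b ⊗ₜ[(CotT.canon k B₀).toExtension.Ring] q =
        b • ((1 : B₀) ⊗ₜ[(CotT.canon k B₀).toExtension.Ring] q) := by
      rw [TensorProduct.smul_tmul', smul_eq_mul, mul_one]
    rw [e, Submodule.Quotient.mk_smul, map_smul, map_smul, h q]

set_option maxHeartbeats 1000000 in
include hp in
/-- Two lifts differing by combinations and translations. -/
theorem cocycle_change (hF : IsLift p D F) {F' : CotT.CanonRels k B₀ → Pol k B₀ C'} (hF' : IsLift p D F')
    (R : CotT.CanonRels k B₀ → CotT.CanonRels k B₀ →₀ Pol k B₀ C')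
    (hR : ∀ s, redF (R s) = Finsupp.single s 1)
    (w : CotT.CanonRels k B₀ → Pol k B₀ C' ⊗[C'] ↥(J p))
    (hw : ∀ s, F' s = jF F (R s) + Translate.rho (J p) (w s)) :
    ∃ φ : CotT.L1 (CotT.canon k B₀) →ₗ[B₀] N (B₀ := B₀) p,
      (∀ s : CotT.CanonRels k B₀, φ (1 ⊗ₜ Finsupp.single s 1) =
        toN p D hp (Translate.red (J p) (ID p D) (w s))) ∧
      cocycle p D hp F' hF' = cocycle p D hp F hF + CotT.d2Star (CotT.canon k B₀) _ φ := by
  let v : CotT.CanonRels k B₀ → N (B₀ := B₀) p := fun s => toN p D hp (Translate.red (J p) (ID p D) (w s))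
  let φ₀ : CotT.relMod (CotT.canon k B₀) →ₗ[(CotT.canon k B₀).toExtension.Ring] N (B₀ := B₀) p :=
    Finsupp.linearCombination (CotT.canon k B₀).toExtension.Ring v
  let φ : CotT.L1 (CotT.canon k B₀) →ₗ[B₀] N (B₀ := B₀) p := LinearMap.liftBaseChange B₀ φ₀
  refine ⟨φ, fun s => ?_, L2_ext fun q => ?_⟩
  · refine (LinearMap.liftBaseChange_tmul _ _ _ _).trans ?_
    rw [one_smul]
    exact (Finsupp.linearCombination_single _ _ _).trans (one_smul _ _)
  obtain ⟨r, hr, hrJ⟩ := exists_syz p D hp hF' (j₀_qv q)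
  let RR := Finsupp.linearCombination (Pol k B₀ C') R r
  let zz := Finsupp.linearCombination (Pol k B₀ C') w r
  have key : ∀ r : CotT.CanonRels k B₀ →₀ Pol k B₀ C',
      jF F' r = jF F (Finsupp.linearCombination (Pol k B₀ C') R r) +
          Translate.rho (J p) (Finsupp.linearCombination (Pol k B₀ C') w r) ∧
        redF (Finsupp.linearCombination (Pol k B₀ C') R r) = redF r ∧
        toN p D hp (Translate.red (J p) (ID p D) (Finsupp.linearCombination (Pol k B₀ C') w r)) =
          φ₀ (redF r : CotT.CanonRels k B₀ →₀ MvPolynomial B₀ k) := by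
    intro r
    induction r using Finsupp.induction_linear with
    | zero =>
      have e0 : redF (0 : CotT.CanonRels k B₀ →₀ Pol k B₀ C') = 0 := Finsupp.mapRange_zero
      simp only [map_zero, add_zero, e0, true_and]
      exact (map_zero φ₀).symm
    | add a b ha hb =>
      simp only [map_add, redF_add, ha.2.1, hb.2.1, true_and, ha.1, hb.1, ha.2.2, hb.2.2]
      exact ⟨by ring, (map_add φ₀ _ _).symm⟩
    | single s a =>
      simp only [Finsupp.linearCombination_single, redF_smul, hR, Finsupp.smul_single, redF_single,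
        map_smul, smul_eq_mul, mul_one, hw, Translate.rho_smul]
      simp only [true_and]
      refine ⟨by ring, ?_⟩
      rw [toN_red_smul p D hp, ← π_ψ p D a]
      refine Eq.trans ?_ (Finsupp.linearCombination_single _ _ _).symm
      rw [← algebraMap_smul B₀ (show (CotT.canon k B₀).toExtension.Ring from ρ₀ a)]
      exact congrArg (· • v s) (algebraMap_canon (ρ₀ a)).symm
  obtain ⟨k1, k2, k3⟩ := key r
  have hzJ : Translate.rho (J p) zz ∈ JA (B₀ := B₀) p := (Translate.mem_map_iff_exists (J p) _).mpr ⟨zz, rfl⟩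
  have hRJ : jF F RR ∈ JA (B₀ := B₀) p := by
    have := sub_mem hrJ hzJ
    rwa [k1, add_sub_cancel_right] at this
  rw [LinearMap.add_apply, CotT.d2Star_apply, LinearMap.comp_apply, CotT.d2_mk_tmul,
    cocycle_spec p D hp hF' q r hrJ hr, cocycle_spec p D hp hF q RR hRJ (k2.trans hr)]
  obtain ⟨u, hu⟩ := (Translate.mem_map_iff_exists (J p) _).mp hRJ
  rw [val_eq p D hp hRJ hu, val_eq p D hp hrJ (z := u + zz) (by rw [map_add, hu, k1]), map_add, map_add]
  congr 1
  refine k3.trans (Eq.trans ?_ (LinearMap.liftBaseChange_tmul _ _ _ _).symm)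
  rw [one_smul]
  exact congrArg φ₀ hr

set_option maxHeartbeats 1000000 in
include hp in
theorem cocycle_class_eq {F' : CotT.CanonRels k B₀ → Pol k B₀ C'} (hF : IsLift p D F) (hF' : IsLift p D F') :
    CotT.toT2 (CotT.canon k B₀) _ (cocycle p D hp F' hF') =
      CotT.toT2 (CotT.canon k B₀) _ (cocycle p D hp F hF) := by
  have hex : ∀ s, ∃ R w, redF R = Finsupp.single s 1 ∧ F' s = jF F R + Translate.rho (J p) w := by
    intro s
    have hm : Ideal.Quotient.mk (JA (B₀ := B₀) p) (F' s) ∈ ID p D := by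
      rw [RingHom.mem_ker, ψbar_mk, (hF' s).1]
    obtain ⟨r, hr⟩ := exists_mk_jF p D hp hF hm
    have hd : ρ₀ (jF F r) = ρ₀ (F' s) := by
      rw [← sub_eq_zero, ← map_sub]
      exact ρ₀_map_maximalIdeal (Ideal.map_mono (J_le p) (Ideal.Quotient.eq.mp hr))
    have hq : j₀ (redF r - Finsupp.single s 1) = 0 := by
      rw [map_sub, ← hF.ρ₀_jF p D, hd, (hF' s).2, Finsupp.linearCombination_single, one_smul, sub_self]
    obtain ⟨t, ht, htJ⟩ := exists_syz p D hp hF hq
    let R := r + (-1 : Pol k B₀ C') • t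
    have hR : F' s - jF F R ∈ JA (B₀ := B₀) p := by
      have h1 := Ideal.Quotient.eq.mp hr.symm
      simp only [R, map_add, map_smul, smul_eq_mul, neg_one_mul]
      rw [show F' s - (jF F r + -jF F t) = (F' s - jF F r) + jF F t by ring]
      exact add_mem h1 htJ
    obtain ⟨w, hw⟩ := (Translate.mem_map_iff_exists (J p) _).mp hR
    refine ⟨R, w, ?_, by rw [hw]; ring⟩
    rw [show R = r + (-1 : Pol k B₀ C') • t from rfl, redF_add, redF_smul, ht, map_neg, map_one, neg_one_smul]
    abel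
  choose R w hR hw using hex
  obtain ⟨φ, -, hφ⟩ := cocycle_change p D hp hF hF' R hR w hw
  rw [hφ, map_add, add_eq_left]
  exact (Submodule.Quotient.mk_eq_zero _).mpr ⟨φ, rfl⟩

/-- The obstruction class. -/
def obsC : CotT.T2 (CotT.canon k B₀) (N (B₀ := B₀) p) :=
  CotT.toT2 (CotT.canon k B₀) _
    (cocycle p D hp (exists_isLift p D hp).choose (exists_isLift p D hp).choose_spec)

include hp in
theorem obsC_eq (hF : IsLift p D F) :
    obsC p D hp = CotT.toT2 (CotT.canon k B₀) _ (cocycle p D hp F hF) :=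
  cocycle_class_eq p D hp hF _

set_option maxHeartbeats 1000000 in
include hp in
/-- The extension exists exactly when the class vanishes. -/
theorem obsC_eq_zero_iff : obsC p D hp = 0 ↔ Nonempty (Ext p D) := by
  constructor
  · intro h
    obtain ⟨F₀, hF₀⟩ := exists_isLift p D hp
    rw [obsC_eq p D hp hF₀] at h
    obtain ⟨φ₁, hφ₁⟩ := LinearMap.mem_range.mp ((Submodule.Quotient.mk_eq_zero _).mp h)
    choose w hw using fun s : CotT.CanonRels k B₀ => (toN_bijective p D hp).surjective.comp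
      (Translate.red_surjective (J p) (ID p D)) (-(φ₁ (1 ⊗ₜ Finsupp.single s 1)))
    let F : CotT.CanonRels k B₀ → Pol k B₀ C' := fun s => F₀ s + Translate.rho (J p) (w s)
    have hmJ : ∀ s, Translate.rho (J p) (w s) ∈ JA (B₀ := B₀) p := fun s =>
      (Translate.mem_map_iff_exists (J p) _).mpr ⟨w s, rfl⟩
    have hF : IsLift p D F := fun s => ⟨by
      rw [map_add, (hF₀ s).1, show ψ p D (Translate.rho (J p) (w s)) = 0 from JA_le p D (hmJ s), add_zero], by
      rw [map_add, (hF₀ s).2, ρ₀_map_maximalIdeal (Ideal.map_mono (J_le p) (hmJ s)), add_zero]⟩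
    obtain ⟨φ, hφ, hc⟩ := cocycle_change p D hp hF₀ hF (fun s => Finsupp.single s 1)
      (fun s => by rw [redF_single, map_one]) w
      (fun s => by rw [Finsupp.linearCombination_single, one_smul])
    have hφ' : φ = -φ₁ := (CotT.L1basis (CotT.canon k B₀)).ext fun s => by
      rw [show CotT.L1basis (CotT.canon k B₀) s = 1 ⊗ₜ Finsupp.single s 1 by
        simp [CotT.L1basis]]
      exact (hφ s).trans (hw s)
    have hzero : cocycle p D hp F hF = 0 := by
      rw [hc, hφ', (CotT.d2Star (CotT.canon k B₀) _).map_neg φ₁, ← hφ₁, add_neg_cancel]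
    let T : Ideal (Pol k B₀ C') := Ideal.span (Set.range F)
    have hmap : T.map (Ideal.Quotient.mk (JA (B₀ := B₀) p)) = ID p D := by
      refine le_antisymm (Ideal.map_le_iff_le_comap.mpr (Ideal.span_le.mpr ?_)) fun x hx => ?_
      · rintro _ ⟨s, rfl⟩
        change ψbar p D (Ideal.Quotient.mk _ (F s)) = 0
        rw [ψbar_mk, (hF s).1]
      · obtain ⟨r, rfl⟩ := exists_mk_jF p D hp hF hx
        refine Ideal.mem_map_of_mem _ ?_
        exact Finsupp.mem_ideal_span_range_iff_exists_finsupp.mpr ⟨r, by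
          rw [jF, Finsupp.linearCombination_apply]; rfl⟩
    have hker : ∀ z : Pol k B₀ C' ⊗[C'] ↥(J p), Translate.rho (J p) z ∈ T →
        Translate.red (J p) (ID p D) z = 0 := by
      intro z hz
      obtain ⟨r, hr⟩ := Finsupp.mem_ideal_span_range_iff_exists_finsupp.mp hz
      have hr' : jF F r = Translate.rho (J p) z := by
        rw [← hr, jF, Finsupp.linearCombination_apply]; rfl
      have hJ : jF F r ∈ JA (B₀ := B₀) p := hr' ▸ (Translate.mem_map_iff_exists (J p) _).mpr ⟨z, rfl⟩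
      have hq : j₀ (redF r) = 0 := by
        rw [← hF.ρ₀_jF p D]; exact ρ₀_map_maximalIdeal (Ideal.map_mono (J_le p) hJ)
      have h0 := cocycle_spec p D hp hF ⟨redF r, hq⟩ r hJ rfl
      rw [hzero, LinearMap.zero_apply, val_eq p D hp hJ hr'.symm] at h0
      exact (toN_bijective p D hp).injective (h0.symm.trans (map_zero _).symm)
    have := flat_Q p D hp
    exact ⟨ofIdeal p D hp ⟨T, flat_of_red (J p) (ID p D) (J_mul_self p hp) T hmap hker, hmap⟩⟩
  · rintro ⟨E⟩
    obtain ⟨I', -⟩ := exists_ofIdeal_rel p D hp E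
    obtain ⟨F₀, hF₀⟩ := exists_isLift p D hp
    have hm : ∀ s, Ideal.Quotient.mk (JA (B₀ := B₀) p) (F₀ s) ∈ ID p D := fun s => by
      rw [RingHom.mem_ker, ψbar_mk, (hF₀ s).1]
    choose F hF1 hF2 using fun s => Translate.exists_lift (J p) (ID p D) I'.2.2 (hm s)
    have hF : IsLift p D F := fun s => ⟨le_ker_ψ p D I' _ (hF1 s), by
      rw [← (hF₀ s).2, ← sub_eq_zero, ← map_sub]
      exact ρ₀_map_maximalIdeal (Ideal.map_mono (J_le p) (Ideal.Quotient.eq.mp (hF2 s)))⟩
    rw [obsC_eq p D hp hF]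
    have : cocycle p D hp F hF = 0 := by
      refine L2_ext fun q => ?_
      obtain ⟨r, hr, hrJ⟩ := exists_syz p D hp hF (j₀_qv q)
      obtain ⟨z, hz⟩ := (Translate.mem_map_iff_exists (J p) _).mp hrJ
      have hmem : ∀ r, jF F r ∈ I'.1 := fun r => by
        induction r using Finsupp.induction_linear with
        | zero => simp
        | add a b ha hb => rw [map_add]; exact add_mem ha hb
        | single s a => rw [Finsupp.linearCombination_single]; exact Ideal.mul_mem_left _ _ (hF1 s)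
      have := I'.2.1
      have h1 := (Translate.rho_mem_iff (J p) (ID p D) (J_mul_self p hp) I'.2.2 z).mp (hz ▸ hmem r)
      rw [cocycle_spec p D hp hF q r hrJ hr, val_eq p D hp hrJ hz, h1, map_zero, LinearMap.zero_apply]
    rw [this, map_zero]

end Cocycle

section Theta

variable (k B₀) in
/-- `b ↦ b ⊗ j`. -/
def ins {V : Type u} [AddCommGroup V] [Module k V] (j : V) : B₀ →ₗ[B₀] B₀ ⊗[k] V :=
  LinearMap.toSpanSingleton B₀ _ ((1 : B₀) ⊗ₜ[k] j)

theorem ins_apply {V : Type u} [AddCommGroup V] [Module k V] (j : V) (b : B₀) :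
    ins k B₀ j b = b ⊗ₜ[k] j := by
  rw [ins, LinearMap.toSpanSingleton_apply, TensorProduct.smul_tmul', smul_eq_mul, mul_one]

theorem T2map_mk {M M' : Type u} [AddCommGroup M] [Module B₀ M] [AddCommGroup M'] [Module B₀ M']
    (g : M →ₗ[B₀] M') (φ : CotT.L2 (CotT.canon k B₀) →ₗ[B₀] M) :
    CotT.T2map (CotT.canon k B₀) g (CotT.toT2 (CotT.canon k B₀) M φ) =
      CotT.toT2 (CotT.canon k B₀) M' (g ∘ₗ φ) := rfl

theorem exists_toT2 {M : Type u} [AddCommGroup M] [Module B₀ M] (t : CotT.T2 (CotT.canon k B₀) M) :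
    ∃ φ, CotT.toT2 (CotT.canon k B₀) M φ = t := Submodule.Quotient.mk_surjective _ t

theorem T2map_ins_add {V : Type u} [AddCommGroup V] [Module k V] (a b : V)
    (t : CotT.T2 (CotT.canon k B₀) B₀) :
    CotT.T2map (CotT.canon k B₀) (ins k B₀ (a + b)) t =
      CotT.T2map (CotT.canon k B₀) (ins k B₀ a) t + CotT.T2map (CotT.canon k B₀) (ins k B₀ b) t := by
  refine Submodule.Quotient.induction_on _ t fun φ => ?_
  refine (congrArg (CotT.toT2 (CotT.canon k B₀) (B₀ ⊗[k] V))
    (?_ : ins k B₀ (a + b) ∘ₗ φ = ins k B₀ a ∘ₗ φ + ins k B₀ b ∘ₗ φ)).trans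
    ((CotT.toT2 (CotT.canon k B₀) (B₀ ⊗[k] V)).map_add _ _)
  refine LinearMap.ext fun x => ?_
  simp [ins_apply, TensorProduct.tmul_add]

theorem T2map_ins_smul {V : Type u} [AddCommGroup V] [Module k V] (c : k) (j : V)
    (t : CotT.T2 (CotT.canon k B₀) B₀) :
    CotT.T2map (CotT.canon k B₀) (ins k B₀ j) (c • t) =
      CotT.T2map (CotT.canon k B₀) (ins k B₀ (c • j)) t := by
  refine Submodule.Quotient.induction_on _ t fun φ => ?_
  change CotT.toT2 (CotT.canon k B₀) (B₀ ⊗[k] V) (ins k B₀ j ∘ₗ (c • φ)) =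
    CotT.toT2 (CotT.canon k B₀) (B₀ ⊗[k] V) (ins k B₀ (c • j) ∘ₗ φ)
  refine congrArg _ (LinearMap.ext fun x => ?_)
  simp [ins_apply, TensorProduct.smul_tmul]

/-- `T²(B₀) ⊗ V → T²(B₀ ⊗ V)`. -/
def theta (V : Type u) [AddCommGroup V] [Module k V] :
    CotT.T2 (CotT.canon k B₀) B₀ ⊗[k] V →+ CotT.T2 (CotT.canon k B₀) (B₀ ⊗[k] V) :=
  TensorProduct.liftAddHom
    (AddMonoidHom.mk' (fun t => AddMonoidHom.mk' (fun j => CotT.T2map (CotT.canon k B₀) (ins k B₀ j) t)
      fun a b => T2map_ins_add a b t)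
      fun a b => AddMonoidHom.ext fun j => (CotT.T2map (CotT.canon k B₀) (ins k B₀ j)).map_add a b)
    fun c t j => T2map_ins_smul c j t

theorem theta_tmul {V : Type u} [AddCommGroup V] [Module k V]
    (φ : CotT.L2 (CotT.canon k B₀) →ₗ[B₀] B₀) (j : V) :
    theta (k := k) (B₀ := B₀) V (CotT.toT2 (CotT.canon k B₀) B₀ φ ⊗ₜ[k] j) =
      CotT.toT2 (CotT.canon k B₀) _ (ins k B₀ j ∘ₗ φ) := rfl

theorem theta_bijective (V : Type u) [AddCommGroup V] [Module k V] [Module.Finite k V] :
    Function.Bijective (theta (k := k) (B₀ := B₀) V) := by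
  classical
  let e := Module.Free.chooseBasis k V
  let cd : Module.Free.ChooseBasisIndex k V → (B₀ ⊗[k] V →ₗ[B₀] B₀) := fun i =>
    (TensorProduct.AlgebraTensorModule.rid k B₀ B₀).toLinearMap ∘ₗ (e.coord i).baseChange B₀
  have hcd : ∀ i (b : B₀) (v : V), cd i (b ⊗ₜ[k] v) = e.coord i v • b := fun i b v => by
    simp [cd]
  let inv : CotT.T2 (CotT.canon k B₀) (B₀ ⊗[k] V) → CotT.T2 (CotT.canon k B₀) B₀ ⊗[k] V := fun t =>
    ∑ i, CotT.T2map (CotT.canon k B₀) (cd i) t ⊗ₜ[k] e i
  refine Function.bijective_iff_has_inverse.mpr ⟨inv, fun z => ?_, fun t => ?_⟩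
  · induction z using TensorProduct.induction_on with
    | zero => simp [inv]
    | add x y hx hy =>
      conv_rhs => rw [← hx, ← hy]
      simp only [inv, map_add, TensorProduct.add_tmul, Finset.sum_add_distrib]
    | tmul t j =>
      revert t
      refine fun t => Submodule.Quotient.induction_on _ t fun φ => ?_
      have : ∀ i, cd i ∘ₗ ins k B₀ j ∘ₗ φ = e.coord i j • φ := fun i =>
        LinearMap.ext fun x => by simp [hcd, ins_apply]
      change ∑ i, CotT.toT2 (CotT.canon k B₀) B₀ (cd i ∘ₗ ins k B₀ j ∘ₗ φ) ⊗ₜ[k] e i =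
        CotT.toT2 (CotT.canon k B₀) B₀ φ ⊗ₜ[k] j
      refine (Finset.sum_congr rfl fun i _ => ?_).trans ((TensorProduct.tmul_sum _ _
        (fun i => e.coord i j • e i)).symm.trans (congrArg _ (e.sum_repr j)))
      refine (congrArg (fun ψ => CotT.toT2 (CotT.canon k B₀) B₀ ψ ⊗ₜ[k] e i) (this i)).trans ?_
      refine (congrArg (· ⊗ₜ[k] e i) (?_ : CotT.toT2 (CotT.canon k B₀) B₀ (e.coord i j • φ) =
        e.coord i j • CotT.toT2 (CotT.canon k B₀) B₀ φ)).trans
        (TensorProduct.smul_tmul (e.coord i j) (CotT.toT2 (CotT.canon k B₀) B₀ φ) (e i))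
      exact Submodule.Quotient.mk_smul _ _ _
  · refine Submodule.Quotient.induction_on _ t fun φ => ?_
    refine ((map_sum (theta (k := k) (B₀ := B₀) V) _ Finset.univ).trans
      (Finset.sum_congr rfl fun i _ => theta_tmul (cd i ∘ₗ φ) (e i))).trans ?_
    refine (map_sum (CotT.toT2 (CotT.canon k B₀) (B₀ ⊗[k] V)) _ _).symm.trans (congrArg _ ?_)
    refine LinearMap.ext fun x => ?_
    rw [LinearMap.sum_apply]
    simp only [LinearMap.comp_apply]
    induction φ x using TensorProduct.induction_on with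
    | zero => simp
    | add a b ha hb => simp only [map_add, Finset.sum_add_distrib, ha, hb]
    | tmul b v =>
      simp only [hcd, ins_apply, TensorProduct.smul_tmul, ← TensorProduct.tmul_sum]
      congr 1
      exact e.sum_repr v

theorem theta_natural {V V' : Type u} [AddCommGroup V] [Module k V] [AddCommGroup V'] [Module k V']
    (κ : V →ₗ[k] V') (z : CotT.T2 (CotT.canon k B₀) B₀ ⊗[k] V) :
    theta (k := k) (B₀ := B₀) V' (LinearMap.lTensor _ κ z) = CotT.T2map (CotT.canon k B₀) (κ.baseChange B₀) (theta (k := k) (B₀ := B₀) V z) := by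
  induction z using TensorProduct.induction_on with
  | zero => simp
  | add x y hx hy => simp only [map_add, hx, hy]
  | tmul t j =>
    revert t
    refine fun t => Submodule.Quotient.induction_on _ t fun φ => ?_
    change CotT.toT2 (CotT.canon k B₀) (B₀ ⊗[k] V') (ins k B₀ (κ j) ∘ₗ φ) =
      CotT.toT2 (CotT.canon k B₀) (B₀ ⊗[k] V') (κ.baseChange B₀ ∘ₗ ins k B₀ j ∘ₗ φ)
    refine congrArg _ (LinearMap.ext fun x => ?_)
    simp [ins_apply]

end Theta

section Natural

variable {K : Ideal C'} (hK : K ≤ IsLocalRing.maximalIdeal C') (hKJ : K ≤ RingHom.ker p.toAlgHom)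
  (hq : IsSemismallExt (quotFactor hK p hKJ))

/-- Reduction of coefficients modulo `K`. -/
def toQuot : Pol k B₀ C' →+* Pol k B₀ (quot C' K hK) :=
  MvPolynomial.map (quotMk C' K hK).toAlgHom.toRingHom

set_option maxHeartbeats 1000000 in
include hp in
theorem obsC_natural : obsC (quotFactor hK p hKJ) D hq =
    CotT.T2map (CotT.canon k B₀) (((kerToQuot hK p hKJ).restrictScalars k).baseChange B₀) (obsC p D hp) := by
  let κ := (kerToQuot hK p hKJ).restrictScalars k
  let g : Pol k B₀ C' →+* Pol k B₀ (quot C' K hK) := toQuot hK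
  have hψ : ∀ a, ψ (quotFactor hK p hKJ) D (g a) = ψ p D a := fun a => by
    refine RingHom.congr_fun (f := (ψ (quotFactor hK p hKJ) D).comp g)
      (MvPolynomial.ringHom_ext (fun c => ?_) fun b => ?_) a
    · rw [RingHom.comp_apply, ψ_C]
      simp only [g, toQuot, MvPolynomial.map_C, ψ_C]
      rfl
    · rw [RingHom.comp_apply, ψ_X]
      simp only [g, toQuot, MvPolynomial.map_X, ψ_X]
  have hρ : ∀ a, ρ₀ (g a) = ρ₀ a := fun a => by
    simp only [g, toQuot, ρ₀, MvPolynomial.map_map]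
    congr 2
  obtain ⟨F, hF⟩ := exists_isLift p D hp
  let F' : CotT.CanonRels k B₀ → Pol k B₀ (quot C' K hK) := fun s => g (F s)
  have hF' : IsLift (quotFactor hK p hKJ) D F' := fun s => ⟨(hψ _).trans (hF s).1, (hρ _).trans (hF s).2⟩
  rw [obsC_eq _ D hq hF', obsC_eq p D hp hF, T2map_mk]
  congr 1
  refine L2_ext fun q => ?_
  obtain ⟨r, hr, hrJ⟩ := exists_syz p D hp hF (j₀_qv q)
  obtain ⟨z, hz⟩ := (Translate.mem_map_iff_exists (J p) _).mp hrJ
  have key : ∀ z : Pol k B₀ C' ⊗[C'] ↥(J p),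
      ∃ z' : Pol k B₀ (quot C' K hK) ⊗[(quot C' K hK)] ↥(J (quotFactor hK p hKJ)),
        Translate.rho (J (quotFactor hK p hKJ)) z' = g (Translate.rho (J p) z) ∧
        toN (quotFactor hK p hKJ) D hq (Translate.red (J (quotFactor hK p hKJ)) (ID (quotFactor hK p hKJ) D) z') =
          κ.baseChange B₀ (toN p D hp (Translate.red (J p) (ID p D) z)) := by
    intro z
    induction z using TensorProduct.induction_on with
    | zero => exact ⟨0, by simp, by simp⟩
    | add a b ha hb =>
      obtain ⟨a', h1, h2⟩ := ha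
      obtain ⟨b', h3, h4⟩ := hb
      exact ⟨a' + b', by simp only [map_add, h1, h3], by simp only [map_add, h2, h4]⟩
    | tmul a j =>
      refine ⟨g a ⊗ₜ κ j, ?_, ?_⟩
      · rw [Translate.rho_tmul, Translate.rho_tmul, map_mul, MvPolynomial.algebraMap_eq,
          MvPolynomial.algebraMap_eq]
        simp only [g, toQuot, MvPolynomial.map_C]
        rfl
      · rw [red_mk_tmul, toN_tmul, red_mk_tmul, toN_tmul, LinearMap.baseChange_tmul, hψ]
  obtain ⟨z', hz', hz''⟩ := key z
  let r' : CotT.CanonRels k B₀ →₀ Pol k B₀ (quot C' K hK) := Finsupp.mapRange g (map_zero _) r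
  have hjr : ∀ r, jF F' (Finsupp.mapRange g (map_zero _) r) = g (jF F r) := fun r => by
    induction r using Finsupp.induction_linear with
    | zero => simp
    | add a b ha hb => rw [Finsupp.mapRange_add (map_add g), map_add, map_add, map_add, ha, hb]
    | single s a =>
      rw [Finsupp.mapRange_single, Finsupp.linearCombination_single, Finsupp.linearCombination_single,
        smul_eq_mul, smul_eq_mul, map_mul]
  have hrJ' : jF F' r' ∈ JA (B₀ := B₀) (quotFactor hK p hKJ) := by
    rw [hjr, ← hz, ← hz']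
    exact (Translate.mem_map_iff_exists _ _).mpr ⟨z', rfl⟩
  have hr' : redF r' = qv q := by
    rw [← hr]
    ext1 s
    simp only [r', redF, Finsupp.mapRange_apply, hρ]
  rw [cocycle_spec _ D hq hF' q r' hrJ' hr', LinearMap.comp_apply, cocycle_spec p D hp hF q r hrJ hr,
    val_eq _ D hq hrJ' (z := z') (by rw [hz', hz, hjr]), val_eq p D hp hrJ hz, hz'']

end Natural

end Groth.Agent.H24Def.AffExt
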