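import Groth.Agent.H24Def.Dual
import Groth.Agent.H24Cot.Exal
import Groth.Agent.H28Def.TangentHom

/-! The tangent space of a hull of an affine scheme is the first cotangent module. -/

universe u

open CategoryTheory AlgebraicGeometry IsLocalRing ArtFun ArtFun.Art
open Groth.Agent

set_option linter.style.haveILetI false

noncomputable section

namespace Groth.Agent.H24Def.AffTan

variable {k : Type u} [Field k] {B₀ : Type u} [CommRing B₀] [Algebra k B₀] {ι σ : Type u}
  (P : Algebra.Presentation k B₀ ι σ) {n : ℕ} (e : Fin n ≃ ι)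

local notation "FF" => defFunctor (Λ := k) (Spec (CommRingCat.of B₀)) (H24Def.affPt k B₀)

/-- The variables renamed. -/
def ren : MvPolynomial (Fin n) k ≃ₐ[k] P.toExtension.Ring := MvPolynomial.renameEquiv k e

/-- The presentation map. -/
def f₀ : MvPolynomial (Fin n) k →ₐ[k] B₀ :=
  (IsScalarTower.toAlgHom k P.toExtension.Ring B₀).comp (ren P e).toAlgHom

theorem f₀_surjective : Function.Surjective (f₀ P e) := fun b => by
  obtain ⟨r, hr⟩ := H24Cot.algebraMap_ring_surjective P b
  obtain ⟨p, rfl⟩ := (ren P e).surjective r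
  exact ⟨p, hr⟩

/-- The class of a relation. -/
def cls (f : RingHom.ker (f₀ P e).toRingHom) : P.toExtension.Cotangent :=
  Algebra.Extension.Cotangent.mk ⟨ren P e f.1, f.2⟩

/-- The map on relations given by a map on the conormal module. -/
def hOf (φ : P.toExtension.Cotangent →ₗ[B₀] B₀) : RingHom.ker (f₀ P e).toRingHom →ₗ[k] B₀ where
  toFun f := φ (cls P e f)
  map_add' f g := by
    refine Eq.trans (congrArg φ ?_) (map_add φ (cls P e f) (cls P e g))
    exact (congrArg Algebra.Extension.Cotangent.mk (Subtype.ext (map_add (ren P e) f.1 g.1) :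
      (⟨ren P e (f + g).1, (f + g).2⟩ : P.toExtension.ker) = ⟨_, f.2⟩ + ⟨_, g.2⟩)).trans
      (map_add Algebra.Extension.Cotangent.mk _ _)
  map_smul' c f := by
    refine Eq.trans (congrArg φ ?_) ((φ.map_smul_of_tower c (cls P e f)))
    rw [← algebraMap_smul P.toExtension.Ring c (cls P e f)]
    exact (congrArg Algebra.Extension.Cotangent.mk (Subtype.ext ((map_smul (ren P e) c f.1).trans
      (Algebra.smul_def _ _)) : (⟨ren P e (c • f).1, (c • f).2⟩ : P.toExtension.ker) =
        algebraMap k P.toExtension.Ring c • ⟨_, f.2⟩)).trans (map_smul Algebra.Extension.Cotangent.mk _ _)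

theorem hOf_add (φ φ' : P.toExtension.Cotangent →ₗ[B₀] B₀) : hOf P e (φ + φ') = hOf P e φ + hOf P e φ' :=
  LinearMap.ext fun _ => rfl

theorem hOf_smul (c : k) (φ : P.toExtension.Cotangent →ₗ[B₀] B₀) : hOf P e (c • φ) = c • hOf P e φ :=
  LinearMap.ext fun _ => rfl

theorem real_of_classifies (D : AlgDef B₀ (dual k k : Art k k)) {φ : P.toExtension.Cotangent →ₗ[B₀] B₀}
    (h : H24Cot.Classifies P D.toExt φ) : H28Def.Real (f₀ P e) D.toSch.cl (hOf P e φ) := by
  obtain ⟨ρ, hρ, hφ⟩ := h
  let g : MvPolynomial (Fin n) k →+* D.B := (ρ.toRingHom : P.toExtension.Ring →+* D.B).comp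
    ((ren P e).toAlgHom.toRingHom)
  refine ⟨D, g, rfl, fun c => ?_, fun p => hρ (ren P e p), fun f => ?_⟩
  · change ρ (ren P e (MvPolynomial.C c)) = _
    rw [← MvPolynomial.algebraMap_eq, AlgEquiv.commutes]
    exact (ρ.commutes c).trans rfl
  · exact ⟨D.sect (hOf P e φ f), D.π_sect _, (hφ ⟨ren P e f.1, f.2⟩).trans (mul_comm _ _)⟩

theorem exists_classified (φ : P.toExtension.Cotangent →ₗ[B₀] B₀) :
    ∃ D : AlgDef B₀ (dual k k : Art k k), H24Cot.Classifies P D.toExt φ := by
  obtain ⟨X, hX⟩ := H24Cot.exists_ext_classified P φ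
  refine ⟨ofExt X, ?_⟩
  obtain ⟨ee⟩ := Quotient.exact (s := Exal.Ext.setoid k B₀ B₀) ((dualEquiv k B₀).right_inv X.cl).symm
  exact H24Cot.classifies_of_equiv P ee hX

theorem exists_class (q : (FF).obj (dual k k)) :
    ∃ (D : AlgDef B₀ (dual k k : Art k k)) (φ : P.toExtension.Cotangent →ₗ[B₀] B₀),
      D.toSch.cl = q ∧ H24Cot.Classifies P D.toExt φ := by
  obtain ⟨ξ, rfl⟩ := Quotient.exists_rep q
  obtain ⟨D, ⟨ee⟩⟩ := H24Def.exists_toSch_iso ξ
  obtain ⟨φ, hφ⟩ := H24Cot.exists_classifies P D.toExt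
  exact ⟨D, φ, (Quotient.sound (s := DefSch.setoid (Spec (CommRingCat.of B₀)) (H24Def.affPt k B₀) (dual k k)) ⟨ee⟩).symm, hφ⟩

/-- The class of a first order deformation. -/
def T (q : (FF).obj (dual k k)) : CotT.T1 P B₀ :=
  CotT.homToT1 P B₀ (exists_class P q).choose_spec.choose

theorem T_eq {D : AlgDef B₀ (dual k k : Art k k)} {φ : P.toExtension.Cotangent →ₗ[B₀] B₀}
    (hφ : H24Cot.Classifies P D.toExt φ) : T P D.toSch.cl = CotT.homToT1 P B₀ φ := by
  have hc := (exists_class P D.toSch.cl).choose_spec.choose_spec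
  obtain ⟨ee⟩ := Quotient.exact hc.1
  have hrel := AlgDef.rel_of_iso ee
  have h1 : (Quotient.mk _ (exists_class P D.toSch.cl).choose : _root_.Quotient (AlgDef.setoid (Λ := k) B₀ _)) =
      Quotient.mk _ D := Quotient.sound (s := AlgDef.setoid (Λ := k) B₀ (dual k k : Art k k)) hrel
  obtain ⟨ee2⟩ := Quotient.exact (s := Exal.Ext.setoid k B₀ B₀) (congrArg (dualEquiv k B₀) h1)
  obtain ⟨χ, hχ⟩ := H24Cot.sub_mem_of_classifies P (H24Cot.classifies_of_equiv P ee2 hc.2) hφ
  have : χ ∘ₗ P.toExtension.cotangentComplex ∈ LinearMap.ker (CotT.homToT1 P B₀) := by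
    rw [H24Cot.ker_homToT1]; exact ⟨χ, rfl⟩
  rw [hχ, map_add, LinearMap.mem_ker.mp this, add_zero]
  rfl

theorem T_injective : Function.Injective (T P (k := k) (B₀ := B₀)) := by
  intro q q' h
  obtain ⟨D, φ, rfl, hφ⟩ := exists_class P q
  obtain ⟨D', φ', rfl, hφ'⟩ := exists_class P q'
  rw [T_eq P hφ, T_eq P hφ'] at h
  have hmem : φ' - φ ∈ LinearMap.ker (CotT.homToT1 P B₀) := by
    rw [LinearMap.mem_ker, map_sub, sub_eq_zero]; exact h.symm
  rw [H24Cot.ker_homToT1] at hmem
  obtain ⟨χ, hχ⟩ := hmem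
  have hX := H24Cot.classifies_add P hφ χ
  rw [show χ ∘ₗ P.toExtension.cotangentComplex = _ from hχ, add_sub_cancel] at hX
  have h2 : (Quotient.mk _ D : _root_.Quotient (AlgDef.setoid (Λ := k) B₀ _)) = Quotient.mk _ D' :=
    (dualEquiv k B₀).injective (Quotient.sound (s := Exal.Ext.setoid k B₀ B₀) (H24Cot.equiv_of_classifies P hX hφ'))
  exact Quotient.sound (AlgDef.toSch_iso (Quotient.exact h2))

theorem T_surjective : Function.Surjective (T P (k := k) (B₀ := B₀)) := fun t => by
  obtain ⟨φ, rfl⟩ := H24Cot.homToT1_surjective P B₀ t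
  obtain ⟨D, hD⟩ := exists_classified P φ
  exact ⟨_, T_eq P hD⟩

include e in
theorem T_eq_of_real {q : (FF).obj (dual k k)} {φ : P.toExtension.Cotangent →ₗ[B₀] B₀}
    (h : H28Def.Real (f₀ P e) q (hOf P e φ)) : T P q = CotT.homToT1 P B₀ φ := by
  obtain ⟨D, hD⟩ := exists_classified P φ
  rw [H28Def.eq_of_real (f₀_surjective P e) h (real_of_classifies P e D hD)]
  exact T_eq P hD

include e in
theorem T_plus (z : (FF).obj (dual2 k k)) :
    T P ((FF).map plus z) = T P ((FF).map pr₁ z) + T P ((FF).map pr₂ z) := by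
  obtain ⟨D₁, φ₁, h₁, hφ₁⟩ := exists_class P ((FF).map pr₁ z)
  obtain ⟨D₂, φ₂, h₂, hφ₂⟩ := exists_class P ((FF).map pr₂ z)
  have r₁ := real_of_classifies P e D₁ hφ₁
  have r₂ := real_of_classifies P e D₂ hφ₂
  rw [h₁] at r₁
  rw [h₂] at r₂
  have r₃ := H28Def.real_plus r₁ r₂
  rw [← hOf_add] at r₃
  rw [T_eq_of_real P e r₃, ← h₁, ← h₂, T_eq P hφ₁, T_eq P hφ₂, map_add]

include e in
theorem T_scale {c : k} (hc : c ≠ 0) (q : (FF).obj (dual k k)) :
    T P ((FF).map (scale c) q) = c • T P q := by
  obtain ⟨D, φ, rfl, hφ⟩ := exists_class P q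
  have r := H28Def.real_scale hc (real_of_classifies P e D hφ)
  rw [← hOf_smul] at r
  rw [T_eq_of_real P e r, T_eq P hφ, ← algebraMap_smul B₀ c, map_smul, algebraMap_smul]

section Der

variable {R : Type u} [CommRing R] [Algebra k R] (res : R →ₐ[k] k)

/-- Derivations at the point. -/
def pointDer : Submodule k (R →ₗ[k] k) where
  carrier := {δ | ∀ x y, δ (x * y) = res x * δ y + res y * δ x}
  add_mem' ha hb x y := by
    simp only [LinearMap.add_apply, ha x y, hb x y]
    ring
  zero_mem' x y := by simp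
  smul_mem' c δ h x y := by
    simp only [LinearMap.smul_apply, h x y, smul_eq_mul]
    ring

theorem pointDer_one {δ : R →ₗ[k] k} (h : δ ∈ pointDer res) : δ 1 = 0 := by
  have := h 1 1
  rw [mul_one, map_one res, one_mul] at this
  exact left_eq_add.mp this

theorem pointDer_algebraMap {δ : R →ₗ[k] k} (h : δ ∈ pointDer res) (c : k) : δ (algebraMap k R c) = 0 := by
  rw [Algebra.algebraMap_eq_smul_one, map_smul, pointDer_one res h, smul_zero]

/-- The point of a square-zero extension given by derivations. -/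
def tsHom {M : Type u} [AddCommGroup M] [Module k M] [Module kᵐᵒᵖ M] [IsCentralScalar k M]
    (δ : R →ₗ[k] M) (hδ : ∀ x y, δ (x * y) = res x • δ y + res y • δ x) :
    R →ₐ[k] TrivSqZeroExt k M where
  toFun r := TrivSqZeroExt.inl (res r) + TrivSqZeroExt.inr (δ r)
  map_one' := by
    have := hδ 1 1
    rw [mul_one, map_one res, one_smul] at this
    rw [map_one, left_eq_add.mp this, TrivSqZeroExt.inr_zero, add_zero, TrivSqZeroExt.inl_one]
  map_mul' x y := by
    refine TrivSqZeroExt.ext ?_ ?_
    · simp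
    · simp [hδ, op_smul_eq_smul]
  map_zero' := by simp
  map_add' x y := by
    refine TrivSqZeroExt.ext ?_ ?_ <;> simp
  commutes' c := by
    have h0 : δ (algebraMap k R c) = 0 := by
      have := hδ 1 1
      rw [mul_one, map_one res, one_smul] at this
      rw [Algebra.algebraMap_eq_smul_one, map_smul, left_eq_add.mp this, smul_zero]
    rw [h0, TrivSqZeroExt.inr_zero, add_zero, AlgHom.commutes]
    rfl

/-- The point over the dual numbers. -/
def dualHom (δ : pointDer res) : HomSet R res (dual k k) :=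
  ⟨tsHom res δ.1 fun x y => δ.2 x y, AlgHom.ext fun r => by
    change TrivSqZeroExt.fst (TrivSqZeroExt.inl (res r) + TrivSqZeroExt.inr (δ.1 r) : TrivSqZeroExt k k) = res r
    simp⟩

theorem dualHom_surjective (φ : HomSet R res (dual k k)) : ∃ δ, dualHom res δ = φ := by
  have key : ∀ (φ : R →ₐ[k] TrivSqZeroExt k k), (∀ r, TrivSqZeroExt.fst (φ r) = res r) →
      ∃ δ : pointDer res, tsHom res δ.1 (fun x y => δ.2 x y) = φ := fun φ hφ => by
    refine ⟨⟨(TrivSqZeroExt.sndHom k k).restrictScalars k ∘ₗ φ.toLinearMap, fun x y => ?_⟩, AlgHom.ext fun r => ?_⟩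
    · simp [hφ, mul_comm]
    · refine TrivSqZeroExt.ext ?_ ?_
      · simp [tsHom, hφ]
      · simp [tsHom]
  obtain ⟨δ, hδ⟩ := key φ.1 fun r => AlgHom.congr_fun φ.2 r
  exact ⟨δ, Subtype.ext hδ⟩

theorem dualHom_injective : Function.Injective (dualHom res) := fun δ δ' h => by
  refine Subtype.ext (LinearMap.ext fun r => ?_)
  have key : ∀ d : pointDer res, TrivSqZeroExt.snd (tsHom res d.1 (fun x y => d.2 x y) r) = d.1 r := fun d => by
    simp [tsHom]
  exact (key δ).symm.trans ((congrArg TrivSqZeroExt.snd (AlgHom.congr_fun (congrArg Subtype.val h) r :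
    tsHom res δ.1 (fun x y => δ.2 x y) r = tsHom res δ'.1 (fun x y => δ'.2 x y) r)).trans (key δ'))

/-- The point over `k[ε₁, ε₂]`. -/
def dual2Hom (δ δ' : pointDer res) : HomSet R res (dual2 k k) :=
  ⟨tsHom res (δ.1.prod δ'.1) fun x y => Prod.ext (δ.2 x y) (δ'.2 x y), AlgHom.ext fun r => by
    change TrivSqZeroExt.fst (TrivSqZeroExt.inl (res r) + TrivSqZeroExt.inr (δ.1 r, δ'.1 r) :
      TrivSqZeroExt k (k × k)) = res r
    simp⟩

theorem map_tszeMap {M M' : Type u} [AddCommGroup M] [Module k M] [Module kᵐᵒᵖ M] [IsCentralScalar k M]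
    [AddCommGroup M'] [Module k M'] [Module kᵐᵒᵖ M'] [IsCentralScalar k M'] (f : M →ₗ[k] M') (x : k) (m : M) :
    tszeMap (Λ := k) f (TrivSqZeroExt.inl x + TrivSqZeroExt.inr m) =
      TrivSqZeroExt.inl x + TrivSqZeroExt.inr (f m) := by
  refine TrivSqZeroExt.ext ?_ ?_
  · change TrivSqZeroExt.fst (TrivSqZeroExt.inl x + TrivSqZeroExt.inr m) = _
    simp
  · change f (TrivSqZeroExt.snd (TrivSqZeroExt.inl x + TrivSqZeroExt.inr m)) = _
    simp

theorem map_plus (δ δ' : pointDer res) : HomSet.map plus (dual2Hom res δ δ') = dualHom res (δ + δ') :=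
  Subtype.ext (AlgHom.ext fun r => map_tszeMap (LinearMap.fst k k k + LinearMap.snd k k k) (res r) (δ.1 r, δ'.1 r))

theorem map_pr₁ (δ δ' : pointDer res) : HomSet.map pr₁ (dual2Hom res δ δ') = dualHom res δ :=
  Subtype.ext (AlgHom.ext fun r => map_tszeMap (LinearMap.fst k k k) (res r) (δ.1 r, δ'.1 r))

theorem map_pr₂ (δ δ' : pointDer res) : HomSet.map pr₂ (dual2Hom res δ δ') = dualHom res δ' :=
  Subtype.ext (AlgHom.ext fun r => map_tszeMap (LinearMap.snd k k k) (res r) (δ.1 r, δ'.1 r))

theorem map_scale (c : k) (δ : pointDer res) : HomSet.map (scale c) (dualHom res δ) = dualHom res (c • δ) :=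
  Subtype.ext (AlgHom.ext fun r => map_tszeMap (c • LinearMap.id) (res r) (δ.1 r))

/-- The classes of a family on the points over the dual numbers. -/
def tangent (ξ : Family R res FF) (δ : pointDer res) : CotT.T1 P B₀ := T P (ξ.app _ (dualHom res δ))

include e in
theorem tangent_add (ξ : Family R res FF) (δ δ' : pointDer res) :
    tangent P res ξ (δ + δ') = tangent P res ξ δ + tangent P res ξ δ' := by
  have h := T_plus P e (ξ.app _ (dual2Hom res δ δ'))
  rw [← ξ.natural, ← ξ.natural, ← ξ.natural, map_plus, map_pr₁, map_pr₂] at h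
  exact h

include e in
theorem tangent_smul (ξ : Family R res FF) (c : k) (δ : pointDer res) :
    tangent P res ξ (c • δ) = c • tangent P res ξ δ := by
  rcases eq_or_ne c 0 with rfl | hc
  · have h := tangent_add P e res ξ 0 0
    rw [add_zero, left_eq_add] at h
    rw [zero_smul, zero_smul, h]
  · have h := T_scale P e hc (ξ.app _ (dualHom res δ))
    rw [← ξ.natural, map_scale] at h
    exact h

include e in
theorem finrank_pointDer (ξ : Family R res FF) (hξ : IsMiniversal ξ) :
    Nonempty (pointDer res ≃ₗ[k] CotT.T1 P B₀) :=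
  ⟨LinearEquiv.ofBijective
    { toFun := tangent P res ξ, map_add' := tangent_add P e res ξ, map_smul' := tangent_smul P e res ξ }
    (show Function.Bijective (T P ∘ (fun δ => ξ.app _ (dualHom res δ))) from
      (Function.Bijective.comp (g := T P) ⟨T_injective P, T_surjective P⟩
        (hξ.2.comp ⟨dualHom_injective res, dualHom_surjective res⟩)))⟩

end Der

/-- The cotangent space of a local algebra with residue field `k` is dual to the derivations at the point. -/
theorem finrank_pointDer_eq {R : Type u} [CommRing R] [IsLocalRing R] [IsNoetherianRing R] [Algebra k R]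
    (res : R →ₐ[k] k) :
    Module.finrank k (pointDer res) = Module.finrank (ResidueField R) (CotangentSpace R) := by
  have hker : RingHom.ker (res : R →+* k) = maximalIdeal R :=
    IsLocalRing.eq_maximalIdeal (RingHom.ker_isMaximal_of_surjective (res : R →+* k)
      fun c => ⟨algebraMap k R c, res.commutes c⟩)
  have hmem : ∀ r, r - algebraMap k R (res r) ∈ maximalIdeal R := fun r => by
    rw [← hker, RingHom.mem_ker, RingHom.coe_coe, map_sub, AlgHom.commutes]
    exact sub_self _
  have hres : ∀ m : maximalIdeal R, res m.1 = 0 := fun m => hker.ge m.2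
  let π : R →ₗ[k] CotangentSpace R :=
    { toFun := fun r => (maximalIdeal R).toCotangent ⟨_, hmem r⟩
      map_add' := fun x y => by
        rw [← map_add]
        exact congrArg _ (Subtype.ext (by simp only [map_add, Submodule.coe_add]; ring))
      map_smul' := fun c x => by
        rw [RingHom.id_apply, ← algebraMap_smul R c ((maximalIdeal R).toCotangent _),
          ← (maximalIdeal R).toCotangent.map_smul]
        refine congrArg _ (Subtype.ext ?_)
        change c • x - algebraMap k R (res (c • x)) = algebraMap k R c * (x - algebraMap k R (res x))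
        rw [map_smul, Algebra.smul_def, smul_eq_mul, map_mul]
        ring }
  have hπm : ∀ m : maximalIdeal R, π m.1 = (maximalIdeal R).toCotangent m := fun m =>
    congrArg _ (Subtype.ext (by simp [hres]))
  have hπmul : ∀ x y, π (x * y) = res x • π y + res y • π x := fun x y => by
    rw [← π.map_smul, ← π.map_smul, ← map_add]
    refine (Ideal.toCotangent_eq _).mpr ?_
    have h2 := Ideal.mul_mem_mul (hmem x) (hmem y)
    rw [← pow_two] at h2
    convert h2 using 1
    simp only [map_add, map_mul, map_smul, smul_eq_mul, Algebra.smul_def, AlgHom.commutes,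
      show ∀ c : k, algebraMap k k c = c from fun c => rfl]
    ring
  have hπs : Function.Surjective π := fun z => by
    obtain ⟨m, rfl⟩ := (maximalIdeal R).toCotangent_surjective z
    exact ⟨m.1, hπm m⟩
  have hL : ∀ l : Module.Dual k (CotangentSpace R), l ∘ₗ π ∈ pointDer res := fun l x y => by
    simp only [LinearMap.comp_apply, hπmul, map_add, map_smul, smul_eq_mul]
  let E : Module.Dual k (CotangentSpace R) ≃ₗ[k] pointDer res :=
    LinearEquiv.ofBijective
      { toFun := fun l => ⟨l ∘ₗ π, hL l⟩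
        map_add' := fun a b => rfl
        map_smul' := fun a b => rfl }
      ⟨fun a b h => LinearMap.ext fun z => by
        obtain ⟨r, rfl⟩ := hπs z
        exact LinearMap.congr_fun (congrArg Subtype.val h) r,
      fun δ => by
        have hle : LinearMap.ker π ≤ LinearMap.ker δ.1 := fun r hr => by
          have h1 : r - algebraMap k R (res r) ∈ maximalIdeal R ^ 2 :=
            ((maximalIdeal R).toCotangent_eq_zero _).mp hr
          rw [pow_two] at h1
          have h2 : δ.1 (r - algebraMap k R (res r)) = 0 := by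
            refine Submodule.mul_induction_on (C := fun z => δ.1 z = 0) h1 (fun a ha b hb => ?_)
              fun a b ha hb => ?_
            · rw [δ.2 a b, hres ⟨a, ha⟩, hres ⟨b, hb⟩, zero_mul, zero_mul, add_zero]
            · rw [map_add, ha, hb, add_zero]
          rwa [map_sub, pointDer_algebraMap res δ.2, sub_zero] at h2
        refine ⟨(LinearMap.ker π).liftQ δ.1 hle ∘ₗ (π.quotKerEquivOfSurjective hπs).symm.toLinearMap,
          Subtype.ext (LinearMap.ext fun r => ?_)⟩
        change (LinearMap.ker π).liftQ δ.1 hle ((π.quotKerEquivOfSurjective hπs).symm (π r)) = δ.1 r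
        rw [show (π.quotKerEquivOfSurjective hπs).symm (π r) = Submodule.Quotient.mk r from
          (LinearEquiv.symm_apply_eq _).mpr rfl]
        rfl⟩
  have h1 : Module.finrank k (ResidueField R) = 1 := by
    refine finrank_eq_one (1 : ResidueField R) one_ne_zero fun w => ?_
    obtain ⟨r, rfl⟩ := residue_surjective w
    refine ⟨res r, ?_⟩
    rw [Algebra.smul_def, mul_one, IsScalarTower.algebraMap_apply k R (ResidueField R), eq_comm,
      ← sub_eq_zero, ResidueField.algebraMap_eq, ← map_sub, residue_eq_zero_iff]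
    exact hmem r
  haveI : IsScalarTower k (ResidueField R) (CotangentSpace R) :=
    IsScalarTower.of_algebraMap_smul fun c z => by
      rw [IsScalarTower.algebraMap_apply k R (ResidueField R), algebraMap_smul, algebraMap_smul]
  rw [← E.finrank_eq, Subspace.dual_finrank_eq, ← Module.finrank_mul_finrank k (ResidueField R), h1, one_mul]

end Groth.Agent.H24Def.AffTan
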