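import Groth.Agent.H3CAlg.ArtinRegular

/-! Complete intersections in flat algebras over an Artinian local ring: regular sequences and their
generation of a flat ideal can be tested on the closed fibre. -/

set_option autoImplicit false
set_option linter.style.haveILetI false

open TensorProduct
open RingTheory.Sequence

namespace Groth.Agent.H24Def

universe u

variable {C A : Type u} [CommRing C] [IsLocalRing C] [IsArtinianRing C]
  [CommRing A] [Algebra C A] [Module.Flat C A]

theorem isRegular_of_map_quotient (J : Ideal C) (hJ : J ≠ ⊤) (rs : List A)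
    (h : IsRegular (A ⧸ J.map (algebraMap C A))
      (rs.map (Ideal.Quotient.mk (J.map (algebraMap C A))))) :
    IsRegular A rs ∧ Module.Flat C (A ⧸ Ideal.ofList rs) := by
  have hJA : (J.map (algebraMap C A) • ⊤ : Submodule A A) = J.map (algebraMap C A) := by
    rw [smul_eq_mul, Ideal.mul_top]
  have h1 := (isWeaklyRegular_map_algebraMap_iff (A ⧸ J.map (algebraMap C A))
    (A ⧸ J.map (algebraMap C A)) rs).mp h.toIsWeaklyRegular
  have H := Groth.Agent.H3CAlg.isWeaklyRegular_iff_and_flat J hJ rs A
  have hw : IsWeaklyRegular A rs :=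
    H.1.mpr (((Submodule.quotEquivOfEq _ _ hJA).isWeaklyRegular_congr rs).mpr h1)
  have hfl := H.2 hw
  refine ⟨⟨hw, fun htop => h.2 ?_⟩, ?_⟩
  · rw [smul_eq_mul, Ideal.mul_top, ← Ideal.map_ofList]
    rw [smul_eq_mul, Ideal.mul_top] at htop
    rw [← htop, Ideal.map_top]
  · exact Module.Flat.of_linearEquiv
      (((Submodule.quotEquivOfEq (Ideal.ofList rs • ⊤ : Submodule A A) (Ideal.ofList rs)
        (by rw [smul_eq_mul, Ideal.mul_top])).restrictScalars C).symm)

/-- An ideal with flat quotient equals a smaller one with flat quotient if it does so on the fibre. -/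
theorem eq_of_le_of_le_sup (I I' : Ideal A) [Module.Flat C (A ⧸ I)] (hle : I' ≤ I)
    (h : I ≤ I' ⊔ (IsLocalRing.maximalIdeal C).map (algebraMap C A)) : I' = I := by
  refine le_antisymm hle fun x hx => ?_
  let m := IsLocalRing.maximalIdeal C
  let f : (A ⧸ I') →ₗ[C] A ⧸ I := (Ideal.Quotient.factorₐ C hle).toLinearMap
  have hf : Function.Surjective f := Ideal.Quotient.factor_surjective hle
  have hi : Function.Injective f := by
    refine Groth.Agent.H3CAlg.injective_of_surjective_of_lTensor_quot m
      Groth.Agent.H3CAlg.isNilpotent_maximalIdeal f hf ((injective_iff_map_eq_zero _).mpr fun z hz => ?_)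
    obtain ⟨y, hy⟩ := Submodule.Quotient.mk_surjective _ (TensorProduct.quotTensorEquivQuotSMul (A ⧸ I') m z)
    obtain ⟨a, rfl⟩ := Ideal.Quotient.mk_surjective y
    have hze : z = Ideal.Quotient.mk m 1 ⊗ₜ[C] Ideal.Quotient.mk I' a := by
      rw [← (TensorProduct.quotTensorEquivQuotSMul (A ⧸ I') m).injective.eq_iff, ← hy]
      simp
    rw [hze, LinearMap.lTensor_tmul] at hz
    have h2 := congrArg (TensorProduct.quotTensorEquivQuotSMul (A ⧸ I) m) hz
    simp only [TensorProduct.quotTensorEquivQuotSMul_mk_tmul, one_smul, map_zero,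
      Submodule.Quotient.mk_eq_zero] at h2
    change Ideal.Quotient.mk I a ∈ (m • ⊤ : Submodule C (A ⧸ I)) at h2
    have hK : ∀ (K : Ideal A), Ideal.Quotient.mk K a ∈ (m • ⊤ : Submodule C (A ⧸ K)) ↔
        a ∈ m.map (algebraMap C A) ⊔ K := fun K => by
      rw [Ideal.smul_top_eq_map, Submodule.restrictScalars_mem, ← Ideal.mem_quotient_iff_mem_sup,
        Ideal.map_map]
      rfl
    have h3 : a ∈ m.map (algebraMap C A) ⊔ I' := by
      have hI : m.map (algebraMap C A) ⊔ I ≤ m.map (algebraMap C A) ⊔ I' :=
        sup_le le_sup_left (h.trans (by rw [sup_comm]))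
      exact hI ((hK I).mp h2)
    rw [hze, ← (TensorProduct.quotTensorEquivQuotSMul (A ⧸ I') m).map_eq_zero_iff,
      TensorProduct.quotTensorEquivQuotSMul_mk_tmul, one_smul, Submodule.Quotient.mk_eq_zero]
    exact (hK I').mpr h3
  exact Ideal.Quotient.eq_zero_iff_mem.mp (hi ((Ideal.Quotient.eq_zero_iff_mem.mpr hx).trans (map_zero f).symm))

end Groth.Agent.H24Def
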