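import Mathlib
import Groth.Prelude.Def_CAlg
import Groth.Agent.H3CAlg.HilbertBurch
import Groth.Agent.H3CAlg.ValPd
import Groth.Agent.H02CA.AuslanderBuchsbaum
import Groth.Agent.H05EGA4.SerreCond
import Groth.Agent.H05EGA4.CodepthLocal
import Groth.Agent.H06EGA12.FieldFormula
import Groth.Agent.H4Depth.Regular
import Groth.Agent.H8Props.FlatDepth

/-!
# Hilbert–Burch for Cohen–Macaulay quotients of codimension two of regular local rings (helper24)
-/

set_option autoImplicit false
set_option linter.style.haveILetI false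
universe u
open IsLocalRing CategoryTheory Groth.Agent Matrix

namespace Groth.Agent.H24Def.BurchCM

variable {A : Type u} [CommRing A] [IsRegularLocalRing A] (I : Ideal A)

theorem pd_le_two [LocCoh.IsCohenMacaulayLocalRing (A ⧸ I)]
    (hcodim : ringKrullDim (A ⧸ I) + 2 = ringKrullDim A) :
    HasProjectiveDimensionLE (ModuleCat.of A (A ⧸ I)) 2 := by
  obtain ⟨b, -, hb⟩ := H05EGA4.exists_pd_residueField A
  have hfin : projectiveDimension (ModuleCat.of A (A ⧸ I)) ≠ ⊤ := by
    refine ne_top_of_le_ne_top ?_ ((projectiveDimension_le_iff _ b).2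
      (H05EGA4.hasProjectiveDimensionLT_of_residueField b hb _))
    exact WithBot.coe_inj.not.2 (ENat.natCast_ne_top b)
  obtain ⟨e, he⟩ := H02CA.AuslanderBuchsbaum.exists_pd_eq (A ⧸ I) hfin
  obtain ⟨he1, he2⟩ := H02CA.AuslanderBuchsbaum.pd_bounds_of_eq he
  have hab := H02CA.AuslanderBuchsbaum.depth_eq_add e (A ⧸ I) he1 he2
  rw [← H8Props.FlatDepth.depth_eq_of_surjective (S := A ⧸ I) (M := A ⧸ I) Ideal.Quotient.mk_surjective] at hab
  have h1 := (H8Props.FlatDepth.isCM_iff_dim (A ⧸ I)).mp ‹_›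
  have h2 := H4Depth.depth_self_eq_ringKrullDim_of_regular A
  obtain ⟨d, hd⟩ : ∃ d : ℕ, LocCoh.depth (A ⧸ I) (A ⧸ I) = (d : ℕ∞) :=
    ⟨_, (ENat.coe_toNat (H8Props.FlatDepth.depth_ne_top (A ⧸ I) (A ⧸ I))).symm⟩
  rw [hd] at hab h1
  rw [hab] at h2
  rw [← h2, h1] at hcodim
  have : ((d + 2 : ℕ) : WithBot ℕ∞) = ((e + d : ℕ) : WithBot ℕ∞) := by push_cast at hcodim ⊢; exact hcodim
  have : d + 2 = e + d := by exact_mod_cast this
  obtain rfl : e = 2 := by omega
  exact he1

theorem exists_matrix [LocCoh.IsCohenMacaulayLocalRing (A ⧸ I)]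
    (hcodim : ringKrullDim (A ⧸ I) + 2 = ringKrullDim A) :
    ∃ (r : ℕ) (φ : Matrix (Fin (r + 1)) (Fin r) A),
      Ideal.span (Set.range (fun i : Fin (r + 1) => (-1 : A) ^ (i : ℕ) * (φ.submatrix i.succAbove id).det)) = I ∧
      I.spanFinrank = r + 1 ∧
      Function.Injective φ.mulVecLin ∧
      LinearMap.range φ.mulVecLin =
        LinearMap.ker (Fintype.linearCombination A (fun i : Fin (r + 1) => (-1 : A) ^ (i : ℕ) * (φ.submatrix i.succAbove id).det)) := by
  classical
  obtain ⟨D, hD⟩ : ∃ D : ℕ, ringKrullDim A = D := H05EGA4.exists_nat_ringKrullDim _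
  have hIne : I ≠ ⊥ := by
    rintro rfl
    rw [ringKrullDim_eq_of_ringEquiv (RingEquiv.quotientBot A), hD] at hcodim
    have : D + 2 = D := by exact_mod_cast hcodim
    omega
  obtain ⟨s, hs, hspan⟩ := (IsNoetherian.noetherian I).exists_span_finset_card_eq_spanFinrank
  let n := I.spanFinrank
  let f : Fin n → A := fun i => ((s.equivFinOfCardEq hs).symm i : A)
  let π : (Fin n → A) →ₗ[A] A := Fintype.linearCombination A f
  have hrange : LinearMap.range π = I := by
    rw [Fintype.range_linearCombination, show Set.range f = (s : Set A) from ?_]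
    · exact hspan
    · rw [show f = Subtype.val ∘ (s.equivFinOfCardEq hs).symm from rfl, Set.range_comp]
      simp
  let π' : (Fin n → A) →ₗ[A] LinearMap.ker I.mkQ :=
    π.codRestrict _ fun v => by rw [Submodule.ker_mkQ]; exact hrange.le ⟨v, rfl⟩
  have hπ' : Function.Surjective π' := fun y => by
    obtain ⟨v, hv⟩ := hrange.ge (show (y : A) ∈ I by simpa [Submodule.ker_mkQ] using y.2)
    exact ⟨v, Subtype.ext hv⟩
  haveI : Module.Projective A (LinearMap.ker π') := by
    rw [IsProjective.iff_projective, projective_iff_hasProjectiveDimensionLT_one]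
    exact H3CAlg.ValPd.pd_ker_of_surjective' π' hπ' 0
      (H3CAlg.ValPd.pd_ker_of_surjective' I.mkQ I.mkQ_surjective 1 (pd_le_two I hcodim))
  haveI : Module.Free A (LinearMap.ker π') := Module.free_of_flat_of_isLocalRing
  let m := Module.finrank A (LinearMap.ker π')
  let bK := Module.finBasis A (LinearMap.ker π')
  let Ψ : Matrix (Fin n) (Fin m) A := LinearMap.toMatrix' ((LinearMap.ker π').subtype ∘ₗ bK.equivFun.symm.toLinearMap)
  have hΨ : Ψ.mulVecLin = (LinearMap.ker π').subtype ∘ₗ bK.equivFun.symm.toLinearMap :=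
    Matrix.toLin'_toMatrix' _
  have hinj : LinearMap.ker Ψ.mulVecLin = ⊥ := by
    rw [LinearMap.ker_eq_bot, hΨ]
    exact Subtype.val_injective.comp bK.equivFun.symm.injective
  have hker : LinearMap.ker π = LinearMap.range Ψ.mulVecLin := by
    rw [hΨ, LinearMap.range_comp, LinearEquiv.range, Submodule.map_top, Submodule.range_subtype,
      LinearMap.ker_codRestrict]
  obtain ⟨hnm, ⟨a, ha, hI⟩, hdepth⟩ := H3CAlg.HilbertBurch.of_resolution Ψ π hinj hker (hrange ▸ hIne)
  rw [hrange] at hI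
  have hau : IsUnit a := by
    by_contra hau
    have hle : I ≤ Ideal.span {a} := hI.le.trans Ideal.mul_le_left
    have h1 := ringKrullDim_quotient_span_singleton_succ_eq_ringKrullDim_of_mem_nonZeroDivisors ha
      ((mem_maximalIdeal a).mpr hau)
    have h2 : ringKrullDim (A ⧸ Ideal.span {a}) ≤ ringKrullDim (A ⧸ I) :=
      ringKrullDim_le_of_surjective (Ideal.Quotient.factor hle) (Ideal.Quotient.factor_surjective hle)
    haveI : Nontrivial (A ⧸ Ideal.span {a}) := Ideal.Quotient.nontrivial_iff.mpr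
      (by rwa [ne_eq, Ideal.span_singleton_eq_top])
    obtain ⟨d, hd⟩ : ∃ d : ℕ, ringKrullDim (A ⧸ I) = d := H05EGA4.exists_nat_ringKrullDim _
    obtain ⟨d', hd'⟩ : ∃ d' : ℕ, ringKrullDim (A ⧸ Ideal.span {a}) = d' :=
      H05EGA4.exists_nat_ringKrullDim _
    rw [hd', hD] at h1
    rw [hd, hD] at hcodim
    rw [hd, hd'] at h2
    have h3 : d' + 1 = D := by exact_mod_cast h1
    have h4 : d + 2 = D := by exact_mod_cast hcodim
    have h5 : d' ≤ d := by exact_mod_cast h2
    omega
  rw [Ideal.span_singleton_eq_top.mpr hau, Ideal.top_mul] at hI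
  have main : ∀ {n r : ℕ} (Φ : Matrix (Fin n) (Fin r) A), n = r + 1 → CAlgX.minorIdeal Φ r = I →
      2 ≤ LocCoh.idealDepth (CAlgX.minorIdeal Φ r) A → I.spanFinrank = n →
      ∃ (r : ℕ) (φ : Matrix (Fin (r + 1)) (Fin r) A),
        Ideal.span (Set.range (fun i : Fin (r + 1) => (-1 : A) ^ (i : ℕ) * (φ.submatrix i.succAbove id).det)) = I ∧
        I.spanFinrank = r + 1 ∧
        Function.Injective φ.mulVecLin ∧
        LinearMap.range φ.mulVecLin =
          LinearMap.ker (Fintype.linearCombination A (fun i : Fin (r + 1) => (-1 : A) ^ (i : ℕ) * (φ.submatrix i.succAbove id).det)) := by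
    intro n r Φ hn hΦ hd hrk
    subst hn
    obtain ⟨h1, h2⟩ := H3CAlg.HilbertBurch.exact_of_depth Φ hd
    refine ⟨r, Φ, (H3CAlg.HilbertBurch.span_cof Φ).trans hΦ, hrk, LinearMap.ker_eq_bot.mp h1,
      le_antisymm ?_ fun v hv => h2 v ?_⟩
    · rintro _ ⟨x, rfl⟩
      rw [LinearMap.mem_ker, Fintype.linearCombination_apply]
      exact (Finset.sum_congr rfl fun i _ => mul_comm _ _).trans (H3CAlg.HilbertBurch.cof_dotProduct_mulVec Φ x)
    · rw [LinearMap.mem_ker, Fintype.linearCombination_apply] at hv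
      exact (Finset.sum_congr rfl fun i _ => mul_comm _ _).trans hv
  exact main Ψ hnm hI.symm hdepth rfl

end Groth.Agent.H24Def.BurchCM
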