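import Mathlib
import Groth.Agent.H24Def.BurchCM
import Groth.Agent.H13CInt.Spread
import Groth.Agent.H19Grp.RegularSmooth
import Groth.Agent.H8Props.CMAt

/-!
# Spreading out Hilbert–Burch resolutions to an affine open neighbourhood (helper24)
-/

set_option autoImplicit false
set_option linter.style.haveILetI false
universe u
open CategoryTheory AlgebraicGeometry Matrix
open Groth.Agent

namespace Groth.Agent.H24Def.BurchSpread

/-- The signed maximal minors give a resolution of the ideal `I`. -/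
def IsRes {R : Type u} [CommRing R] (I : Ideal R) {r : ℕ} (φ : Matrix (Fin (r + 1)) (Fin r) R) : Prop :=
  Ideal.span (Set.range (fun i : Fin (r + 1) => (-1 : R) ^ (i : ℕ) * (φ.submatrix i.succAbove id).det)) = I ∧
    Function.Injective φ.mulVecLin ∧
    LinearMap.range φ.mulVecLin =
      LinearMap.ker (Fintype.linearCombination R (fun i : Fin (r + 1) => (-1 : R) ^ (i : ℕ) * (φ.submatrix i.succAbove id).det))

open Groth.Agent.H3CAlg.HilbertBurch hiding span_cof

variable {B : Type u} [CommRing B] {T : Type u} [CommRing T] [Algebra B T] (M : Submonoid B)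
  [IsLocalization M T]

theorem pi_surj {ι : Type} [Fintype ι] (v : ι → T) :
    ∃ m ∈ M, ∃ v' : ι → B, algebraMap B T ∘ v' = algebraMap B T m • v := by
  obtain ⟨m, hm⟩ := IsLocalization.exist_integer_multiples_of_finite M v
  choose v' hv' using hm
  exact ⟨m, m.2, v', funext fun i => (hv' i).trans (Algebra.smul_def _ _)⟩

theorem pi_eq_zero {ι : Type} [Fintype ι] (v : ι → B) :
    algebraMap B T ∘ v = 0 ↔ ∃ m ∈ M, m • v = 0 := by
  constructor
  · intro h
    choose m hm using fun i => (IsLocalization.map_eq_zero_iff M T (v i)).mp (congrFun h i)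
    refine ⟨∏ i, (m i : B), prod_mem fun i _ => (m i).2, funext fun i => ?_⟩
    obtain ⟨d, hd⟩ := Finset.dvd_prod_of_mem (fun i => (m i : B)) (Finset.mem_univ i)
    rw [Pi.smul_apply, smul_eq_mul, hd, mul_comm (m i : B), mul_assoc, hm i, mul_zero, Pi.zero_apply]
  · rintro ⟨m, hm, h⟩
    funext i
    refine (IsLocalization.map_eq_zero_iff M T (v i)).mpr ⟨⟨m, hm⟩, ?_⟩
    simpa using congrFun h i

omit [IsLocalization M T] in
theorem map_cof {r : ℕ} (ψ : Matrix (Fin (r + 1)) (Fin r) B) (i : Fin (r + 1)) :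
    algebraMap B T (cof ψ i) = cof (ψ.map (algebraMap B T)) i := by
  simp [cof, RingHom.map_det, Matrix.submatrix_map]

omit [IsLocalization M T] in
theorem map_mulVec {n r : ℕ} (ψ : Matrix (Fin n) (Fin r) B) (v : Fin r → B) :
    (ψ.map (algebraMap B T)).mulVecLin (algebraMap B T ∘ v) = algebraMap B T ∘ ψ.mulVecLin v :=
  funext fun i => (RingHom.map_mulVec (algebraMap B T) ψ v i).symm

omit [IsLocalization M T] in
theorem map_comb {n : ℕ} (f : Fin n → B) (v : Fin n → B) :
    Fintype.linearCombination T (algebraMap B T ∘ f) (algebraMap B T ∘ v) =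
      algebraMap B T (Fintype.linearCombination B f v) := by
  simp [Fintype.linearCombination_apply]

theorem exists_kill {N : Type u} [AddCommGroup N] [Module B N] (P : Ideal B) [P.IsPrime]
    (L L' : Submodule B N) (hL : L.FG) (h : ∀ c ∈ L, ∃ t ∉ P, t • c ∈ L') :
    ∃ t ∉ P, ∀ c ∈ L, t • c ∈ L' := by
  classical
  obtain ⟨s, hs⟩ := hL
  choose! t ht htc using fun c (hc : c ∈ s) => h c (hs ▸ Submodule.subset_span hc)
  refine ⟨∏ c ∈ s, t c, fun hP => ?_, fun c hc => ?_⟩
  · obtain ⟨c, hc, hcP⟩ := (Ideal.IsPrime.prod_mem_iff).mp hP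
    exact ht c hc hcP
  · rw [← hs] at hc
    induction hc using Submodule.span_induction with
    | mem c hc =>
      obtain ⟨d, hd⟩ := Finset.dvd_prod_of_mem t hc
      rw [hd, mul_comm (t c), mul_smul]
      exact Submodule.smul_mem _ _ (htc c hc)
    | zero => simp
    | add x y _ _ hx hy => rw [smul_add]; exact add_mem hx hy
    | smul r x _ hx => rw [smul_comm]; exact Submodule.smul_mem _ _ hx

/-- A resolution at a prime spreads out to a basic open. -/
theorem exists_away_isRes [IsNoetherianRing B] (P : Ideal B) [P.IsPrime] {A : Type u} [CommRing A]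
    [Algebra B A] [IsLocalization.AtPrime A P] (I : Ideal B) {r : ℕ} (φ : Matrix (Fin (r + 1)) (Fin r) A)
    (h : IsRes (I.map (algebraMap B A)) φ) :
    ∃ t ∉ P, ∃ ψ : Matrix (Fin (r + 1)) (Fin r) B, ∀ (T : Type u) [CommRing T] [Algebra B T]
      [IsLocalization.Away t T], IsRes (I.map (algebraMap B T)) (ψ.map (algebraMap B T)) := by
  classical
  obtain ⟨hspan, hinj, hrange⟩ := h
  obtain ⟨s, hs, w, hw⟩ := pi_surj (T := A) P.primeCompl (fun p : Fin (r + 1) × Fin r => φ p.1 p.2)
  let ψ : Matrix (Fin (r + 1)) (Fin r) B := Matrix.of fun i j => w (i, j)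
  have hψ : ψ.map (algebraMap B A) = algebraMap B A s • φ := Matrix.ext fun i j => congrFun hw (i, j)
  have hu : IsUnit (algebraMap B A s) := IsLocalization.map_units A (⟨s, hs⟩ : P.primeCompl)
  have hcof : ∀ i, algebraMap B A (cof ψ i) = algebraMap B A s ^ r * cof φ i := by
    intro i
    rw [map_cof, hψ]
    simp only [cof, Matrix.submatrix_smul, Pi.smul_apply, Matrix.det_smul, Fintype.card_fin]
    ring
  let J := Ideal.span (Set.range (cof ψ))
  have hJ : J.map (algebraMap B A) = I.map (algebraMap B A) := by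
    rw [← hspan, Ideal.map_span, ← Set.range_comp]
    refine le_antisymm (Ideal.span_le.2 ?_) (Ideal.span_le.2 ?_)
    · rintro _ ⟨i, rfl⟩
      rw [Function.comp_apply, hcof]
      exact Ideal.mul_mem_left _ _ (Ideal.subset_span ⟨i, rfl⟩)
    · rintro _ ⟨i, rfl⟩
      exact (Ideal.unit_mul_mem_iff_mem _ (hu.pow r)).mp (hcof i ▸ Ideal.subset_span ⟨i, rfl⟩)
  have hideal : ∀ L L' : Ideal B, L.map (algebraMap B A) ≤ L'.map (algebraMap B A) →
      ∃ t ∉ P, ∀ c ∈ L, t • c ∈ L' := fun L L' hle =>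
    exists_kill P L L' (IsNoetherian.noetherian L) fun c hc =>
      (IsLocalization.algebraMap_mem_map_algebraMap_iff P.primeCompl A L' c).mp
        (hle (Ideal.mem_map_of_mem _ hc))
  obtain ⟨t₁, ht₁, h₁⟩ := hideal J I hJ.le
  obtain ⟨t₂, ht₂, h₂⟩ := hideal I J hJ.ge
  obtain ⟨t₃, ht₃, h₃⟩ := exists_kill P (LinearMap.ker ψ.mulVecLin) ⊥ (IsNoetherian.noetherian _) fun x hx => by
    have h0 : (algebraMap B A ∘ x) = 0 := by
      have hzero := map_mulVec (T := A) ψ x
      rw [LinearMap.mem_ker.mp hx, hψ] at hzero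
      simp only [Matrix.mulVecLin_apply, Matrix.smul_mulVec] at hzero
      refine hinj (Eq.trans (hu.smul_left_cancel.mp (hzero.trans ?_)) (map_zero _).symm)
      funext i; simp
    obtain ⟨t, ht, htx⟩ := (pi_eq_zero P.primeCompl x).mp h0
    exact ⟨t, ht, by simpa using htx⟩
  let ℓ := Fintype.linearCombination B (cof ψ)
  obtain ⟨t₄, ht₄, h₄⟩ := exists_kill P (LinearMap.ker ℓ) (LinearMap.range ψ.mulVecLin)
    (IsNoetherian.noetherian _) fun v hv => by
      have hv' : (algebraMap B A ∘ v) ∈ LinearMap.range φ.mulVecLin := by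
        rw [hrange, LinearMap.mem_ker]
        have h0 := map_comb (T := A) (cof ψ) v
        rw [LinearMap.mem_ker.mp hv, map_zero, show algebraMap B A ∘ cof ψ = fun i => algebraMap B A s ^ r * cof φ i
          from funext hcof] at h0
        refine (hu.pow r).mul_left_cancel (Eq.trans ?_ (h0.trans (mul_zero _).symm))
        simp [Fintype.linearCombination_apply, cof, Finset.mul_sum, mul_left_comm]
      obtain ⟨u, hu'⟩ := hv'
      obtain ⟨m, hm, u', hu''⟩ := pi_surj (T := A) P.primeCompl u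
      have h0 : algebraMap B A ∘ (ψ.mulVecLin u' - (m * s) • v) = 0 := by
        have h1 := map_mulVec (T := A) ψ u'
        rw [hu'', map_smul, hψ] at h1
        funext i
        have h2 := congrFun h1 i
        have h3 := congrFun hu' i
        simp only [Matrix.mulVecLin_apply, Matrix.smul_mulVec, Pi.smul_apply, smul_eq_mul,
          Function.comp_apply] at h2 h3
        simp only [Function.comp_apply, Pi.sub_apply, map_sub, Pi.smul_apply, smul_eq_mul, map_mul,
          Matrix.mulVecLin_apply, Pi.zero_apply]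
        rw [← h2, h3, mul_assoc, sub_self]
      obtain ⟨t, ht, htx⟩ := (pi_eq_zero P.primeCompl _).mp h0
      refine ⟨t * (m * s), fun hmem => ?_, ⟨t • u', ?_⟩⟩
      · rcases (Ideal.IsPrime.mem_or_mem ‹_› hmem) with h | h
        · exact ht h
        · rcases (Ideal.IsPrime.mem_or_mem ‹_› h) with h | h
          · exact hm h
          · exact hs h
      · rw [map_smul, mul_smul]
        rwa [smul_sub, sub_eq_zero] at htx
  refine ⟨t₁ * t₂ * t₃ * t₄, fun hmem => ?_, ψ, fun T _ _ _ => ?_⟩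
  · rcases (Ideal.IsPrime.mem_or_mem ‹_› hmem) with h | h
    · rcases (Ideal.IsPrime.mem_or_mem ‹_› h) with h | h
      · rcases (Ideal.IsPrime.mem_or_mem ‹_› h) with h | h
        · exact ht₁ h
        · exact ht₂ h
      · exact ht₃ h
    · exact ht₄ h
  set tt := t₁ * t₂ * t₃ * t₄ with htt
  have htu : IsUnit (algebraMap B T tt) := IsLocalization.Away.algebraMap_isUnit tt
  have hunit : ∀ {a : B}, a ∣ tt → IsUnit (algebraMap B T a) := fun ha => isUnit_of_dvd_unit (map_dvd _ ha) htu
  have hpow : ∀ {m : B}, m ∈ Submonoid.powers tt → IsUnit (algebraMap B T m) := fun {m} hm =>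
    IsLocalization.map_units T (⟨m, hm⟩ : Submonoid.powers tt)
  have hdiv : ∀ (L L' : Ideal B) (a : B), a ∣ tt → (∀ c ∈ L, a • c ∈ L') →
      L.map (algebraMap B T) ≤ L'.map (algebraMap B T) := by
    intro L L' a ha hL
    refine Ideal.map_le_iff_le_comap.2 fun c hc => ?_
    have := Ideal.mem_map_of_mem (algebraMap B T) (hL c hc)
    rw [smul_eq_mul, map_mul] at this
    exact (Ideal.unit_mul_mem_iff_mem _ (hunit ha)).1 this
  have hcofT : algebraMap B T ∘ cof ψ = cof (ψ.map (algebraMap B T)) := funext (map_cof ψ)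
  refine ⟨?_, ?_, ?_⟩
  · show Ideal.span (Set.range (cof (ψ.map (algebraMap B T)))) = _
    rw [← hcofT, Set.range_comp, ← Ideal.map_span]
    exact le_antisymm (hdiv J I t₁ ((dvd_mul_right _ _).trans ((dvd_mul_right _ _).trans (dvd_mul_right _ _))) h₁)
      (hdiv I J t₂ ((dvd_mul_left _ _).trans ((dvd_mul_right _ _).trans (dvd_mul_right _ _))) h₂)
  · refine (injective_iff_map_eq_zero _).mpr fun x hx => ?_
    obtain ⟨m, hm, x', hx'⟩ := pi_surj (T := T) (Submonoid.powers tt) x
    have h0 : algebraMap B T ∘ ψ.mulVecLin x' = 0 := by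
      rw [← map_mulVec, hx', map_smul, hx, smul_zero]
    obtain ⟨l, hl, hl'⟩ := (pi_eq_zero (Submonoid.powers tt) _).mp h0
    have h1 : l • x' ∈ LinearMap.ker ψ.mulVecLin := by rw [LinearMap.mem_ker, map_smul, hl']
    have h2 := congrArg (fun v => algebraMap B T ∘ v) ((Submodule.mem_bot B).mp (h₃ _ h1))
    funext i
    have h3 := congrFun h2 i
    have h4 := congrFun hx' i
    simp only [Function.comp_apply, Pi.smul_apply, smul_eq_mul, map_mul, Pi.zero_apply, map_zero] at h3 h4
    rw [h4] at h3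
    exact (hpow hm).mul_right_eq_zero.mp ((hpow hl).mul_right_eq_zero.mp
      ((hunit ((dvd_mul_left _ _).trans (dvd_mul_right _ _))).mul_right_eq_zero.mp h3))
  · refine le_antisymm ?_ fun v hv => ?_
    · rintro _ ⟨x, rfl⟩
      rw [LinearMap.mem_ker, Fintype.linearCombination_apply]
      exact (Finset.sum_congr rfl fun i _ => mul_comm _ _).trans (H3CAlg.HilbertBurch.cof_dotProduct_mulVec _ x)
    · obtain ⟨m, hm, v', hv'⟩ := pi_surj (T := T) (Submonoid.powers tt) v
      have h0 : algebraMap B T (ℓ v') = 0 := by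
        rw [← map_comb, hv', hcofT, map_smul]
        exact (congrArg _ (LinearMap.mem_ker.mp hv)).trans (smul_zero _)
      obtain ⟨⟨l, hl⟩, hl'⟩ := (IsLocalization.map_eq_zero_iff (Submonoid.powers tt) T _).mp h0
      have h1 : l • v' ∈ LinearMap.ker ℓ := by rw [LinearMap.mem_ker, map_smul, smul_eq_mul, hl']
      obtain ⟨u, hu'⟩ := h₄ _ h1
      have hc : IsUnit (algebraMap B T t₄ * algebraMap B T l * algebraMap B T m) :=
        ((hunit (dvd_mul_left _ _)).mul (hpow hl)).mul (hpow hm)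
      refine ⟨hc.unit⁻¹.1 • (algebraMap B T ∘ u), ?_⟩
      rw [map_smul, map_mulVec, hu']
      funext i
      have h4 := congrFun hv' i
      simp only [Function.comp_apply, Pi.smul_apply, smul_eq_mul, map_mul] at h4 ⊢
      rw [h4]
      refine Eq.trans ?_ (one_mul (v i))
      rw [← hc.val_inv_mul]
      ring

theorem exists_affine_isRes (k : Type u) [Field k] (X Y : Scheme.{u}) (f : X ⟶ Spec (CommRingCat.of k)) [Smooth f]
    (ι : Y ⟶ X) [IsClosedImmersion ι] (y : Y) [LocCoh.IsCohenMacaulayLocalRing (Y.presheaf.stalk y)]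
    (hcodim : ringKrullDim (Y.presheaf.stalk y) + 2 = ringKrullDim (X.presheaf.stalk (ι.base y))) :
    ∃ U : X.affineOpens, ι.base y ∈ (U : X.Opens) ∧ ∃ (r : ℕ) (φ : Matrix (Fin (r + 1)) (Fin r) Γ(X, U)),
      IsRes (ι.ker.ideal U) φ := by
  haveI : IsLocallyNoetherian X := LocallyOfFiniteType.isLocallyNoetherian f
  obtain ⟨_, ⟨U, hU, rfl⟩, hyU, -⟩ :=
    X.isBasis_affineOpens.exists_subset_of_mem_open (Set.mem_univ (ι y)) isOpen_univ
  haveI : IsNoetherianRing Γ(X, U) := IsLocallyNoetherian.component_noetherian ⟨U, hU⟩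
  haveI := H19Grp.isRegularLocalRing_stalk_of_smooth f (ι y)
  let σ := (ι.stalkMap y).hom
  let e : (X.presheaf.stalk (ι y)) ⧸ RingHom.ker σ ≃+* Y.presheaf.stalk y :=
    RingHom.quotientKerEquivOfSurjective (ι.stalkMap_surjective y)
  haveI : LocCoh.IsCohenMacaulayLocalRing ((X.presheaf.stalk (ι y)) ⧸ RingHom.ker σ) :=
    H8Props.CMAt.isCohenMacaulayLocalRing_of_ringEquiv e.symm
  obtain ⟨r, φ, h1, -, h2, h3⟩ := BurchCM.exists_matrix (RingHom.ker σ)
    (by rw [ringKrullDim_eq_of_ringEquiv e]; exact hcodim)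
  letI := TopCat.Presheaf.algebra_section_stalk X.presheaf (⟨ι y, hyU⟩ : U)
  haveI := hU.isLocalization_stalk ⟨ι y, hyU⟩
  have hker : RingHom.ker σ = (ι.ker.ideal ⟨U, hU⟩).map (algebraMap Γ(X, U) (X.presheaf.stalk (ι y))) :=
    H13CInt.ker_stalkMap ι y ⟨U, hU⟩ hyU
  obtain ⟨t, ht, ψ, hψ⟩ := exists_away_isRes (hU.primeIdealOf ⟨ι y, hyU⟩).asIdeal (A := X.presheaf.stalk (ι y))
    (ι.ker.ideal ⟨U, hU⟩) φ ⟨h1.trans hker, h2, h3⟩
  let W := X.affineBasicOpen (U := ⟨U, hU⟩) t
  letI : Algebra Γ(X, U) Γ(X, W.1) := (X.presheaf.map (homOfLE (X.basicOpen_le t)).op).hom.toAlgebra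
  haveI : IsLocalization.Away t Γ(X, W.1) := hU.isLocalization_basicOpen t
  refine ⟨W, ?_, r, ψ.map (algebraMap Γ(X, U) Γ(X, W.1)), ?_⟩
  · change ι y ∈ X.basicOpen t
    rw [X.mem_basicOpen _ (ι y) hyU]
    exact IsLocalization.map_units (X.presheaf.stalk (ι y))
      (⟨t, ht⟩ : (hU.primeIdealOf ⟨ι y, hyU⟩).asIdeal.primeCompl)
  · have hIW : ι.ker.ideal W = (ι.ker.ideal ⟨U, hU⟩).map (algebraMap Γ(X, U) Γ(X, W.1)) :=
      (ι.ker.map_ideal (U := W) (V := ⟨U, hU⟩) (X.basicOpen_le t)).symm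
    rw [hIW]
    exact hψ Γ(X, W.1)

end Groth.Agent.H24Def.BurchSpread
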