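import Mathlib
import Groth.Agent.H12Pic.SectionCurve
import Groth.Agent.H8Props.FieldDimFormula
import Groth.Agent.H02CA.FieldJapanese
import Groth.Agent.H24Val.Points

/-!
# Smooth curves through a rational point of an affine variety
-/

set_option autoImplicit false
set_option linter.style.haveILetI false
set_option synthInstance.maxHeartbeats 200000
set_option maxHeartbeats 800000

universe u

namespace Groth.Agent.H24Def.CurveThrough

variable (k : Type u) [Field k] {A : Type u} [CommRing A] [IsDomain A] [Algebra k A] [Algebra.FiniteType k A]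

include k in
/-- Below a maximal ideal there is a prime with one-dimensional quotient avoiding a given element. -/
theorem exists_prime_dim_one (m : Ideal A) [hm : m.IsMaximal] (hm0 : m ≠ ⊥) {c : A} (hc : c ≠ 0) :
    ∃ q : Ideal A, q.IsPrime ∧ q ≤ m ∧ c ∉ q ∧ q ≠ m ∧ ringKrullDim (A ⧸ q) = 1 := by
  haveI : IsNoetherianRing A := Algebra.FiniteType.isNoetherianRing k A
  obtain ⟨q, ⟨hq, hqm, hcq, hne⟩, hmax⟩ := set_has_maximal_iff_noetherian.mpr
    (inferInstance : IsNoetherian A A) {q : Ideal A | q.IsPrime ∧ q ≤ m ∧ c ∉ q ∧ q ≠ m}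
    ⟨⊥, Ideal.isPrime_bot, bot_le, fun h => hc (Ideal.mem_bot.1 h), fun h => hm0 h.symm⟩
  refine ⟨q, hq, hqm, hcq, hne, ?_⟩
  haveI := hq
  let mk := Ideal.Quotient.mk q
  have hker : RingHom.ker mk ≤ m := by rw [Ideal.mk_ker]; exact hqm
  haveI hmb : (m.map mk).IsMaximal := (Ideal.map_eq_top_or_isMaximal_of_surjective mk
    Ideal.Quotient.mk_surjective hm).resolve_left fun h => hm.ne_top (by
      rw [← Ideal.comap_map_of_surjective mk Ideal.Quotient.mk_surjective m |>.trans
        (sup_eq_left.2 hker), h, Ideal.comap_top])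
  have hcm : (m.map mk).comap mk = m :=
    (Ideal.comap_map_of_surjective mk Ideal.Quotient.mk_surjective m).trans (sup_eq_left.2 hker)
  have hmb0 : m.map mk ≠ ⊥ := fun h => hne (by
    rw [← hcm, h]
    exact (Ideal.mk_ker (I := q)).symm)
  obtain ⟨g, hgm, hg0⟩ : ∃ g ∈ m.map mk, g ≠ 0 := Submodule.exists_mem_ne_zero_of_ne_bot hmb0
  have hle : (m.map mk).height ≤ 1 := by
    by_contra hlt
    obtain ⟨r, hr, hr0, hrm, hcr⟩ := H12Pic.SectionCurve.exists_prime_notMem (m.map mk)
      (Order.add_one_le_of_lt (not_le.1 hlt)) (c := mk c * g)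
      (mul_ne_zero (fun h => hcq (Ideal.Quotient.eq_zero_iff_mem.1 h)) hg0)
    haveI := hr
    have hqr : q ≤ r.comap mk := fun a ha => by
      rw [Ideal.mem_comap, Ideal.Quotient.eq_zero_iff_mem.2 ha]
      exact r.zero_mem
    have hq_ne : q ≠ r.comap mk := fun h => hr0 (by
      rw [← Ideal.map_comap_of_surjective mk Ideal.Quotient.mk_surjective r, ← h]
      exact Ideal.map_quotient_self q)
    refine hmax (r.comap mk) ⟨inferInstance, ?_, fun h => hcr (r.mul_mem_right g h), fun h => hcr ?_⟩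
      (lt_of_le_of_ne hqr hq_ne)
    · exact (Ideal.comap_mono hrm).trans hcm.le
    · refine r.mul_mem_left (mk c) ?_
      have h2 : r = m.map mk := by rw [← h, Ideal.map_comap_of_surjective mk Ideal.Quotient.mk_surjective r]
      exact h2 ▸ hgm
  have hf := H8Props.FieldDim.height_add_dim_quotient_eq_iSup (k := k) (A ⧸ q) ⟨m.map mk, hmb.isPrime⟩
  have h0 : ringKrullDim ((A ⧸ q) ⧸ m.map mk) = 0 :=
    ringKrullDim_eq_zero_of_isField ((Ideal.Quotient.maximal_ideal_iff_isField_quotient _).1 hmb)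
  have hsup : (⨆ r : {r : PrimeSpectrum (A ⧸ q) // r ≤ (⟨m.map mk, hmb.isPrime⟩ : PrimeSpectrum (A ⧸ q))},
      ringKrullDim ((A ⧸ q) ⧸ r.1.asIdeal)) = ringKrullDim (A ⧸ q) :=
    le_antisymm (iSup_le fun r => ringKrullDim_quotient_le _)
      (le_iSup_of_le ⟨⟨⊥, Ideal.isPrime_bot⟩, bot_le (a := m.map mk)⟩
        (ringKrullDim_eq_of_ringEquiv (RingEquiv.quotientBot (A ⧸ q))).ge)
  rw [hsup] at hf
  change ((m.map mk).height : WithBot ℕ∞) + ringKrullDim ((A ⧸ q) ⧸ m.map mk) = _ at hf
  rw [h0, add_zero] at hf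
  have h1 : (1 : ℕ∞) ≤ (m.map mk).height := Order.one_le_iff_ne_zero.2 fun h => by
    rw [Ideal.height_eq_zero_iff, IsDomain.minimalPrimes_eq_singleton_bot] at h
    exact hmb0 h
  rw [← hf, le_antisymm hle h1]
  rfl

variable [IsAlgClosed k]

/-- Through a rational point of an affine variety passes a smooth curve meeting a given open. -/
theorem exists_curve (ρ : A →ₐ[k] k) (hρ : RingHom.ker ρ ≠ ⊥) {c : A} (hc : c ≠ 0) :
    ∃ (T : Type u) (_ : CommRing T) (_ : IsDomain T) (_ : Algebra k T) (g : A →ₐ[k] T) (τ : T →ₐ[k] k),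
      Algebra.FiniteType k T ∧ IsRegularRing T ∧ ringKrullDim T = 1 ∧ τ.comp g = ρ ∧ g c ≠ 0 := by
  haveI hmax : (RingHom.ker ρ).IsMaximal :=
    RingHom.ker_isMaximal_of_surjective _ fun a => ⟨algebraMap k A a, ρ.commutes a⟩
  obtain ⟨q, hq, hqm, hcq, hne, hdim⟩ := exists_prime_dim_one k (RingHom.ker ρ) hρ hc
  haveI := hq
  let B := A ⧸ q
  let K := FractionRing B
  let T := integralClosure B K
  haveI : Module.Finite B T := H02CA.finite_integralClosure_of_finiteType_field k B K K
  haveI : IsScalarTower k B T := IsScalarTower.of_algebraMap_eq fun _ => rfl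
  haveI hft : Algebra.FiniteType k T := Algebra.FiniteType.trans (inferInstance : Algebra.FiniteType k B) inferInstance
  haveI hkd : Ring.KrullDimLE 1 B := Ring.krullDimLE_iff.2 hdim.le
  have hinj : Function.Injective (algebraMap B T) := fun a b h =>
    IsFractionRing.injective B K (congrArg Subtype.val h)
  let β : B →ₐ[k] k := Ideal.Quotient.liftₐ q ρ fun a ha => hqm ha
  haveI : (RingHom.ker β).IsMaximal :=
    RingHom.ker_isMaximal_of_surjective _ fun a => ⟨algebraMap k B a, β.commutes a⟩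
  have hnf : ¬ IsField B := fun h => by
    rw [ringKrullDim_eq_zero_of_isField h] at hdim
    exact zero_ne_one hdim
  have hTdim : ringKrullDim T = 1 := H24Val.ringKrullDim_eq_one_of_isIntegral hinj hnf
  haveI : IsNoetherianRing T := Algebra.FiniteType.isNoetherianRing k T
  haveI : IsFractionRing T K := integralClosure.isFractionRing_of_finite_extension K K
  haveI : IsIntegrallyClosed T := integralClosure.isIntegrallyClosedOfFiniteExtension K
  haveI : Ring.KrullDimLE 1 T := Ring.krullDimLE_iff.2 hTdim.le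
  haveI : Ring.DimensionLEOne T := ⟨fun {P} hP hPp =>
    Ring.krullDimLE_one_iff_of_noZeroDivisors.mp (inferInstance : Ring.KrullDimLE 1 T) P hP hPp⟩
  haveI : IsDedekindRing T := { }
  haveI : IsDedekindDomain T := { }
  obtain ⟨N, hN, hNc⟩ := Ideal.exists_ideal_over_maximal_of_isIntegral (S := T) (RingHom.ker β)
    (by rw [(RingHom.injective_iff_ker_eq_bot _).1 hinj]; exact bot_le)
  letI : Field (T ⧸ N) := Ideal.Quotient.field N
  haveI : Algebra.FiniteType k (T ⧸ N) :=
    Algebra.FiniteType.of_surjective (Ideal.Quotient.mkₐ k N) Ideal.Quotient.mk_surjective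
  haveI : Module.Finite k (T ⧸ N) := finite_of_finite_type_of_isJacobsonRing k (T ⧸ N)
  have hb : Function.Bijective (Algebra.ofId k (T ⧸ N)) :=
    ⟨RingHom.injective _, IsAlgClosed.algebraMap_bijective_of_isIntegral.2⟩
  let e : k ≃ₐ[k] T ⧸ N := AlgEquiv.ofBijective _ hb
  let τ : T →ₐ[k] k := e.symm.toAlgHom.comp (Ideal.Quotient.mkₐ k N)
  let g : A →ₐ[k] T := (IsScalarTower.toAlgHom k B T).comp (Ideal.Quotient.mkₐ k q)
  refine ⟨T, inferInstance, inferInstance, inferInstance, g, τ, hft, inferInstance, hTdim, ?_, ?_⟩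
  · refine AlgHom.ext fun a => ?_
    have ha : a - algebraMap k A (ρ a) ∈ RingHom.ker ρ := by simp [RingHom.mem_ker]
    have h1 : τ (g (a - algebraMap k A (ρ a))) = 0 := by
      have h2 : g (a - algebraMap k A (ρ a)) ∈ N := by
        show algebraMap B T (Ideal.Quotient.mk q _) ∈ N
        rw [← Ideal.mem_comap, hNc]
        exact ha
      show e.symm (Ideal.Quotient.mk N _) = 0
      rw [Ideal.Quotient.eq_zero_iff_mem.2 h2, map_zero]
    rw [map_sub, map_sub, AlgHom.commutes, AlgHom.commutes, sub_eq_zero] at h1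
    exact h1
  · intro h
    exact hcq (Ideal.Quotient.eq_zero_iff_mem.1 (hinj (h.trans (map_zero _).symm)))

end Groth.Agent.H24Def.CurveThrough
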