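import Groth.Agent.H28Def.DefHom
import Groth.Agent.H24Def.FlatFS
import Groth.Prelude.Def_PtDefo
import Mathlib

/-! Rational points lift to sections of deformations of smooth schemes. -/

set_option autoImplicit false
set_option linter.style.haveILetI false
universe u
open CategoryTheory CategoryTheory.Limits AlgebraicGeometry IsLocalRing ArtFun ArtFun.Art Opposite

namespace Groth.Agent.H24Def

variable {Λ k : Type u} [CommRing Λ] [Field k] [Algebra Λ k] {X : Scheme.{u}} {x : X ⟶ specPt k} {A : Art Λ k}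

/-- An affine open of a deformation of a smooth scheme is formally smooth over the base. -/
theorem formallySmooth_scalar [Smooth x] (ξ : DefSch X x A) {V : ξ.total.Opens} (hV : IsAffineOpen V) :
    (scalar ξ.f V).FormallySmooth := by
  haveI : Flat ξ.f := ξ.flat
  haveI := (H28Def.isClosedImmersion_i ξ).1
  let f₀ := x ≫ Spec.map (CommRingCat.ofHom (H28Def.resEquiv A).toRingHom)
  haveI : IsIso (CommRingCat.ofHom (H28Def.resEquiv A).toRingHom) := (H28Def.resEquiv A).toCommRingCatIso.isIso_hom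
  haveI : Smooth f₀ := inferInstance
  have hsq := H28Def.isPullback_quot ξ
  have hW : IsAffineOpen (ξ.i ⁻¹ᵁ V) := hV.preimage ξ.i
  letI : Algebra A Γ(ξ.total, V) := (scalar ξ.f V).toAlgebra
  haveI : Module.Flat A Γ(ξ.total, V) := RingHom.flat_algebraMap_iff.mp (flat_scalar ξ.f hV)
  letI : Algebra (A ⧸ maximalIdeal A) Γ(X, ξ.i ⁻¹ᵁ V) := (scalar f₀ (ξ.i ⁻¹ᵁ V)).toAlgebra
  haveI : Algebra.FormallySmooth (A ⧸ maximalIdeal A) Γ(X, ξ.i ⁻¹ᵁ V) := by
    have h1 : Smooth (Spec.map (CommRingCat.ofHom (scalar f₀ (ξ.i ⁻¹ᵁ V)))) := by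
      rw [← H28Def.fromSpec_comp f₀ hW]; infer_instance
    exact (RingHom.smooth_algebraMap.mp ((HasRingHomProperty.Spec_iff (P := @Smooth)).mp h1)).formallySmooth
  let φ : Γ(ξ.total, V) →+* Γ(X, ξ.i ⁻¹ᵁ V) := (ξ.i.app V).hom
  have hφ : Function.Surjective φ := ξ.i.app_surjective V hV
  have hker : RingHom.ker φ = (maximalIdeal A).map (algebraMap A Γ(ξ.total, V)) := by
    ext s
    exact (app_eq_zero_iff ξ.i f₀ hsq hV s)
  let e : (Γ(ξ.total, V) ⧸ (maximalIdeal A).map (algebraMap A Γ(ξ.total, V))) ≃+* Γ(X, ξ.i ⁻¹ᵁ V) :=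
    (Ideal.quotEquivOfEq hker.symm).trans (RingHom.quotientKerEquivOfSurjective hφ)
  have he : ∀ a, e (algebraMap (A ⧸ maximalIdeal A) _ a) = algebraMap (A ⧸ maximalIdeal A) _ a := by
    intro a
    obtain ⟨a, rfl⟩ := Ideal.Quotient.mk_surjective a
    exact app_scalar ξ.i f₀ hsq V a
  have : Algebra.FormallySmooth (A ⧸ maximalIdeal A)
      (Γ(ξ.total, V) ⧸ (maximalIdeal A).map (algebraMap A Γ(ξ.total, V))) :=
    Algebra.FormallySmooth.of_equiv (AlgEquiv.ofRingEquiv (f := e) he).symm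
  exact RingHom.formallySmooth_algebraMap.mpr (formallySmooth_of_flat_of_nilpotent (maximalIdeal A)
    ((isArtinianRing_iff_isNilpotent_maximalIdeal A).1 inferInstance) this)

/-- A rational point lifts to a section of any deformation of a smooth scheme. -/
theorem exists_section_defSch [Smooth x] (ξ : DefSch X x A) (P : specPt k ⟶ X) (hP : P ≫ x = 𝟙 _) :
    ∃ σ : spec A ⟶ ξ.total, σ ≫ ξ.f = 𝟙 (spec A) ∧ P ≫ ξ.i = specRes A ≫ σ := by
  let pt : specPt k := (default : PrimeSpectrum k)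
  obtain ⟨V, hV, hxV, -⟩ := exists_isAffineOpen_mem_and_subset
    (x := (P ≫ ξ.i) pt) (U := (⊤ : ξ.total.Opens)) trivial
  haveI : IsOpenImmersion hV.fromSpec := hV.isOpenImmersion_fromSpec
  have hrange : Set.range (P ≫ ξ.i) ⊆ Set.range hV.fromSpec := by
    rintro _ ⟨q, rfl⟩
    rw [show q = pt from Subsingleton.elim (α := PrimeSpectrum k) q pt, hV.range_fromSpec]
    exact hxV
  let ψ : specPt k ⟶ Spec Γ(ξ.total, V) := IsOpenImmersion.lift hV.fromSpec (P ≫ ξ.i) hrange
  have hψ : ψ ≫ hV.fromSpec = P ≫ ξ.i := IsOpenImmersion.lift_fac _ _ _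
  let b : Γ(ξ.total, V) ⟶ CommRingCat.of k := Spec.preimage ψ
  have hb : CommRingCat.ofHom (scalar ξ.f V) ≫ b = CommRingCat.ofHom A.res.toRingHom := Spec.map_injective (by
    rw [Spec.map_comp, Spec.map_preimage, ← H28Def.fromSpec_comp ξ.f hV, ← Category.assoc, hψ, Category.assoc, ξ.i_f,
      ← Category.assoc, hP, Category.id_comp])
  letI : Algebra A Γ(ξ.total, V) := (scalar ξ.f V).toAlgebra
  letI : Algebra A k := A.res.toRingHom.toAlgebra
  haveI : Algebra.FormallySmooth A Γ(ξ.total, V) :=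
    RingHom.formallySmooth_algebraMap.mp (formallySmooth_scalar ξ hV)
  let bA : Γ(ξ.total, V) →ₐ[A] k :=
    { b.hom with commutes' := fun a => ConcreteCategory.congr_hom hb a }
  have hker : IsNilpotent (RingHom.ker (Algebra.ofId A k).toRingHom) := by
    have : RingHom.ker (Algebra.ofId A k).toRingHom = maximalIdeal A := by
      ext a
      exact (A.mem_maximalIdeal_iff a).symm
    rw [this]
    exact (isArtinianRing_iff_isNilpotent_maximalIdeal A).1 inferInstance
  let l := Algebra.FormallySmooth.liftOfSurjective bA (Algebra.ofId A k) A.res_surjective hker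
  have hl : (Algebra.ofId A k).comp l = bA := Algebra.FormallySmooth.comp_liftOfSurjective _ _ _ _
  refine ⟨Spec.map (CommRingCat.ofHom l.toRingHom) ≫ hV.fromSpec, ?_, ?_⟩
  · rw [Category.assoc, H28Def.fromSpec_comp, ← Spec.map_comp, ← CommRingCat.ofHom_comp,
      show l.toRingHom.comp (scalar ξ.f V) = RingHom.id A from RingHom.ext l.commutes, CommRingCat.ofHom_id, Spec.map_id]
  · rw [← hψ, ← Category.assoc]
    congr 1
    show ψ = Spec.map (CommRingCat.ofHom A.res.toRingHom) ≫ Spec.map _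
    rw [← Spec.map_comp, ← CommRingCat.ofHom_comp, ← Spec.map_preimage ψ]
    congr 1
    exact CommRingCat.hom_ext (RingHom.ext fun s => (DFunLike.congr_fun hl s).symm)

end Groth.Agent.H24Def
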