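import Groth.Agent.H24Def.Affine
import Groth.Prelude.Def_Exal
import Mathlib.RingTheory.Flat.Stability
import Mathlib.RingTheory.Flat.Equalizer

/-!
First order deformations of an algebra are extensions.
-/

universe u

open TensorProduct DualNumber ArtFun ArtFun.Art

set_option linter.style.haveILetI false

noncomputable section

namespace Groth.Agent.H24Def

variable {k : Type u} [Field k] {B₀ : Type u} [CommRing B₀] [Algebra k B₀]

/-- `ε`. -/
abbrev dEps (k : Type u) [Field k] : (dual k k : Art k k) := (DualNumber.eps : DualNumber k)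

theorem dEps_mul_self : dEps k * dEps k = 0 := DualNumber.eps_mul_eps

theorem res_dEps : (dual k k).res (dEps k) = 0 := TrivSqZeroExt.fst_inr k (1 : k)

theorem maximalIdeal_dual : IsLocalRing.maximalIdeal (dual k k : Art k k) = Ideal.span {dEps k} := by
  ext a
  rw [Art.mem_maximalIdeal_iff, Ideal.mem_span_singleton]
  constructor
  · intro h
    refine ⟨(TrivSqZeroExt.inl (TrivSqZeroExt.snd a) : DualNumber k), ?_⟩
    refine TrivSqZeroExt.ext ?_ ?_
    · refine Eq.trans h ?_
      change (0 : k) = 0 * TrivSqZeroExt.snd a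
      rw [zero_mul]
    · change TrivSqZeroExt.snd a = 0 • (0 : k) + MulOpposite.op (TrivSqZeroExt.snd a) • (1 : k)
      rw [zero_smul, zero_add, op_smul_eq_smul, smul_eq_mul, mul_one]
  · rintro ⟨c, rfl⟩
    rw [map_mul, res_dEps, zero_mul]

namespace AlgDef

variable (D : AlgDef B₀ (dual k k : Art k k))

/-- `ε` in the algebra. -/
abbrev epsB : D.B := algebraMap (dual k k : Art k k) D.B (dEps k)

theorem epsB_mul_self : D.epsB * D.epsB = 0 := by rw [← map_mul, dEps_mul_self, map_zero]

theorem π_eq_zero_iff (b : D.B) : D.π b = 0 ↔ ∃ c, b = c * D.epsB := by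
  rw [← RingHom.mem_ker, D.ker_π, maximalIdeal_dual, Ideal.map_span, Set.image_singleton, Ideal.mem_span_singleton']
  exact ⟨fun ⟨c, hc⟩ => ⟨c, hc.symm⟩, fun ⟨c, hc⟩ => ⟨c, hc.symm⟩⟩

theorem exists_of_epsB_mul_eq_zero (b : D.B) (hb : D.epsB * b = 0) : ∃ c, b = c * D.epsB := by
  haveI := D.flat
  let R := (dual k k : Art k k)
  let f : R →ₗ[R] R := LinearMap.lsmul R R (dEps k)
  have hf : Function.Exact f f := fun a => by
    change dEps k * a = 0 ↔ ∃ c, dEps k * c = a
    refine ⟨fun h => ?_, fun ⟨c, hc⟩ => by rw [← hc, ← mul_assoc, dEps_mul_self, zero_mul]⟩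
    have hm : a ∈ IsLocalRing.maximalIdeal R := by
      by_contra hne
      rw [IsLocalRing.mem_maximalIdeal, mem_nonunits_iff, not_not] at hne
      have h0 : dEps k = 0 := (hne.mul_left_eq_zero).mp h
      exact one_ne_zero (congrArg TrivSqZeroExt.snd h0 : (1 : k) = 0)
    rw [maximalIdeal_dual, Ideal.mem_span_singleton] at hm
    obtain ⟨c, hc⟩ := hm
    exact ⟨c, hc.symm⟩
  have h := Module.Flat.lTensor_exact D.B hf (b ⊗ₜ[R] 1)
  have h0 : LinearMap.lTensor D.B f (b ⊗ₜ[R] 1) = 0 := by
    rw [LinearMap.lTensor_tmul]
    refine (TensorProduct.rid R D.B).injective ?_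
    rw [map_zero, TensorProduct.rid_tmul]
    change (dEps k * 1) • b = 0
    rw [mul_one, Algebra.smul_def]
    exact hb
  obtain ⟨z, hz⟩ := h.mp h0
  refine ⟨TensorProduct.rid R D.B z, ?_⟩
  have key : ∀ z, TensorProduct.rid R D.B (LinearMap.lTensor D.B f z) = TensorProduct.rid R D.B z * D.epsB := by
    intro z
    induction z using TensorProduct.induction_on with
    | zero => simp
    | add x y hx hy => rw [map_add, map_add, hx, hy, map_add, add_mul]
    | tmul x a =>
      rw [LinearMap.lTensor_tmul, TensorProduct.rid_tmul, TensorProduct.rid_tmul]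
      change (dEps k * a) • x = a • x * D.epsB
      rw [Algebra.smul_def, Algebra.smul_def, map_mul]
      ring
  rw [← key, hz, TensorProduct.rid_tmul, one_smul]

/-- The underlying `k`-algebra. -/
def Res : Type u := D.B

instance : CommRing D.Res := inferInstanceAs (CommRing D.B)

instance : Algebra k D.Res :=
  ((algebraMap (dual k k : Art k k) D.B).comp (algebraMap k (dual k k : Art k k)) : k →+* D.Res).toAlgebra

/-- A section of the reduction. -/
def sect : B₀ → D.B := Function.surjInv D.π_surjective

theorem π_sect (z : B₀) : D.π (D.sect z) = z := Function.surjInv_eq _ z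

theorem mul_epsB_congr {x y : D.B} (h : D.π x = D.π y) : x * D.epsB = y * D.epsB := by
  obtain ⟨c, hc⟩ := (D.π_eq_zero_iff (x - y)).mp (by rw [map_sub, h, sub_self])
  rw [← sub_eq_zero, ← sub_mul, hc, mul_assoc, epsB_mul_self, mul_zero]

/-- The extension of a first order deformation. -/
def toExt : Exal.Ext k B₀ B₀ where
  E := D.Res
  proj :=
    { D.π with
      commutes' := fun c => by
        change D.π (algebraMap _ D.B (algebraMap k (dual k k : Art k k) c)) = algebraMap k B₀ c
        rw [D.π_algebraMap, AlgHom.commutes]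
        rfl }
  incl :=
    { toFun := fun z => (show D.Res from D.sect z * D.epsB)
      map_zero' := by
        change D.sect 0 * D.epsB = 0
        rw [mul_epsB_congr D (y := 0) (by rw [π_sect, map_zero]), zero_mul]
      map_add' := fun a b => by
        change D.sect (a + b) * D.epsB = D.sect a * D.epsB + D.sect b * D.epsB
        rw [← add_mul]
        exact mul_epsB_congr D (by rw [π_sect, map_add, π_sect, π_sect]) }
  isExtension :=
    { proj_surjective := D.π_surjective
      incl_injective := (injective_iff_map_eq_zero _).mpr fun z hz => by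
        obtain ⟨c, hc⟩ := D.exists_of_epsB_mul_eq_zero (D.sect z) (by rw [mul_comm]; exact hz)
        rw [← π_sect D z, hc]
        exact (D.π_eq_zero_iff _).mpr ⟨c, rfl⟩
      exact := fun x => by
        change D.π x = 0 ↔ ∃ z, D.sect z * D.epsB = x
        constructor
        · intro hx
          obtain ⟨c, rfl⟩ := (D.π_eq_zero_iff x).mp hx
          exact ⟨D.π c, mul_epsB_congr D (π_sect D _)⟩
        · rintro ⟨z, rfl⟩
          exact (D.π_eq_zero_iff _).mpr ⟨_, rfl⟩
      mul_incl := fun x z => by
        change (show D.B from x) * (D.sect z * D.epsB) = D.sect (D.π x • z) * D.epsB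
        rw [← mul_assoc]
        exact mul_epsB_congr D (by rw [map_mul, π_sect, π_sect]; rfl) }

end AlgDef

section OfExt

variable (X : Exal.Ext k B₀ B₀)

theorem ext_sq (a : B₀) : X.incl 1 * X.incl a = 0 := by
  rw [X.isExtension.mul_incl, (X.isExtension.exact _).mpr ⟨_, rfl⟩, zero_smul, map_zero]

/-- The underlying algebra over the dual numbers. -/
def ExtCarrier (X : Exal.Ext k B₀ B₀) : Type u := X.E

instance : CommRing (ExtCarrier X) := inferInstanceAs (CommRing X.E)

/-- The structure map. -/
def extHom : DualNumber k →ₐ[k] X.E :=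
  DualNumber.lift ⟨(Algebra.ofId k X.E, X.incl 1), ext_sq X 1, fun _ => Commute.all _ _⟩

instance : Algebra (dual k k : Art k k) (ExtCarrier X) := ((extHom X).toRingHom : DualNumber k →+* ExtCarrier X).toAlgebra

theorem algebraMap_extCarrier (a : (dual k k : Art k k)) :
    algebraMap (dual k k : Art k k) (ExtCarrier X) a = (extHom X (show DualNumber k from a) : X.E) := rfl

theorem extHom_apply (a : DualNumber k) :
    extHom X a = algebraMap k X.E (TrivSqZeroExt.fst a) + algebraMap k X.E (TrivSqZeroExt.snd a) * X.incl 1 :=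
  DualNumber.lift_apply_apply _ a

theorem algebraMap_dEps : (show X.E from algebraMap (dual k k : Art k k) (ExtCarrier X) (dEps k)) = X.incl 1 := by
  rw [algebraMap_extCarrier, extHom_apply]
  change algebraMap k X.E 0 + algebraMap k X.E 1 * X.incl 1 = _
  rw [map_zero, map_one, one_mul, zero_add]

theorem mul_algebraMap_dEps (x : X.E) :
    (show ExtCarrier X from x) * algebraMap (dual k k : Art k k) (ExtCarrier X) (dEps k) =
      (show ExtCarrier X from X.incl (X.proj x)) := by
  change x * (show X.E from algebraMap (dual k k : Art k k) (ExtCarrier X) (dEps k)) = _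
  rw [algebraMap_dEps, X.isExtension.mul_incl, smul_eq_mul, mul_one]

theorem flat_extCarrier : Module.Flat (dual k k : Art k k) (ExtCarrier X) := by
  obtain ⟨s, hs⟩ := Module.projective_lifting_property X.proj.toLinearMap LinearMap.id X.isExtension.proj_surjective
  have hs' : ∀ z, X.proj (s z) = z := fun z => LinearMap.congr_fun hs z
  let R := (dual k k : Art k k)
  letI : Module k (ExtCarrier X) := inferInstanceAs (Module k X.E)
  haveI : IsScalarTower k R (ExtCarrier X) := ⟨fun c a y => by
    rw [Algebra.smul_def (R := R), Algebra.smul_def (R := R), Algebra.smul_def c a, map_mul]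
    change (extHom X (algebraMap k (DualNumber k) c) * extHom X (show DualNumber k from a)) * (show X.E from y) =
      c • (extHom X (show DualNumber k from a) * (show X.E from y))
    rw [AlgHom.commutes, Algebra.smul_def, mul_assoc]⟩
  let φ : R ⊗[k] B₀ →ₗ[R] ExtCarrier X :=
    LinearMap.liftBaseChange R ({ toFun := fun z => (show ExtCarrier X from s z)
                                  map_add' := map_add s
                                  map_smul' := map_smul s } : B₀ →ₗ[k] ExtCarrier X)
  have hdec : ∀ z : R ⊗[k] B₀, ∃ a b, z = (1 : R) ⊗ₜ a + dEps k ⊗ₜ b := fun z => by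
    induction z using TensorProduct.induction_on with
    | zero => exact ⟨0, 0, by rw [TensorProduct.tmul_zero, TensorProduct.tmul_zero, add_zero]⟩
    | add x y hx hy =>
      obtain ⟨a, b, rfl⟩ := hx
      obtain ⟨a', b', rfl⟩ := hy
      exact ⟨a + a', b + b', by rw [TensorProduct.tmul_add, TensorProduct.tmul_add]; abel⟩
    | tmul r b =>
      refine ⟨TrivSqZeroExt.fst (show DualNumber k from r) • b, TrivSqZeroExt.snd (show DualNumber k from r) • b, ?_⟩
      rw [← TensorProduct.smul_tmul, ← TensorProduct.smul_tmul, ← TensorProduct.add_tmul]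
      congr 1
      refine TrivSqZeroExt.ext ?_ ?_
      · change TrivSqZeroExt.fst (show DualNumber k from r) = _ * 1 + _ * 0
        rw [mul_one, mul_zero, add_zero]
      · change TrivSqZeroExt.snd (show DualNumber k from r) = _ • (0 : k) + _ • (1 : k)
        rw [smul_zero, zero_add, smul_eq_mul, mul_one]
  have hφ : ∀ a b, (φ ((1 : R) ⊗ₜ a + dEps k ⊗ₜ b) : X.E) = s a + X.incl b := fun a b => by
    rw [map_add, LinearMap.liftBaseChange_tmul, LinearMap.liftBaseChange_tmul, one_smul, Algebra.smul_def]
    change s a + (show X.E from algebraMap R (ExtCarrier X) (dEps k)) * s b = _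
    rw [algebraMap_dEps, mul_comm, X.isExtension.mul_incl, hs', smul_eq_mul, mul_one]
  have hbij : Function.Bijective φ := by
    constructor
    · refine (injective_iff_map_eq_zero φ).mpr fun z hz => ?_
      obtain ⟨a, b, rfl⟩ := hdec z
      have h1 : s a + X.incl b = 0 := (hφ a b).symm.trans hz
      have ha : a = 0 := by
        have := congrArg X.proj h1
        rwa [map_add, hs', (X.isExtension.exact _).mpr ⟨_, rfl⟩, add_zero, map_zero] at this
      rw [ha, map_zero, zero_add] at h1
      rw [ha, X.isExtension.incl_injective (h1.trans (map_zero X.incl).symm), TensorProduct.tmul_zero,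
        TensorProduct.tmul_zero, add_zero]
    · intro y
      obtain ⟨b, hb⟩ := (X.isExtension.exact ((show X.E from y) - s (X.proj y))).mp (by rw [map_sub, hs', sub_self])
      exact ⟨(1 : R) ⊗ₜ X.proj y + dEps k ⊗ₜ b, (hφ _ _).trans (by rw [hb, add_sub_cancel])⟩
  exact Module.Flat.of_linearEquiv (LinearEquiv.ofBijective φ hbij).symm

/-- The deformation of an extension. -/
def ofExt : AlgDef B₀ (dual k k : Art k k) where
  B := ExtCarrier X
  flat := flat_extCarrier X
  π := (X.proj.toRingHom : X.E →+* B₀)
  π_algebraMap a := by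
    change X.proj (extHom X (show DualNumber k from a)) = _
    rw [extHom_apply, map_add, map_mul, AlgHom.commutes, (X.isExtension.exact _).mpr ⟨_, rfl⟩, mul_zero, add_zero]
    rfl
  π_surjective := X.isExtension.proj_surjective
  ker_π := by
    rw [maximalIdeal_dual, Ideal.map_span, Set.image_singleton]
    ext x
    rw [Ideal.mem_span_singleton', RingHom.mem_ker]
    constructor
    · intro hx
      obtain ⟨z, hz⟩ := (X.isExtension.exact x).mp hx
      obtain ⟨y, rfl⟩ := X.isExtension.proj_surjective z
      exact ⟨y, (mul_algebraMap_dEps X y).trans hz⟩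
    · rintro ⟨c, rfl⟩
      rw [mul_algebraMap_dEps]
      exact (X.isExtension.exact _).mpr ⟨_, rfl⟩

end OfExt

variable (k B₀) in
/-- First order deformations are classified by extensions. -/
def dualEquiv : Quotient (AlgDef.setoid (Λ := k) B₀ (dual k k : Art k k)) ≃ Exal.Exalcom k B₀ B₀ where
  toFun := Quotient.lift (s := AlgDef.setoid B₀ (dual k k : Art k k)) (fun D => D.toExt.cl) fun D D' ⟨e, he⟩ => by
    refine Quotient.sound ⟨{
      toAlgEquiv := AlgEquiv.ofRingEquiv (R := k) (A₁ := D.Res) (A₂ := D'.Res) (f := (e.toRingEquiv : D.B ≃+* D'.B))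
        (fun c => e.commutes _)
      proj_apply := fun x => he x
      apply_incl := fun z => ?_ }⟩
    change e (D.sect z * D.epsB) = D'.sect z * D'.epsB
    rw [map_mul, e.commutes]
    exact AlgDef.mul_epsB_congr D' (by rw [he, AlgDef.π_sect, AlgDef.π_sect])
  invFun := Quotient.lift (s := Exal.Ext.setoid k B₀ B₀) (fun X => Quotient.mk _ (ofExt X)) fun X Y ⟨e⟩ => by
    refine Quotient.sound ⟨AlgEquiv.ofRingEquiv (R := (dual k k : Art k k)) (A₁ := ExtCarrier X) (A₂ := ExtCarrier Y)
      (f := (e.toAlgEquiv.toRingEquiv : X.E ≃+* Y.E)) (fun a => ?_), fun x => e.proj_apply x⟩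
    change e.toAlgEquiv (extHom X (show DualNumber k from a)) = extHom Y (show DualNumber k from a)
    rw [extHom_apply, extHom_apply, map_add, map_mul, AlgEquiv.commutes, AlgEquiv.commutes, e.apply_incl]
  left_inv q := by
    induction q using Quotient.inductionOn with
    | h D =>
      refine Quotient.sound ⟨AlgEquiv.ofRingEquiv (R := (dual k k : Art k k)) (A₁ := ExtCarrier D.toExt) (A₂ := D.B)
        (f := RingEquiv.refl D.B) (fun a => ?_), fun x => rfl⟩
      change extHom D.toExt (show DualNumber k from a) = algebraMap _ D.B a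
      rw [extHom_apply]
      change algebraMap _ D.B (algebraMap k (dual k k : Art k k) _) +
        algebraMap _ D.B (algebraMap k (dual k k : Art k k) _) * (D.sect 1 * D.epsB) = _
      rw [show D.sect 1 * D.epsB = 1 * D.epsB from AlgDef.mul_epsB_congr D (by rw [AlgDef.π_sect, map_one]),
        one_mul, ← map_mul, ← map_add]
      congr 1
      refine TrivSqZeroExt.ext ?_ ?_
      · change _ + _ * (0 : k) = _
        rw [mul_zero, add_zero]
        rfl
      · change (0 : k) + (_ • (1 : k) + MulOpposite.op (0 : k) • (0 : k)) = _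
        rw [smul_zero, add_zero, zero_add, smul_eq_mul, mul_one]
        rfl
  right_inv q := by
    induction q using Quotient.inductionOn with
    | h X =>
      refine Quotient.sound ⟨{
        toAlgEquiv := AlgEquiv.ofRingEquiv (R := k) (A₁ := (ofExt X).Res) (A₂ := X.E) (f := RingEquiv.refl X.E)
          (fun c => ?_)
        proj_apply := fun x => rfl
        apply_incl := fun z => ?_ }⟩
      · exact (extHom X).commutes c
      · change ((ofExt X).sect z * (ofExt X).epsB : X.E) = X.incl z
        refine (mul_algebraMap_dEps X _).trans ?_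
        exact congrArg X.incl ((ofExt X).π_sect z)

end Groth.Agent.H24Def
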