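import Mathlib.Algebra.DualNumber
import Mathlib.RingTheory.Derivation.Basic
import Mathlib.RingTheory.Nilpotent.Basic
import Mathlib.Tactic

/-! The automorphism of the dual numbers attached to a derivation. -/

set_option autoImplicit false

universe u

open TrivSqZeroExt

namespace Groth.Agent.H24Def

variable {k A : Type u} [CommRing k] [CommRing A] [Algebra k A]

/-- `a + bε ↦ a + (D a + b)ε`. -/
noncomputable def dualAut (D : Derivation k A A) : DualNumber A ≃ₐ[k] DualNumber A where
  toFun x := inl x.fst + inr (D x.fst + x.snd)
  invFun x := inl x.fst + inr (-D x.fst + x.snd)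
  left_inv x := TrivSqZeroExt.ext (by simp) (by simp)
  right_inv x := TrivSqZeroExt.ext (by simp) (by simp)
  map_add' x y := TrivSqZeroExt.ext (by simp) (by simp; ring)
  map_mul' x y := TrivSqZeroExt.ext (by simp) (by simp; ring)
  commutes' c := TrivSqZeroExt.ext (by simp [TrivSqZeroExt.algebraMap_eq_inl'])
    (by simp [TrivSqZeroExt.algebraMap_eq_inl'])

@[simp] theorem dualAut_fst (D : Derivation k A A) (x : DualNumber A) : (dualAut D x).fst = x.fst := by
  simp [dualAut]

@[simp] theorem dualAut_snd (D : Derivation k A A) (x : DualNumber A) : (dualAut D x).snd = D x.fst + x.snd := by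
  simp [dualAut]

theorem dualAut_eps (D : Derivation k A A) : dualAut D DualNumber.eps = DualNumber.eps :=
  TrivSqZeroExt.ext (by simp) (by simp)

end Groth.Agent.H24Def
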