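import Mathlib

/-!
# From a geometric smoothing to a smoothing over power series (helper24)
-/

set_option autoImplicit false
set_option linter.style.haveILetI false
universe u
open CategoryTheory CategoryTheory.Limits AlgebraicGeometry

namespace Groth.Agent.H24Def.GeomSmoothing

section Arc

variable {k : Type u} [Field k] {P : Type u} [CommRing P] [Algebra k P]

local notation "R" => PowerSeries k

/-- A formally smooth algebra has arcs with any prescribed tangent vector at a rational point. -/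
theorem exists_arc [Algebra.FormallySmooth k P] (ρ : P →ₐ[k] k) (ℓ : P →ₗ[k] k)
    (h1 : ℓ 1 = 0) (hℓ : ∀ a b, ℓ (a * b) = ρ a * ℓ b + ρ b * ℓ a) :
    ∃ φ : P →ₐ[k] R, (∀ a, PowerSeries.constantCoeff (φ a) = ρ a) ∧ ∀ a, PowerSeries.coeff 1 (φ a) = ℓ a := by
  classical
  let J : ℕ → Ideal R := fun n => Ideal.span {PowerSeries.X ^ (n + 2)}
  have hJ : ∀ {n m : ℕ}, n ≤ m → J m ≤ J n := fun {n m} h =>
    Ideal.span_singleton_le_span_singleton.mpr (pow_dvd_pow _ (by omega))
  have hmem : ∀ (n : ℕ) (f : R), f ∈ J n ↔ ∀ i < n + 2, PowerSeries.coeff i f = 0 := fun n f =>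
    Ideal.mem_span_singleton.trans PowerSeries.X_pow_dvd_iff
  let Q : ℕ → Type u := fun n => R ⧸ J n
  let tr : ∀ n, Q (n + 1) →ₐ[k] Q n := fun n => Ideal.Quotient.factorₐ k (hJ (Nat.le_succ n))
  have htr : ∀ n, Function.Surjective (tr n) := fun n => Ideal.Quotient.factor_surjective (hJ (Nat.le_succ n))
  have hnil : ∀ n, IsNilpotent (RingHom.ker (tr n : Q (n + 1) →+* Q n)) := fun n => by
    refine ⟨2, eq_bot_iff.mpr ?_⟩
    rw [Submodule.pow_succ, Submodule.pow_one]
    refine Ideal.mul_le.mpr fun x hx y hy => ?_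
    obtain ⟨a, rfl⟩ := Ideal.Quotient.mk_surjective x
    obtain ⟨b, rfl⟩ := Ideal.Quotient.mk_surjective y
    have ha : a ∈ J n := Ideal.Quotient.eq_zero_iff_mem.mp hx
    have hb : b ∈ J n := Ideal.Quotient.eq_zero_iff_mem.mp hy
    rw [← map_mul, Ideal.mem_bot, Ideal.Quotient.eq_zero_iff_mem]
    refine Ideal.mem_span_singleton.mpr (dvd_trans (pow_dvd_pow (PowerSeries.X : R)
      (show n + 1 + 2 ≤ (n + 2) + (n + 2) by omega)) ?_)
    rw [pow_add]
    exact mul_dvd_mul (Ideal.mem_span_singleton.mp ha) (Ideal.mem_span_singleton.mp hb)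
  let X' : Q 0 := Ideal.Quotient.mk (J 0) PowerSeries.X
  have hX' : X' * X' = 0 := by
    show Ideal.Quotient.mk (J 0) PowerSeries.X * Ideal.Quotient.mk (J 0) PowerSeries.X = 0
    rw [← map_mul, Ideal.Quotient.eq_zero_iff_mem]
    exact Ideal.mem_span_singleton.mpr (by rw [pow_two])
  let ψ₀ : P →ₐ[k] Q 0 :=
    { toFun := fun a => algebraMap k (Q 0) (ρ a) + algebraMap k (Q 0) (ℓ a) * X'
      map_one' := by simp [h1]
      map_zero' := by simp
      map_add' := fun a b => by simp only [map_add]; ring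
      map_mul' := fun a b => by
        simp only [map_mul, hℓ, map_add]
        linear_combination (-(algebraMap k (Q 0) (ℓ a)) * algebraMap k (Q 0) (ℓ b)) * hX'
      commutes' := fun r => by
        have h0 : ℓ (algebraMap k P r) = 0 := by
          rw [Algebra.algebraMap_eq_smul_one, map_smul, h1, smul_zero]
        simp [h0] }
  let ψ : ∀ n, P →ₐ[k] Q n := fun n => Nat.rec (motive := fun n => P →ₐ[k] Q n) ψ₀
    (fun n f => Algebra.FormallySmooth.liftOfSurjective f (tr n) (htr n) (hnil n)) n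
  have hψ : ∀ n a, tr n (ψ (n + 1) a) = ψ n a := fun n a =>
    Algebra.FormallySmooth.liftOfSurjective_apply _ _ _ _ a
  choose rep hrep using fun n a => Ideal.Quotient.mk_surjective (ψ n a)
  have hle : ∀ {n m : ℕ}, n ≤ m → ∀ a, Ideal.Quotient.mk (J n) (rep m a) = ψ n a := by
    intro n m h a
    induction h with
    | refl => exact hrep n a
    | step h ih =>
      rename_i m
      have h2 : Ideal.Quotient.mk (J m) (rep (m + 1) a) = Ideal.Quotient.mk (J m) (rep m a) := by
        rw [hrep m a, ← hψ m a, ← hrep (m + 1) a]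
        rfl
      rw [← ih, Ideal.Quotient.mk_eq_mk_iff_sub_mem]
      exact hJ h (Ideal.Quotient.mk_eq_mk_iff_sub_mem _ _ |>.mp h2)
  let φf : P → R := fun a => PowerSeries.mk fun i => PowerSeries.coeff i (rep i a)
  have hφ : ∀ n a, Ideal.Quotient.mk (J n) (φf a) = ψ n a := by
    intro n a
    rw [← hrep n a, Ideal.Quotient.mk_eq_mk_iff_sub_mem, hmem]
    intro i hi
    rw [map_sub, PowerSeries.coeff_mk, sub_eq_zero]
    rcases le_total i n with h | h
    · have h2 : Ideal.Quotient.mk (J i) (rep i a) = Ideal.Quotient.mk (J i) (rep n a) := by rw [hrep, hle h]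
      rw [Ideal.Quotient.mk_eq_mk_iff_sub_mem, hmem] at h2
      exact sub_eq_zero.mp ((map_sub _ _ _).symm.trans (h2 i (by omega)))
    · have h2 : Ideal.Quotient.mk (J n) (rep i a) = Ideal.Quotient.mk (J n) (rep n a) := by rw [hle h, hrep]
      rw [Ideal.Quotient.mk_eq_mk_iff_sub_mem, hmem] at h2
      exact sub_eq_zero.mp ((map_sub _ _ _).symm.trans (h2 i hi))
  have hext : ∀ f g : R, (∀ n, Ideal.Quotient.mk (J n) f = Ideal.Quotient.mk (J n) g) → f = g := by
    intro f g h
    refine PowerSeries.ext fun i => ?_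
    have h2 := (hmem i _).mp ((Ideal.Quotient.mk_eq_mk_iff_sub_mem _ _).mp (h i)) i (by omega)
    rwa [map_sub, sub_eq_zero] at h2
  let φ : P →ₐ[k] R :=
    { toFun := φf
      map_one' := hext _ _ fun n => by rw [hφ, map_one, map_one]
      map_mul' := fun a b => hext _ _ fun n => by rw [hφ, map_mul, map_mul, hφ, hφ]
      map_zero' := hext _ _ fun n => by rw [hφ, map_zero, map_zero]
      map_add' := fun a b => hext _ _ fun n => by rw [hφ, map_add, map_add, hφ, hφ]
      commutes' := fun r => hext _ _ fun n => by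
        rw [hφ, AlgHom.commutes]
        rfl }
  have h0 : ∀ a, ∀ i < 2, PowerSeries.coeff i (φ a) =
      PowerSeries.coeff i (PowerSeries.C (ρ a) + PowerSeries.C (ℓ a) * PowerSeries.X) := by
    intro a i hi
    have h2 : Ideal.Quotient.mk (J 0) (φ a) =
        Ideal.Quotient.mk (J 0) (PowerSeries.C (ρ a) + PowerSeries.C (ℓ a) * PowerSeries.X) := by
      refine (hφ 0 a).trans ?_
      rw [map_add, map_mul]
      rfl
    rw [Ideal.Quotient.mk_eq_mk_iff_sub_mem, hmem] at h2
    exact sub_eq_zero.mp ((map_sub _ _ _).symm.trans (h2 i hi))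
  refine ⟨φ, fun a => ?_, fun a => ?_⟩
  · have := h0 a 0 (by omega)
    rw [← PowerSeries.coeff_zero_eq_constantCoeff_apply, this]
    simp
  · rw [h0 a 1 (by omega)]
    simp

/-- An injective arc at a rational point of a one-dimensional smooth domain. -/
theorem exists_injective_arc [IsNoetherianRing P] [IsDomain P] [Algebra.FormallySmooth k P] [Ring.KrullDimLE 1 P]
    (ρ : P →ₐ[k] k) (hne : RingHom.ker ρ ≠ ⊥) :
    ∃ φ : P →ₐ[k] R, (∀ a, PowerSeries.constantCoeff (φ a) = ρ a) ∧ Function.Injective φ := by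
  classical
  set m := RingHom.ker ρ with hm
  have hmax : m.IsMaximal := RingHom.ker_isMaximal_of_surjective (ρ : P →+* k) fun c => ⟨algebraMap k P c, ρ.commutes c⟩
  obtain ⟨a₀, ha₀, ha₀'⟩ : ∃ a ∈ m, a ∉ m ^ 2 := by
    refine SetLike.not_le_iff_exists.mp fun hle => hne ?_
    have hid : IsIdempotentElem m := le_antisymm Ideal.mul_le_left (by rwa [pow_two] at hle)
    exact ((Ideal.isIdempotentElem_iff_eq_bot_or_top m (IsNoetherian.noetherian m)).mp hid).resolve_right hmax.ne_top
  obtain ⟨l₀, hl₀⟩ := Module.Projective.exists_dual_ne_zero k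
    (x := Submodule.Quotient.mk (p := (m ^ 2).restrictScalars k ⊔ k ∙ (1 : P)) a₀) (by
      rw [ne_eq, Submodule.Quotient.mk_eq_zero, Submodule.mem_sup]
      rintro ⟨y, hy, z, hz, hyz⟩
      obtain ⟨c, rfl⟩ := Submodule.mem_span_singleton.mp hz
      have hc : c = 0 := by
        have h := congrArg ρ hyz
        rw [map_add, map_smul, map_one, RingHom.mem_ker.mp ha₀,
          RingHom.mem_ker.mp (Ideal.pow_le_self two_ne_zero hy), zero_add] at h
        simpa using h
      rw [hc, zero_smul, add_zero] at hyz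
      exact ha₀' (hyz ▸ hy))
  let ℓ : P →ₗ[k] k := l₀ ∘ₗ Submodule.mkQ _
  have hℓ0 : ∀ y ∈ (m ^ 2).restrictScalars k ⊔ k ∙ (1 : P), ℓ y = 0 := fun y hy => by
    show l₀ (Submodule.Quotient.mk y) = 0
    rw [(Submodule.Quotient.mk_eq_zero _).mpr hy, map_zero]
  have h1 : ℓ 1 = 0 := hℓ0 1 (Submodule.mem_sup_right (Submodule.mem_span_singleton_self 1))
  have hℓ : ∀ a b, ℓ (a * b) = ρ a * ℓ b + ρ b * ℓ a := by
    intro a b
    have hmem : (a - algebraMap k P (ρ a)) * (b - algebraMap k P (ρ b)) ∈ m ^ 2 := by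
      rw [pow_two]
      exact Ideal.mul_mem_mul (by simp [hm, RingHom.mem_ker]) (by simp [hm, RingHom.mem_ker])
    have h := hℓ0 _ (Submodule.mem_sup_left hmem)
    have e : a * b = (a - algebraMap k P (ρ a)) * (b - algebraMap k P (ρ b)) + ρ a • b + ρ b • a - (ρ a * ρ b) • (1 : P) := by
      simp only [Algebra.smul_def, map_mul]; ring
    rw [e, map_sub, map_add, map_add, h, map_smul, map_smul, map_smul, h1, smul_zero, sub_zero, zero_add, smul_eq_mul,
      smul_eq_mul]
  obtain ⟨φ, hφ0, hφ1⟩ := exists_arc ρ ℓ h1 hℓ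
  refine ⟨φ, hφ0, (injective_iff_map_eq_zero φ).mpr fun a ha => ?_⟩
  have hker : RingHom.ker φ = ⊥ := by
    haveI : (RingHom.ker φ).IsPrime := RingHom.ker_isPrime φ
    by_contra hb
    have hk : (RingHom.ker φ).IsMaximal := Ideal.IsPrime.isMaximal_of_ne_bot inferInstance hb
    have hle : RingHom.ker φ ≤ m := fun x hx => by
      rw [hm, RingHom.mem_ker, ← hφ0, RingHom.mem_ker.mp hx, map_zero]
    have heq : RingHom.ker φ = m := hk.eq_of_le hmax.ne_top hle
    have h := hφ1 a₀
    rw [RingHom.mem_ker.mp (heq.ge ha₀ : a₀ ∈ RingHom.ker φ), map_zero] at h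
    exact hl₀ h.symm
  have : a ∈ RingHom.ker φ := RingHom.mem_ker.mpr ha
  rw [hker] at this
  exact this

end Arc

theorem exists_smoothing (k : Type u) [Field k]
    (X : Scheme.{u}) (pX : X ⟶ Spec (CommRingCat.of k))
    (C : Scheme.{u}) (qC : C ⟶ Spec (CommRingCat.of k)) (c : Spec (CommRingCat.of k) ⟶ C)
    (hc : c ≫ qC = 𝟙 (Spec (CommRingCat.of k))) [IsIntegral C] [Smooth qC]
    (hC : topologicalKrullDim C = 1)
    (Y : Scheme.{u}) (π : Y ⟶ C) [Flat π] [IsProper π] (j : X ⟶ Y) (hsq : IsPullback j pX π c)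
    (hgen : Smooth (π.fiberToSpecResidueField (genericPoint C))) :
    ∃ (P : Scheme.{u}) (p : P ⟶ Spec (CommRingCat.of (PowerSeries k))) (_ : Flat p) (_ : IsProper p)
      (i : X ⟶ P),
      IsPullback i pX p (Spec.map (CommRingCat.ofHom (PowerSeries.constantCoeff (R := k)))) ∧
      Smooth (pullback.snd p
        (Spec.map (CommRingCat.ofHom (algebraMap (PowerSeries k) (FractionRing (PowerSeries k)))))) := by
  obtain ⟨_, ⟨U, hU, rfl⟩, hcU, -⟩ :=
    C.isBasis_affineOpens.exists_subset_of_mem_open (Set.mem_univ (c (IsLocalRing.closedPoint k))) isOpen_univ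
  haveI : Nonempty U := ⟨⟨_, hcU⟩⟩
  haveI : IsLocallyNoetherian C := LocallyOfFiniteType.isLocallyNoetherian qC
  haveI : IsNoetherianRing Γ(C, U) := IsLocallyNoetherian.component_noetherian ⟨U, hU⟩
  let e := hU.fromSpec
  haveI : IsOpenImmersion e := hU.isOpenImmersion_fromSpec
  have hre : Set.range e = (U : Set C) := hU.range_fromSpec
  letI alg : Algebra k Γ(C, U) := (Spec.preimage (e ≫ qC)).hom.toAlgebra
  have hm : e ≫ qC = Spec.map (CommRingCat.ofHom (algebraMap k Γ(C, U))) := (Spec.map_preimage _).symm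
  haveI : Algebra.Smooth k Γ(C, U) := by
    have h : Smooth (Spec.map (CommRingCat.ofHom (algebraMap k Γ(C, U)))) := hm ▸ inferInstance
    rw [HasRingHomProperty.Spec_iff (P := @Smooth)] at h
    exact RingHom.smooth_algebraMap.mp h
  have hx : Set.range c ⊆ Set.range e := by
    rintro _ ⟨p, rfl⟩
    rw [hre, Subsingleton.elim p (IsLocalRing.closedPoint k)]
    exact hcU
  let x' := IsOpenImmersion.lift e c hx
  have hx' : x' ≫ e = c := IsOpenImmersion.lift_fac _ _ _
  let ρ : Γ(C, U) →ₐ[k] k :=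
    { toRingHom := (Spec.preimage x').hom
      commutes' := by
        intro a
        have h : CommRingCat.ofHom (algebraMap k Γ(C, U)) ≫ Spec.preimage x' = 𝟙 (CommRingCat.of k) := by
          apply Spec.map_injective
          rw [Spec.map_comp, Spec.map_preimage, ← hm, ← Category.assoc, hx', hc, Spec.map_id]
        exact congrArg (fun g => g.hom a) h }
  have hρx : Spec.map (CommRingCat.ofHom ρ.toRingHom) ≫ e = c := by
    change Spec.map (Spec.preimage x') ≫ e = c
    rw [Spec.map_preimage, hx']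
  have hbot : e (⟨⊥, Ideal.isPrime_bot⟩ : PrimeSpectrum Γ(C, U)) = genericPoint C := by
    have hη : genericPoint C ∈ U := (genericPoint_spec C).mem_open_set_iff U.2 |>.mpr ⟨_, trivial, hcU⟩
    obtain ⟨p, hp⟩ : genericPoint C ∈ Set.range e := by rw [hre]; exact hη
    rw [← hp]
    refine congrArg e (PrimeSpectrum.ext (le_antisymm bot_le ?_))
    refine ((PrimeSpectrum.le_iff_specializes p _).mpr ?_)
    refine e.isOpenEmbedding.isInducing.specializes_iff.mp ?_
    rw [hp]
    exact genericPoint_specializes _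
  haveI : Ring.KrullDimLE 1 Γ(C, U) := by
    rw [Ring.krullDimLE_iff, ← PrimeSpectrum.topologicalKrullDim_eq_ringKrullDim]
    exact (e.isOpenEmbedding.isInducing.topologicalKrullDim_le).trans hC.le
  have hne : RingHom.ker ρ ≠ ⊥ := by
    intro h
    have hmax : (⊥ : Ideal Γ(C, U)).IsMaximal := h ▸
      RingHom.ker_isMaximal_of_surjective (ρ : Γ(C, U) →+* k) fun a => ⟨algebraMap k _ a, ρ.commutes a⟩
    have hsingle : ∀ x ∈ U, x = genericPoint C := by
      intro x hxU
      obtain ⟨p, rfl⟩ : x ∈ Set.range e := by rw [hre]; exact hxU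
      rw [← hbot]
      exact congrArg e (PrimeSpectrum.ext (hmax.eq_of_le p.isPrime.ne_top bot_le).symm)
    haveI : JacobsonSpace C := LocallyOfFiniteType.jacobsonSpace qC
    obtain ⟨x, hxU, hxc⟩ := nonempty_inter_closedPoints (X := C) (Z := (U : Set C)) ⟨_, hcU⟩ U.2.isLocallyClosed
    rw [hsingle x hxU] at hxc
    haveI : Subsingleton C := ⟨fun a b => by
      have hh : ∀ z : C, z = genericPoint C := fun z => by
        have := (genericPoint_specializes z).mem_closed hxc rfl
        exact this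
      rw [hh a, hh b]⟩
    have h0 := topologicalKrullDim_zero_of_discreteTopology C
    rw [hC] at h0
    exact absurd h0 (not_le.mpr zero_lt_one)
  obtain ⟨φ, hφ0, hφi⟩ := exists_injective_arc ρ hne
  let h : Spec (CommRingCat.of (PowerSeries k)) ⟶ C := Spec.map (CommRingCat.ofHom φ.toRingHom) ≫ e
  let cc := Spec.map (CommRingCat.ofHom (PowerSeries.constantCoeff (R := k)))
  have hcc : cc ≫ h = c := by
    rw [← hρx, ← Category.assoc, ← Spec.map_comp, ← CommRingCat.ofHom_comp]
    congr 3
    exact RingHom.ext hφ0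
  let i : X ⟶ pullback π h := pullback.lift j (pX ≫ cc) (by rw [Category.assoc, hcc]; exact hsq.w)
  have hsq' : IsPullback i pX (pullback.snd π h) cc := by
    refine IsPullback.of_right ?_ (pullback.lift_snd _ _ _) (IsPullback.of_hasPullback π h)
    rw [pullback.lift_fst, hcc]
    exact hsq
  refine ⟨pullback π h, pullback.snd π h, inferInstance, inferInstance, i, hsq', ?_⟩
  let K := FractionRing (PowerSeries k)
  let g : Spec (CommRingCat.of K) ⟶ Spec (CommRingCat.of (PowerSeries k)) :=
    Spec.map (CommRingCat.ofHom (algebraMap (PowerSeries k) K))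
  have hpt : (g ≫ h) (IsLocalRing.closedPoint K) = genericPoint C := by
    rw [← hbot]
    change e (Spec.map (CommRingCat.ofHom φ.toRingHom) (g (IsLocalRing.closedPoint K))) = _
    refine congrArg e (PrimeSpectrum.ext ?_)
    change Ideal.comap φ.toRingHom (Ideal.comap (algebraMap (PowerSeries k) K) (IsLocalRing.maximalIdeal K)) = ⊥
    rw [IsLocalRing.maximalIdeal_eq_bot, Ideal.comap_bot_of_injective _ (IsFractionRing.injective (PowerSeries k) K)]
    exact Ideal.comap_bot_of_injective _ hφi
  obtain ⟨g', hg'⟩ : ∃ g' : Spec (CommRingCat.of K) ⟶ Spec (C.residueField (genericPoint C)),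
      g' ≫ C.fromSpecResidueField (genericPoint C) = g ≫ h := by
    rw [← hpt]
    exact ⟨_, Scheme.descResidueField_stalkClosedPointTo_fromSpecResidueField K C (g ≫ h)⟩
  have h1 : IsPullback (pullback.fst (pullback.snd π h) g ≫ pullback.fst π h) (pullback.snd (pullback.snd π h) g) π (g ≫ h) :=
    (IsPullback.of_hasPullback (pullback.snd π h) g).paste_horiz (IsPullback.of_hasPullback π h)
  rw [← hg'] at h1
  let t := IsPullback.of_hasPullback π (C.fromSpecResidueField (genericPoint C))
  have h2 : IsPullback (t.lift (pullback.fst (pullback.snd π h) g ≫ pullback.fst π h)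
      (pullback.snd (pullback.snd π h) g ≫ g') (by rw [Category.assoc]; exact h1.w))
      (pullback.snd (pullback.snd π h) g) (π.fiberToSpecResidueField (genericPoint C)) g' := by
    refine IsPullback.of_right ?_ (t.lift_snd _ _ _) t
    rw [t.lift_fst]
    exact h1
  exact MorphismProperty.of_isPullback h2 hgen

end Groth.Agent.H24Def.GeomSmoothing
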