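import Groth.Agent.H24Def.CurveThrough
import Groth.Agent.H06Conn.FlatProperFP
import Groth.Agent.S5934
import Groth.Agent.H29RR.SmoothRegular
import Groth.Agent.H12AlgSp.LocPCancel

/-!
# From a smoothing over power series to a geometric smoothing
-/

set_option autoImplicit false
set_option linter.style.haveILetI false

universe u

open CategoryTheory CategoryTheory.Limits AlgebraicGeometry

namespace Groth.Agent.H24Def.GeomSmoothing

/-- The spectrum of a regular algebra of finite type over a perfect field is smooth. -/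
theorem smooth_specMap_of_regular (k : Type u) [Field k] [PerfectField k] (T : Type u) [CommRing T] [IsDomain T]
    [Algebra k T] [Algebra.FiniteType k T] [IsRegularRing T] :
    Smooth (Spec.map (CommRingCat.ofHom (algebraMap k T))) := by
  letI : (Spec (CommRingCat.of T)).Over (Spec (CommRingCat.of k)) := ⟨Spec.map (CommRingCat.ofHom (algebraMap k T))⟩
  haveI : LocallyOfFiniteType (Spec (CommRingCat.of T) ↘ Spec (CommRingCat.of k)) := by
    show LocallyOfFiniteType (Spec.map (CommRingCat.ofHom (algebraMap k T)))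
    rw [HasRingHomProperty.Spec_iff (P := @LocallyOfFiniteType)]
    exact RingHom.finiteType_algebraMap.mpr inferInstance
  refine H29RR.smooth_of_regular k (Spec (CommRingCat.of T)) fun x => ?_
  letI x' : PrimeSpectrum T := x
  exact IsRegularLocalRing.of_ringEquiv (R := Localization.AtPrime x'.asIdeal)
    (StructureSheaf.stalkIso T x').toRingEquiv

/-- Smoothness descends along an extension of fields. -/
theorem smooth_of_fieldExtension {Y P : Scheme.{u}} {K κ : Type u} [Field K] [Field κ]
    {a : P ⟶ Y} {b : P ⟶ Spec (CommRingCat.of K)} {f : Y ⟶ Spec (CommRingCat.of κ)}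
    {g : Spec (CommRingCat.of K) ⟶ Spec (CommRingCat.of κ)} (h : IsPullback a b f g) (hb : Smooth b) : Smooth f := by
  haveI : Surjective g := ⟨fun p => ⟨IsLocalRing.closedPoint K, Subsingleton.elim (α := PrimeSpectrum κ) _ p⟩⟩
  haveI : Flat g := by
    rw [← Spec.map_preimage g, Flat.SpecMap_iff]
    letI : Algebra κ K := (Spec.preimage g).hom.toAlgebra
    exact (RingHom.flat_algebraMap_iff (R := κ) (S := K)).2 inferInstance
  exact MorphismProperty.of_isPullback_of_descendsAlong (P := @Smooth)
    (Q := @Surjective ⊓ @Flat ⊓ @QuasiCompact) h.flip ⟨⟨inferInstance, inferInstance⟩, inferInstance⟩ hb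

variable (k : Type u) [Field k] [IsAlgClosed k]

/-- A smoothing over power series gives a geometric smoothing. -/
theorem exists_geometric_smoothing (X : Scheme.{u}) (pX : X ⟶ Spec (CommRingCat.of k))
    (P : Scheme.{u}) (p : P ⟶ Spec (CommRingCat.of (PowerSeries k))) [Flat p] [IsProper p] (i : X ⟶ P)
    (hX : IsPullback i pX p (Spec.map (CommRingCat.ofHom (PowerSeries.constantCoeff (R := k)))))
    (hgen : Smooth (pullback.snd p
      (Spec.map (CommRingCat.ofHom (algebraMap (PowerSeries k) (FractionRing (PowerSeries k))))))) :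
    ∃ (C : Scheme.{u}) (qC : C ⟶ Spec (CommRingCat.of k)) (c : Spec (CommRingCat.of k) ⟶ C)
      (_ : c ≫ qC = 𝟙 (Spec (CommRingCat.of k))) (_ : IsIntegral C) (_ : IsAffine C) (_ : Smooth qC)
      (_ : topologicalKrullDim C = 1)
      (Y : Scheme.{u}) (π : Y ⟶ C) (_ : Flat π) (_ : IsProper π) (j : X ⟶ Y)
      (η : C) (_ : closure ({η} : Set C) = Set.univ),
      IsPullback j pX π c ∧ Smooth (π.fiberToSpecResidueField η) := by
  classical
  haveI : LocallyOfFinitePresentation p := H12AlgSp.lfp_of_lft_of_isLocallyNoetherian p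
  letI : Algebra ℤ (PowerSeries k) := Ring.toIntAlgebra _
  obtain ⟨A₀, X₀, f₀, g₀, hA₀, hprop, hflat, hlfp, hsq₀⟩ := H06Conn.exists_proper_flat_model p
  haveI := hprop
  haveI := hflat
  haveI := hlfp
  obtain ⟨s', hs⟩ := hA₀.out
  let s : Finset (PowerSeries k) := s'.image Subtype.val
  let A : Subalgebra k (PowerSeries k) := Algebra.adjoin k ((insert PowerSeries.X s : Finset (PowerSeries k)) : Set (PowerSeries k))
  haveI : Algebra.FiniteType k A := (Subalgebra.fg_iff_finiteType A).1 ⟨_, rfl⟩
  have hle : ∀ a ∈ A₀, a ∈ A := fun a ha => by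
    have h1 : (⟨a, ha⟩ : A₀) ∈ Algebra.adjoin ℤ (s' : Set A₀) := hs ▸ Algebra.mem_top
    refine (Algebra.adjoin_le (S := subalgebraOfSubring (A.toSubring.comap A₀.val.toRingHom)) ?_) h1
    intro z hz
    exact (Algebra.subset_adjoin (Finset.mem_coe.2 (Finset.mem_insert_of_mem
      (Finset.mem_image_of_mem Subtype.val (Finset.mem_coe.1 hz)))) : z.1 ∈ A)
  let ι₀ : A₀ →+* A :=
    { toFun := fun a => ⟨a.1, hle a.1 a.2⟩
      map_one' := rfl
      map_mul' := fun _ _ => rfl
      map_zero' := rfl
      map_add' := fun _ _ => rfl }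
  let b := Spec.map (CommRingCat.ofHom ι₀)
  let v := Spec.map (CommRingCat.ofHom A.val.toRingHom)
  let π := pullback.snd f₀ b
  haveI : Flat π := inferInstance
  haveI : IsProper π := inferInstance
  haveI : LocallyOfFinitePresentation π := inferInstance
  have hvb : v ≫ b = Spec.map (CommRingCat.ofHom A₀.val.toRingHom) := (Spec.map_comp _ _).symm
  let qA : P ⟶ pullback f₀ b := pullback.lift g₀ (p ≫ v) (by rw [Category.assoc, hvb]; exact hsq₀.w)
  have hsqA : IsPullback qA p π v := by
    refine IsPullback.of_right ?_ (pullback.lift_snd _ _ _) (IsPullback.of_hasPullback f₀ b)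
    rw [pullback.lift_fst, hvb]
    exact hsq₀
  let ρ : A →ₐ[k] k :=
    { toRingHom := (PowerSeries.constantCoeff (R := k)).comp A.val.toRingHom
      commutes' := fun r => PowerSeries.constantCoeff_C r }
  have hρ : RingHom.ker ρ ≠ ⊥ := fun h => by
    have hX' : (PowerSeries.X : PowerSeries k) ∈ A :=
      Algebra.subset_adjoin (Finset.mem_coe.2 (Finset.mem_insert_self _ _))
    have h1 : (⟨_, hX'⟩ : A) ∈ RingHom.ker ρ := PowerSeries.constantCoeff_X
    rw [h, Ideal.mem_bot] at h1
    exact PowerSeries.X_ne_zero (congrArg Subtype.val h1)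
  let η₀ : Spec (CommRingCat.of A) := (⟨⊥, Ideal.isPrime_bot⟩ : PrimeSpectrum A)
  let K := FractionRing (PowerSeries k)
  let w := Spec.map (CommRingCat.ofHom (algebraMap (PowerSeries k) K))
  have hpt : (w ≫ v) (IsLocalRing.closedPoint K) = η₀ := by
    refine PrimeSpectrum.ext ?_
    show Ideal.comap A.val.toRingHom (Ideal.comap (algebraMap (PowerSeries k) K) (IsLocalRing.maximalIdeal K)) = ⊥
    rw [IsLocalRing.maximalIdeal_eq_bot, Ideal.comap_bot_of_injective _ (IsFractionRing.injective (PowerSeries k) K)]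
    exact Ideal.comap_bot_of_injective _ fun a a' h => Subtype.ext h
  have hη₀ : Smooth (π.fiberToSpecResidueField η₀) := by
    obtain ⟨g', hg'⟩ : ∃ g' : Spec (CommRingCat.of K) ⟶ Spec ((Spec (CommRingCat.of A)).residueField η₀),
        g' ≫ (Spec (CommRingCat.of A)).fromSpecResidueField η₀ = w ≫ v := by
      rw [← hpt]
      exact ⟨_, Scheme.descResidueField_stalkClosedPointTo_fromSpecResidueField K _ (w ≫ v)⟩
    have h1 : IsPullback (pullback.fst p w ≫ qA) (pullback.snd p w) π (w ≫ v) :=
      (IsPullback.of_hasPullback p w).paste_horiz hsqA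
    rw [← hg'] at h1
    let t := IsPullback.of_hasPullback π ((Spec (CommRingCat.of A)).fromSpecResidueField η₀)
    have h2 : IsPullback (t.lift (pullback.fst p w ≫ qA) (pullback.snd p w ≫ g')
        (by rw [Category.assoc]; exact h1.w))
        (pullback.snd p w) (π.fiberToSpecResidueField η₀) g' := by
      refine IsPullback.of_right ?_ (t.lift_snd _ _ _) t
      rw [t.lift_fst]
      exact h1
    exact smooth_of_fieldExtension h2 hgen
  obtain ⟨_, ⟨c, rfl⟩, hcη, hcU⟩ := PrimeSpectrum.isTopologicalBasis_basic_opens.exists_subset_of_mem_open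
    (a := (η₀ : PrimeSpectrum A)) hη₀ (S5934.result π)
  have hc : c ≠ 0 := fun h => hcη (by rw [h]; exact Ideal.zero_mem _)
  obtain ⟨T, _, _, _, g, τ, hft, hreg, hdim, hτ, hgc⟩ := H24Def.CurveThrough.exists_curve k ρ hρ hc
  let gs := Spec.map (CommRingCat.ofHom g.toRingHom)
  let cT := Spec.map (CommRingCat.ofHom τ.toRingHom)
  have hcT : cT ≫ gs = Spec.map (CommRingCat.ofHom ρ.toRingHom) := by
    rw [← hτ]
    exact (Spec.map_comp _ _).symm
  have hsqX : IsPullback (i ≫ qA) pX π (Spec.map (CommRingCat.ofHom ρ.toRingHom)) := by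
    have h1 := hX.paste_horiz hsqA
    rwa [← Spec.map_comp] at h1
  let j : X ⟶ pullback π gs := pullback.lift (i ≫ qA) (pX ≫ cT) (by rw [Category.assoc pX, hcT]; exact hsqX.w)
  have hj : IsPullback j pX (pullback.snd π gs) cT := by
    refine IsPullback.of_right ?_ (pullback.lift_snd _ _ _) (IsPullback.of_hasPullback π gs)
    rw [pullback.lift_fst, hcT]
    exact hsqX
  haveI : IsDomain (CommRingCat.of T : Type u) := ‹IsDomain T›
  let η : Spec (CommRingCat.of T) := (⟨⊥, Ideal.isPrime_bot⟩ : PrimeSpectrum T)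
  refine ⟨Spec (CommRingCat.of T), Spec.map (CommRingCat.ofHom (algebraMap k T)), cT, ?_, inferInstance,
    inferInstance, smooth_specMap_of_regular k T, ?_, pullback π gs, pullback.snd π gs, inferInstance,
    inferInstance, j, η, ?_, hj, ?_⟩
  · rw [← Spec.map_comp, ← CommRingCat.ofHom_comp, show τ.toRingHom.comp (algebraMap k T) = RingHom.id k from
      RingHom.ext τ.commutes, CommRingCat.ofHom_id, Spec.map_id]
  · rw [show topologicalKrullDim (Spec (CommRingCat.of T)) = ringKrullDim T from
      PrimeSpectrum.topologicalKrullDim_eq_ringKrullDim T, hdim]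
  · show closure ({(⟨⊥, Ideal.isPrime_bot⟩ : PrimeSpectrum T)} : Set (PrimeSpectrum T)) = Set.univ
    rw [PrimeSpectrum.closure_singleton]
    exact PrimeSpectrum.zeroLocus_bot
  · refine MorphismProperty.of_isPullback (P := @Smooth)
      (isPullback_fiberToSpecResidueField_of_isPullback (IsPullback.of_hasPullback π gs) η) ?_
    exact hcU fun h => hgc (h : g c ∈ (⊥ : Ideal T))

end Groth.Agent.H24Def.GeomSmoothing
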