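import Mathlib.AlgebraicGeometry.Morphisms.Flat
import Mathlib.RingTheory.Artinian.Ring
import Mathlib.RingTheory.HopkinsLevitzki
import Mathlib.LinearAlgebra.TensorProduct.Quotient
import Mathlib.RingTheory.Flat.Basic

/-! Global functions on a flat scheme over an Artinian local ring with scalar functions on the fibre. -/

set_option autoImplicit false
set_option linter.style.haveILetI false

universe u

open CategoryTheory AlgebraicGeometry TopologicalSpace Opposite IsLocalRing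

namespace Groth.Agent.H24Def

/-- Colon ideals and flat algebras: if `(J : t) = m`, then `(JB : t) = mB`. -/
theorem mem_map_of_mul_mem_map {C B : Type u} [CommRing C] [CommRing B] [Algebra C B] [Module.Flat C B]
    {J m : Ideal C} {t : C} (ht : ∀ a, a * t ∈ J ↔ a ∈ m) {b : B}
    (hb : algebraMap C B t * b ∈ J.map (algebraMap C B)) : b ∈ m.map (algebraMap C B) := by
  let f : C →ₗ[C] C ⧸ J := LinearMap.toSpanSingleton C (C ⧸ J) (Ideal.Quotient.mk J t)
  have hf : Function.Exact (Submodule.subtype m) f := fun a => by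
    change a • Ideal.Quotient.mk J t = 0 ↔ _
    rw [Algebra.smul_def, Ideal.Quotient.algebraMap_eq, ← map_mul, Ideal.Quotient.eq_zero_iff_mem, ht]
    exact ⟨fun h => ⟨⟨a, h⟩, rfl⟩, fun ⟨x, hx⟩ => hx ▸ x.2⟩
  have h := Module.Flat.lTensor_exact B hf (b ⊗ₜ[C] (1 : C))
  have h0 : LinearMap.lTensor B f (b ⊗ₜ[C] (1 : C)) = 0 := by
    rw [LinearMap.lTensor_tmul, LinearMap.toSpanSingleton_apply, one_smul]
    refine (TensorProduct.tensorQuotEquivQuotSMul B J).injective ?_
    rw [map_zero]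
    refine ((TensorProduct.tensorQuotEquivQuotSMul_tmul_mk J b t)).trans ?_
    rw [Submodule.Quotient.mk_eq_zero, Ideal.smul_top_eq_map, Submodule.restrictScalars_mem, Algebra.smul_def]
    exact hb
  obtain ⟨z, hz⟩ := h.mp h0
  have key : ∀ z, TensorProduct.rid C B (LinearMap.lTensor B (Submodule.subtype m) z) ∈ m.map (algebraMap C B) := by
    intro z
    induction z using TensorProduct.induction_on with
    | zero => simp
    | add x y hx hy => rw [map_add, map_add]; exact add_mem hx hy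
    | tmul x a =>
      rw [LinearMap.lTensor_tmul, TensorProduct.rid_tmul, Algebra.smul_def]
      exact Ideal.mul_mem_right _ _ (Ideal.mem_map_of_mem _ a.2)
  have := key z
  rwa [hz, TensorProduct.rid_tmul, one_smul] at this

variable {C : Type u} [CommRing C] {X X₀ : Scheme.{u}} (g : X ⟶ Spec (CommRingCat.of C))

/-- The algebra structure on sections. -/
noncomputable def scalar (U : X.Opens) : C →+* Γ(X, U) :=
  ((Scheme.ΓSpecIso (CommRingCat.of C)).inv ≫ g.appLE ⊤ U le_top).hom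

theorem map_scalar {U V : X.Opens} (h : V ≤ U) (c : C) :
    X.presheaf.map (homOfLE h).op (scalar g U c) = scalar g V c := by
  have : ((Scheme.ΓSpecIso (CommRingCat.of C)).inv ≫ g.appLE ⊤ U le_top) ≫ X.presheaf.map (homOfLE h).op =
      (Scheme.ΓSpecIso (CommRingCat.of C)).inv ≫ g.appLE ⊤ V le_top := by
    rw [Category.assoc, Scheme.Hom.appLE_map]
  exact ConcreteCategory.congr_hom this c

theorem map_scalar_ideal {U V : X.Opens} (h : V ≤ U) (J : Ideal C) {x : Γ(X, U)} (hx : x ∈ J.map (scalar g U)) :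
    X.presheaf.map (homOfLE h).op x ∈ J.map (scalar g V) := by
  have h1 := Ideal.mem_map_of_mem (X.presheaf.map (homOfLE h).op).hom hx
  rw [Ideal.map_map] at h1
  rwa [show (X.presheaf.map (homOfLE h).op).hom.comp (scalar g U) = scalar g V from
    RingHom.ext (map_scalar g h)] at h1

theorem flat_scalar [Flat g] {U : X.Opens} (hU : IsAffineOpen U) : (scalar g U).Flat := by
  have h1 : (g.appLE ⊤ U le_top).hom.Flat :=
    HasRingHomProperty.appLE (P := @Flat) g inferInstance ⟨⊤, isAffineOpen_top _⟩ ⟨U, hU⟩ le_top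
  exact RingHom.Flat.comp (RingHom.Flat.of_bijective
    (ConcreteCategory.bijective_of_isIso (Scheme.ΓSpecIso (CommRingCat.of C)).inv)) h1

variable {g} [IsLocalRing C]
variable (i : X₀ ⟶ X) (f₀ : X₀ ⟶ Spec (CommRingCat.of (C ⧸ maximalIdeal C)))
  (hsq : IsPullback i f₀ g (Spec.map (CommRingCat.ofHom (Ideal.Quotient.mk (maximalIdeal C)))))

include hsq

theorem app_scalar (U : X.Opens) (c : C) :
    i.app U (scalar g U c) = scalar f₀ (i ⁻¹ᵁ U) (Ideal.Quotient.mk (maximalIdeal C) c) := by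
  let mk' := CommRingCat.ofHom (Ideal.Quotient.mk (maximalIdeal C))
  have : ((Scheme.ΓSpecIso (CommRingCat.of C)).inv ≫ g.appLE ⊤ U le_top) ≫ i.app U =
      mk' ≫ (Scheme.ΓSpecIso (CommRingCat.of (C ⧸ maximalIdeal C))).inv ≫ f₀.appLE ⊤ (i ⁻¹ᵁ U) le_top := by
    rw [Scheme.ΓSpecIso_inv_naturality_assoc, Category.assoc, Scheme.Hom.app_eq_appLE,
      Scheme.Hom.appTop, Scheme.Hom.app_eq_appLE (Spec.map mk') (U := ⊤)]
    congr 1
    erw [Scheme.Hom.appLE_comp_appLE, Scheme.Hom.appLE_comp_appLE]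
    simp only [hsq.w, mk']
  exact ConcreteCategory.congr_hom this c

theorem isPushout_app {U : X.Opens} (hU : IsAffineOpen U) :
    IsPushout (CommRingCat.ofHom (scalar g U)) (CommRingCat.ofHom (Ideal.Quotient.mk (maximalIdeal C)))
      (i.app U) (CommRingCat.ofHom (scalar f₀ (i ⁻¹ᵁ U))) := by
  let mk' := CommRingCat.ofHom (Ideal.Quotient.mk (maximalIdeal C))
  have hY : i ⁻¹ᵁ U = i ⁻¹ᵁ U ⊓ f₀ ⁻¹ᵁ (⊤ : (Spec (CommRingCat.of (C ⧸ maximalIdeal C))).Opens) := by simp
  haveI := isIso_pushoutSection_of_isAffineOpen hsq (US := ⊤) (UT := ⊤) (UX := U) (UY := i ⁻¹ᵁ U)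
    le_top le_top hY (isAffineOpen_top _) (isAffineOpen_top _) hU
  refine ((isIso_pushoutSection_iff hsq le_top le_top hY).mp inferInstance).of_iso
    (Scheme.ΓSpecIso (CommRingCat.of C)) (Iso.refl _) (Scheme.ΓSpecIso (CommRingCat.of (C ⧸ maximalIdeal C)))
    (Iso.refl _) ?_ ?_ ?_ ?_
  · show g.appLE ⊤ U le_top ≫ 𝟙 _ =
      (Scheme.ΓSpecIso (CommRingCat.of C)).hom ≫ (Scheme.ΓSpecIso (CommRingCat.of C)).inv ≫ g.appLE ⊤ U le_top
    rw [Category.comp_id, Iso.hom_inv_id_assoc]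
  · rw [← Scheme.ΓSpecIso_naturality, Scheme.Hom.appTop, Scheme.Hom.app_eq_appLE]
    rfl
  · show i.appLE U (i ⁻¹ᵁ U) _ ≫ 𝟙 _ = 𝟙 _ ≫ i.app U
    rw [Category.comp_id, Category.id_comp, Scheme.Hom.app_eq_appLE]
  · show f₀.appLE ⊤ (i ⁻¹ᵁ U) _ ≫ 𝟙 _ = (Scheme.ΓSpecIso (CommRingCat.of (C ⧸ maximalIdeal C))).hom ≫
      (Scheme.ΓSpecIso (CommRingCat.of (C ⧸ maximalIdeal C))).inv ≫ f₀.appLE ⊤ (i ⁻¹ᵁ U) le_top
    rw [Category.comp_id, Iso.hom_inv_id_assoc]

theorem app_eq_zero_iff {U : X.Opens} (hU : IsAffineOpen U) (x : Γ(X, U)) :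
    i.app U x = 0 ↔ x ∈ (maximalIdeal C).map (scalar g U) := by
  refine ⟨fun hx => ?_, fun hx => ?_⟩
  · let K := (maximalIdeal C).map (scalar g U)
    let π : Γ(X, U) →+* Γ(X, U) ⧸ K := Ideal.Quotient.mk K
    let τ : (C ⧸ maximalIdeal C) →+* (Γ(X, U) ⧸ K) := Ideal.Quotient.lift _ (π.comp (scalar g U))
      fun a ha => Ideal.Quotient.eq_zero_iff_mem.mpr (Ideal.mem_map_of_mem _ ha)
    have hP := isPushout_app i f₀ hsq hU
    have w : CommRingCat.ofHom (scalar g U) ≫ CommRingCat.ofHom π =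
        CommRingCat.ofHom (Ideal.Quotient.mk (maximalIdeal C)) ≫ CommRingCat.ofHom τ := rfl
    have := ConcreteCategory.congr_hom (hP.inl_desc (CommRingCat.ofHom π) (CommRingCat.ofHom τ) w) x
    have h2 : (hP.desc (CommRingCat.ofHom π) (CommRingCat.ofHom τ) w) (i.app U x) = 0 := by rw [hx, map_zero]
    exact Ideal.Quotient.eq_zero_iff_mem.mp (this.symm.trans h2)
  · refine Submodule.span_induction (p := fun y _ => i.app U y = 0) ?_ (map_zero _)
      (fun a b _ _ ha hb => by rw [map_add, ha, hb, add_zero])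
      (fun a b _ hb => by rw [smul_eq_mul, map_mul, hb, mul_zero]) hx
    rintro _ ⟨c, hc, rfl⟩
    rw [app_scalar i f₀ hsq, Ideal.Quotient.eq_zero_iff_mem.mpr hc, map_zero]

/-- Compatible families modulo `J` on affine opens come from a unique scalar. -/
theorem compatible_family [IsArtinianRing C] [Flat g]
    (h0 : Function.Bijective (scalar f₀ (⊤ : X₀.Opens))) (J : Ideal C) :
    (∀ x : ∀ U : X.affineOpens, Γ(X, U.1),
      (∀ (U V : X.affineOpens) (h : V.1 ≤ U.1),
        X.presheaf.map (homOfLE h).op (x U) - x V ∈ J.map (scalar g V.1)) →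
      ∃ c : C, ∀ U : X.affineOpens, x U - scalar g U.1 c ∈ J.map (scalar g U.1)) ∧
    (∀ c : C, (∀ U : X.affineOpens, scalar g U.1 c ∈ J.map (scalar g U.1)) → c ∈ J) := by
  induction J using WellFoundedGT.induction with
  | ind J ih =>
  by_cases hJ : J = ⊤
  · subst hJ
    refine ⟨fun x _ => ⟨0, fun U => ?_⟩, fun c _ => trivial⟩
    rw [Ideal.map_top]
    trivial
  obtain ⟨n, hn⟩ := (isArtinianRing_iff_isNilpotent_maximalIdeal C).mp inferInstance
  obtain ⟨t, htJ, hmt⟩ : ∃ t ∉ J, ∀ a ∈ maximalIdeal C, a * t ∈ J := by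
    classical
    have hex : ∃ n, maximalIdeal C ^ n ≤ J := ⟨n, by rw [hn]; exact bot_le⟩
    have hspec := Nat.find_spec hex
    rcases hfind : Nat.find hex with _ | m
    · rw [hfind, pow_zero, Ideal.one_eq_top] at hspec
      exact absurd (top_le_iff.mp hspec) hJ
    · rw [hfind] at hspec
      obtain ⟨t, ht, htJ⟩ := SetLike.not_le_iff_exists.mp (Nat.find_min hex (m := m) (by omega))
      exact ⟨t, htJ, fun a ha => hspec (by rw [pow_succ']; exact Ideal.mul_mem_mul ha ht)⟩
  have hcolon : ∀ a, a * t ∈ J ↔ a ∈ maximalIdeal C := fun a => by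
    refine ⟨fun ha => ?_, hmt a⟩
    by_contra hu
    rw [mem_maximalIdeal, mem_nonunits_iff, not_not] at hu
    obtain ⟨b, rfl⟩ := hu
    exact htJ (by simpa [← mul_assoc] using J.mul_mem_left (↑b⁻¹ : C) ha)
  obtain ⟨ihE, ihI⟩ := ih (J ⊔ Ideal.span {t}) (Submodule.lt_sup_iff_notMem.mpr htJ)
  have hmem : ∀ (U : X.affineOpens) (b : Γ(X, U.1)),
      scalar g U.1 t * b ∈ J.map (scalar g U.1) → i.app U.1 b = 0 := by
    intro U b hb
    rw [app_eq_zero_iff i f₀ hsq U.2]
    letI := (scalar g U.1).toAlgebra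
    haveI : Module.Flat C Γ(X, U.1) := flat_scalar g U.2
    exact mem_map_of_mul_mem_map hcolon hb
  have hcover : ∀ W : X.Opens, i ⁻¹ᵁ W ≤ ⨆ U : {U : X.affineOpens // U.1 ≤ W}, i ⁻¹ᵁ U.1.1 := by
    intro W x hx
    obtain ⟨_, ⟨U, hU, rfl⟩, hxU, hUW⟩ := X.isBasis_affineOpens.exists_subset_of_mem_open
      (show i x ∈ (W : Set X) from hx) W.2
    exact Opens.mem_iSup.mpr ⟨⟨⟨U, hU⟩, hUW⟩, hxU⟩
  refine ⟨fun x hx => ?_, fun c hc => ?_⟩
  · obtain ⟨c, hc⟩ := ihE x fun U V h => Ideal.map_mono le_sup_left (hx U V h)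
    have hb : ∀ U : X.affineOpens, ∃ b : Γ(X, U.1),
        x U - scalar g U.1 c - scalar g U.1 t * b ∈ J.map (scalar g U.1) := by
      intro U
      have h1 := hc U
      rw [Ideal.map_sup, Ideal.map_span, Set.image_singleton, Submodule.mem_sup] at h1
      obtain ⟨a, ha, z, hz, he⟩ := h1
      obtain ⟨b, rfl⟩ := Ideal.mem_span_singleton'.mp hz
      exact ⟨b, by rw [← he, mul_comm b, add_sub_cancel_right]; exact ha⟩
    choose b hb using hb
    have hcompat : ∀ (U V : X.affineOpens) (h : V.1 ≤ U.1),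
        X₀.presheaf.map (homOfLE (i.preimage_mono h)).op (i.app U.1 (b U)) = i.app V.1 (b V) := by
      intro U V h
      have h1 := map_scalar_ideal g h J (hb U)
      rw [map_sub, map_sub, map_mul, map_scalar, map_scalar] at h1
      have h2 : scalar g V.1 t * (X.presheaf.map (homOfLE h).op (b U) - b V) ∈ J.map (scalar g V.1) := by
        have := sub_mem (sub_mem (hx U V h) h1) (neg_mem (hb V))
        convert this using 1
        ring
      have h3 := hmem V _ h2
      rw [map_sub, sub_eq_zero] at h3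
      rw [← h3]
      exact (ConcreteCategory.congr_hom (i.naturality (homOfLE h).op) (b U)).symm
    obtain ⟨y, hy, -⟩ := X₀.sheaf.existsUnique_gluing' (fun U : X.affineOpens => i ⁻¹ᵁ U.1) ⊤
      (fun U => homOfLE le_top) (fun x _ => by
        obtain ⟨U, hU⟩ := Opens.mem_iSup.mp (hcover ⊤ (show x ∈ i ⁻¹ᵁ ⊤ from trivial))
        exact Opens.mem_iSup.mpr ⟨U.1, hU⟩)
      (fun U => i.app U.1 (b U)) (fun U V => by
        apply X₀.sheaf.eq_of_locally_eq' (fun W : {W : X.affineOpens // W.1 ≤ U.1 ⊓ V.1} => i ⁻¹ᵁ W.1.1)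
          (i ⁻¹ᵁ U.1 ⊓ i ⁻¹ᵁ V.1) (fun W => homOfLE (le_inf (i.preimage_mono (W.2.trans inf_le_left))
            (i.preimage_mono (W.2.trans inf_le_right)))) (hcover (U.1 ⊓ V.1))
        intro W
        change (X₀.presheaf.map _ ≫ X₀.presheaf.map _) _ = (X₀.presheaf.map _ ≫ X₀.presheaf.map _) _
        rw [← Functor.map_comp, ← Functor.map_comp]
        exact (hcompat U W.1 (W.2.trans inf_le_left)).trans (hcompat V W.1 (W.2.trans inf_le_right)).symm)
    obtain ⟨a0, ha0⟩ := h0.2 y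
    obtain ⟨a, rfl⟩ := Ideal.Quotient.mk_surjective a0
    refine ⟨c + a * t, fun U => ?_⟩
    have h1 : i.app U.1 (b U - scalar g U.1 a) = 0 := by
      rw [map_sub, app_scalar i f₀ hsq, ← hy U, ← ha0, sub_eq_zero]
      exact map_scalar f₀ le_top _
    rw [app_eq_zero_iff i f₀ hsq U.2] at h1
    have h2 : scalar g U.1 t * (b U - scalar g U.1 a) ∈ J.map (scalar g U.1) := by
      have hle : Ideal.span {scalar g U.1 t} * (maximalIdeal C).map (scalar g U.1) ≤ J.map (scalar g U.1) := by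
        rw [← Set.image_singleton, ← Ideal.map_span, ← Ideal.map_mul]
        refine Ideal.map_mono (Ideal.mul_le.mpr fun r hr s hs => ?_)
        obtain ⟨d, rfl⟩ := Ideal.mem_span_singleton'.mp hr
        rw [mul_assoc, mul_comm t]
        exact J.mul_mem_left _ (hmt s hs)
      exact hle (Ideal.mul_mem_mul (Ideal.mem_span_singleton_self _) h1)
    have := add_mem (hb U) h2
    convert this using 1
    rw [map_add, map_mul]
    ring
  · have h1 := ihI c fun U => Ideal.map_mono le_sup_left (hc U)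
    obtain ⟨j, hj, z, hz, rfl⟩ := Submodule.mem_sup.mp h1
    obtain ⟨a, rfl⟩ := Ideal.mem_span_singleton'.mp hz
    have ha : scalar f₀ ⊤ (Ideal.Quotient.mk (maximalIdeal C) a) = 0 := by
      apply X₀.sheaf.eq_of_locally_eq' (fun U : X.affineOpens => i ⁻¹ᵁ U.1) ⊤ (fun U => homOfLE le_top)
        (fun x _ => by
          obtain ⟨U, hU⟩ := Opens.mem_iSup.mp (hcover ⊤ (show x ∈ i ⁻¹ᵁ ⊤ from trivial))
          exact Opens.mem_iSup.mpr ⟨U.1, hU⟩)
      intro U
      change X₀.presheaf.map (homOfLE le_top).op _ = X₀.presheaf.map (homOfLE le_top).op _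
      rw [map_scalar, map_zero, ← app_scalar i f₀ hsq]
      apply hmem U
      have h2 := sub_mem (hc U) (Ideal.mem_map_of_mem (scalar g U.1) hj)
      rw [map_add, add_sub_cancel_left, map_mul] at h2
      rwa [mul_comm]
    refine add_mem hj (hmt a (Ideal.Quotient.eq_zero_iff_mem.mp (h0.1 ?_)))
    rw [ha, map_zero]

/-- The functions on `X` are the scalars. -/
theorem bijective_scalar [IsArtinianRing C] [Flat g]
    (h0 : Function.Bijective (scalar f₀ (⊤ : X₀.Opens))) : Function.Bijective (scalar g (⊤ : X.Opens)) := by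
  obtain ⟨hE, hI⟩ := compatible_family i f₀ hsq h0 (⊥ : Ideal C)
  have hcov : (⊤ : X.Opens) ≤ ⨆ U : X.affineOpens, U.1 := fun x _ => by
    obtain ⟨_, ⟨U, hU, rfl⟩, hxU, -⟩ := X.isBasis_affineOpens.exists_subset_of_mem_open
      (show x ∈ (Set.univ : Set X) from trivial) isOpen_univ
    exact Opens.mem_iSup.mpr ⟨⟨U, hU⟩, hxU⟩
  refine ⟨(injective_iff_map_eq_zero _).mpr fun c hc => ?_, fun y => ?_⟩
  · refine Ideal.mem_bot.mp (hI c fun U => ?_)
    rw [← map_scalar g (le_top : U.1 ≤ ⊤), hc, map_zero]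
    exact zero_mem _
  · obtain ⟨c, hc⟩ := hE (fun U => X.presheaf.map (homOfLE le_top).op y) fun U V h => by
      rw [Ideal.map_bot, Ideal.mem_bot, sub_eq_zero]
      change (X.presheaf.map _ ≫ X.presheaf.map _) y = _
      rw [← Functor.map_comp]
      rfl
    refine ⟨c, X.sheaf.eq_of_locally_eq' (fun U : X.affineOpens => U.1) ⊤ (fun U => homOfLE le_top) hcov _ _
      fun U => ?_⟩
    change X.presheaf.map (homOfLE le_top).op _ = X.presheaf.map (homOfLE le_top).op y
    have := hc U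
    rw [Ideal.map_bot, Ideal.mem_bot, sub_eq_zero] at this
    rw [map_scalar, this]

end Groth.Agent.H24Def
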