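import Groth.Agent.H24Def.Rigid
import Groth.Agent.H24Def.Dual
import Mathlib.RingTheory.Smooth.Basic
import Mathlib.Algebra.Category.Ring.Constructions
import Mathlib.Tactic

/-! Triviality of first order deformations of smooth algebras with marked rational points. -/

set_option autoImplicit false
set_option linter.style.haveILetI false

universe u v

open TensorProduct DualNumber ArtFun ArtFun.Art CategoryTheory

noncomputable section

namespace Groth.Agent.H24Def

variable {k : Type u} [Field k] {B₀ : Type u} [CommRing B₀] [Algebra k B₀]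

/-- Distinct rational points separate: the evaluation map to `ι → k` is surjective. -/
theorem surjective_pi_of_injective {ι : Type v} [Finite ι] (q : ι → (B₀ →ₐ[k] k))
    (hq : Function.Injective q) : Function.Surjective (fun a i => q i a : B₀ → ι → k) := by
  classical
  letI := Fintype.ofFinite ι
  have hsep : ∀ i j, j ≠ i → ∃ a, q i a = 1 ∧ q j a = 0 := fun i j hji => by
    obtain ⟨a, ha⟩ : ∃ a, q i a ≠ q j a := by
      by_contra h
      push_neg at h
      exact hji (hq (AlgHom.ext fun a => (h a).symm))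
    exact ⟨(q i a - q j a)⁻¹ • (a - algebraMap k B₀ (q j a)),
      by simp [inv_mul_cancel₀ (sub_ne_zero.mpr ha)], by simp⟩
  choose b hb1 hb0 using hsep
  let bb : ι → ι → B₀ := fun i j => if h : j ≠ i then b i j h else 1
  intro f
  refine ⟨∑ i, f i • ∏ j ∈ Finset.univ.erase i, bb i j, funext fun l => ?_⟩
  change q l _ = f l
  rw [map_sum, Finset.sum_eq_single l]
  · rw [map_smul, map_prod, Finset.prod_eq_one (fun j hj => ?_), smul_eq_mul, mul_one]
    simp [bb, (Finset.mem_erase.mp hj).1, hb1]
  · intro i _ hil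
    rw [map_smul, map_prod, Finset.prod_eq_zero (Finset.mem_erase.mpr ⟨hil.symm, Finset.mem_univ l⟩)
      (by simp [bb, hil.symm, hb0]), smul_zero]
  · exact fun h => absurd (Finset.mem_univ l) h

namespace AlgDef

/-- A first order deformation of a formally smooth algebra has a section of the reduction which is constant at
finitely many distinct marked rational points. -/
theorem exists_section_marked [Algebra.FormallySmooth k B₀] (D : AlgDef B₀ (dual k k : Art k k))
    {ι : Type v} [Finite ι] (q : ι → (B₀ →ₐ[k] k)) (hq : Function.Injective q)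
    (σ : ι → (D.B →+* DualNumber k))
    (hσA : ∀ j (a : DualNumber k), σ j (algebraMap (dual k k : Art k k) D.B a) = a)
    (hσπ : ∀ j (b : D.B), (σ j b).fst = q j (D.π b)) :
    ∃ s : B₀ →+* D.B, (∀ z, D.π (s z) = z) ∧
      (∀ c : k, s (algebraMap k B₀ c) =
        algebraMap (dual k k : Art k k) D.B (algebraMap k (dual k k : Art k k) c)) ∧
      ∀ j z, σ j (s z) = algebraMap k (DualNumber k) (q j z) := by
  letI : Algebra k D.B :=
    ((algebraMap (dual k k : Art k k) D.B).comp (algebraMap k (dual k k : Art k k))).toAlgebra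
  let π' : D.B →ₐ[k] B₀ :=
    { D.π with
      commutes' := fun c => (D.π_algebraMap _).trans (congrArg _ (res_algebraMap (A := (dual k k : Art k k)) c)) }
  let σ' : ι → (D.B →ₐ[k] DualNumber k) := fun j => { σ j with commutes' := fun c => hσA j _ }
  let Φ : D.B →ₐ[k] B₀ × (ι → DualNumber k) := π'.prod (Pi.algHom k _ σ')
  let t : B₀ →ₐ[k] B₀ × (ι → DualNumber k) :=
    (AlgHom.id k B₀).prod (Pi.algHom k _ fun j => (Algebra.ofId k (DualNumber k)).comp (q j))
  have ht : ∀ a, t a ∈ Φ.range := by
    intro a
    obtain ⟨b, hb⟩ := D.π_surjective a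
    obtain ⟨c, hc⟩ := surjective_pi_of_injective q hq fun j => -(σ j b).snd
    obtain ⟨d, hd⟩ := D.π_surjective c
    refine ⟨b + D.epsB * d, ?_⟩
    apply Prod.ext
    · show D.π (b + D.epsB * d) = a
      rw [map_add, map_mul, (D.π_eq_zero_iff D.epsB).mpr ⟨1, (one_mul _).symm⟩, zero_mul, add_zero, hb]
    · funext j
      show σ j (b + D.epsB * d) = algebraMap k (DualNumber k) (q j a)
      have h1 : σ j D.epsB = DualNumber.eps := hσA j _
      have h2 : q j c = -(σ j b).snd := congrFun hc j
      rw [map_add, map_mul, h1]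
      refine TrivSqZeroExt.ext ?_ ?_
      · simp [hσπ, hb, TrivSqZeroExt.algebraMap_eq_inl']
      · simp [hσπ, hd, h2, TrivSqZeroExt.algebraMap_eq_inl']
  let t' : B₀ →ₐ[k] Φ.range := t.codRestrict Φ.range ht
  have hker : IsNilpotent (RingHom.ker (Φ.rangeRestrict : D.B →+* Φ.range)) := by
    refine ⟨2, ?_⟩
    rw [pow_two, Ideal.zero_eq_bot, eq_bot_iff, Ideal.mul_le]
    intro x hx y hy
    have h0 : ∀ z ∈ RingHom.ker (Φ.rangeRestrict : D.B →+* Φ.range), ∃ c, z = c * D.epsB := fun z hz =>
      (D.π_eq_zero_iff z).mp (congrArg (fun w : Φ.range => (w : B₀ × (ι → DualNumber k)).1) (RingHom.mem_ker.mp hz))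
    obtain ⟨c, rfl⟩ := h0 x hx
    obtain ⟨d, rfl⟩ := h0 y hy
    rw [Submodule.mem_bot, mul_mul_mul_comm, D.epsB_mul_self, mul_zero]
  let s := Algebra.FormallySmooth.liftOfSurjective t' Φ.rangeRestrict Φ.rangeRestrict_surjective hker
  have hs : ∀ z, Φ (s z) = t z := fun z =>
    congrArg Subtype.val (Algebra.FormallySmooth.liftOfSurjective_apply t' Φ.rangeRestrict
      Φ.rangeRestrict_surjective hker z)
  refine ⟨s.toRingHom, fun z => congrArg Prod.fst (hs z), fun c => s.commutes c, fun j z => ?_⟩
  exact congrFun (congrArg Prod.snd (hs z)) j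

/-- A section exhibits the deformation as the product with `Spec A`. -/
theorem isPullback_of_section {A : Art k k} (D : AlgDef B₀ A) (s : B₀ →+* D.B) (hs : ∀ z, D.π (s z) = z)
    (hc : ∀ c : k, s (algebraMap k B₀ c) = algebraMap A D.B (algebraMap k A c)) :
    IsPullback (AlgebraicGeometry.Spec.map (CommRingCat.ofHom s))
      (AlgebraicGeometry.Spec.map (CommRingCat.ofHom (algebraMap A D.B)))
      (AlgebraicGeometry.Spec.map (CommRingCat.ofHom (algebraMap k B₀)))
      (AlgebraicGeometry.Spec.map (CommRingCat.ofHom (algebraMap k A))) := by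
  obtain ⟨e, -, he⟩ := D.exists_equiv_of_section s hs hc
  apply AlgebraicGeometry.isPullback_SpecMap_of_isPushout
  refine (CommRingCat.isPushout_tensorProduct k A B₀).flip.of_iso (Iso.refl _) (Iso.refl _) (Iso.refl _)
    e.toRingEquiv.toCommRingCatIso ?_ ?_ ?_ ?_
  · simp
  · simp
  · ext z
    show e (1 ⊗ₜ z) = s z
    rw [he, map_one, one_mul]
  · ext a
    show e (a ⊗ₜ 1) = algebraMap A D.B a
    rw [he, map_one, mul_one]

end AlgDef

end Groth.Agent.H24Def
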