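import Groth.Agent.H24Def.Affine
import Groth.Agent.H3CAlg.ArtinFlat
import Groth.Prelude.Def_Exal
import Mathlib.RingTheory.Flat.Stability
import Mathlib.RingTheory.HopkinsLevitzki

/-!
Triviality of deformations of rigid algebras.
-/

universe u

open TensorProduct ArtFun ArtFun.Art IsLocalRing AlgebraicGeometry

set_option linter.style.haveILetI false

noncomputable section

namespace Groth.Agent.H24Def

variable {k : Type u} [Field k] {B₀ : Type u} [CommRing B₀] [Algebra k B₀] {A : Art k k}

theorem res_algebraMap (c : k) : A.res (algebraMap k A c) = c := A.res.commutes c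

theorem sub_res_mem (a : A) : a - algebraMap k A (A.res a) ∈ maximalIdeal A := by
  rw [Art.mem_maximalIdeal_iff, map_sub, res_algebraMap, sub_self]

variable (k B₀ A) in
/-- The reduction of the trivial deformation. -/
def trivπ : A ⊗[k] B₀ →ₐ[k] B₀ :=
  (Algebra.TensorProduct.lid k B₀).toAlgHom.comp (Algebra.TensorProduct.map A.res (AlgHom.id k B₀))

theorem trivπ_tmul (a : A) (z : B₀) : trivπ k B₀ A (a ⊗ₜ z) = A.res a • z := rfl

theorem exists_decomp (x : A ⊗[k] B₀) :
    ∃ y, x - (1 : A) ⊗ₜ[k] y ∈ (maximalIdeal A).map (algebraMap A (A ⊗[k] B₀)) := by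
  induction x using TensorProduct.induction_on with
  | zero => exact ⟨0, by rw [TensorProduct.tmul_zero, sub_self]; exact zero_mem _⟩
  | add x y hx hy =>
    obtain ⟨a, ha⟩ := hx
    obtain ⟨b, hb⟩ := hy
    exact ⟨a + b, by rw [TensorProduct.tmul_add, add_sub_add_comm]; exact add_mem ha hb⟩
  | tmul a z =>
    refine ⟨A.res a • z, ?_⟩
    rw [TensorProduct.tmul_smul, TensorProduct.smul_tmul', ← Algebra.algebraMap_eq_smul_one, ← TensorProduct.sub_tmul]
    have h := Ideal.mul_mem_right ((1 : A) ⊗ₜ[k] z) _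
      (Ideal.mem_map_of_mem (algebraMap A (A ⊗[k] B₀)) (sub_res_mem a))
    rwa [Algebra.TensorProduct.algebraMap_apply, Algebra.algebraMap_self, RingHom.id_apply,
      Algebra.TensorProduct.tmul_mul_tmul, mul_one, one_mul] at h

variable (k B₀ A) in
/-- The trivial deformation as an algebra. -/
def trivAlg : AlgDef B₀ A where
  B := A ⊗[k] B₀
  flat := inferInstance
  π := (trivπ k B₀ A).toRingHom
  π_algebraMap a := by
    rw [Algebra.TensorProduct.algebraMap_apply]
    refine (trivπ_tmul _ _).trans ?_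
    rw [Algebra.algebraMap_self, RingHom.id_apply, ← Algebra.algebraMap_eq_smul_one]
  π_surjective z := ⟨(1 : A) ⊗ₜ z, (trivπ_tmul _ _).trans (by rw [map_one, one_smul])⟩
  ker_π := by
    refine le_antisymm (fun x hx => ?_) (Ideal.map_le_iff_le_comap.mpr fun a ha => ?_)
    · obtain ⟨y, hy⟩ := exists_decomp x
      have hle : (maximalIdeal A).map (algebraMap A (A ⊗[k] B₀)) ≤ RingHom.ker (trivπ k B₀ A).toRingHom :=
        Ideal.map_le_iff_le_comap.mpr fun a ha => by
          rw [Ideal.mem_comap, RingHom.mem_ker, Algebra.TensorProduct.algebraMap_apply]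
          refine (trivπ_tmul _ _).trans ?_
          rw [Algebra.algebraMap_self, RingHom.id_apply, (A.mem_maximalIdeal_iff a).mp ha, zero_smul]
      have h0 := hle hy
      rw [RingHom.mem_ker, map_sub, RingHom.mem_ker.mp hx, zero_sub, neg_eq_zero] at h0
      have : y = 0 := by
        refine Eq.trans ?_ h0
        change y = trivπ k B₀ A (1 ⊗ₜ y)
        rw [trivπ_tmul, map_one, one_smul]
      rwa [this, TensorProduct.tmul_zero, sub_zero] at hy
    · rw [Ideal.mem_comap, RingHom.mem_ker, Algebra.TensorProduct.algebraMap_apply]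
      refine (trivπ_tmul _ _).trans ?_
      rw [Algebra.algebraMap_self, RingHom.id_apply, (A.mem_maximalIdeal_iff a).mp ha, zero_smul]

namespace AlgDef

variable (D : AlgDef B₀ A)

theorem map_one_tmul_eq_zero {b : D.B} (hb : D.π b = 0) :
    (1 : A ⧸ maximalIdeal A) ⊗ₜ[A] b = 0 := by
  have hb' : b ∈ (maximalIdeal A).map (algebraMap A D.B) := by rw [← D.ker_π]; exact hb
  refine Submodule.span_induction (p := fun x _ => (1 : A ⧸ maximalIdeal A) ⊗ₜ[A] x = 0) ?_ ?_ ?_ ?_
    (show b ∈ Submodule.span D.B (algebraMap A D.B '' (maximalIdeal A : Set A)) from hb')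
  · rintro _ ⟨a, ha, rfl⟩
    rw [Algebra.algebraMap_eq_smul_one, TensorProduct.tmul_smul, TensorProduct.smul_tmul', Algebra.smul_def, mul_one,
      Ideal.Quotient.algebraMap_eq, Ideal.Quotient.eq_zero_iff_mem.mpr ha, TensorProduct.zero_tmul]
  · exact TensorProduct.tmul_zero _ _
  · intro x y _ _ hx hy; rw [TensorProduct.tmul_add, hx, hy, add_zero]
  · intro c x _ hx
    have h := congrArg (LinearMap.lTensor (A ⧸ maximalIdeal A) (LinearMap.mulLeft A c)) hx
    rwa [map_zero, LinearMap.lTensor_tmul, LinearMap.mulLeft_apply] at h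

/-- A section of the reduction gives an isomorphism with the trivial deformation. -/
theorem exists_equiv_of_section (s : B₀ →+* D.B) (hs : ∀ z, D.π (s z) = z)
    (hc : ∀ c : k, s (algebraMap k B₀ c) = algebraMap A D.B (algebraMap k A c)) :
    ∃ e : (A ⊗[k] B₀) ≃ₐ[A] D.B,
      (∀ x, D.π (e x) = trivπ k B₀ A x) ∧ ∀ a z, e (a ⊗ₜ z) = algebraMap A D.B a * s z := by
  letI : Algebra k D.B := ((algebraMap A D.B).comp (algebraMap k A)).toAlgebra
  haveI : IsScalarTower k A D.B := IsScalarTower.of_algebraMap_eq fun _ => rfl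
  let s' : B₀ →ₐ[k] D.B := { s with commutes' := hc }
  let φ : A ⊗[k] B₀ →ₐ[A] D.B := Algebra.TensorProduct.lift (Algebra.ofId A D.B) s' fun _ _ => Commute.all _ _
  have hφ : ∀ a z, φ (a ⊗ₜ z) = algebraMap A D.B a * s z := fun a z => Algebra.TensorProduct.lift_tmul _ _ _ a z
  have hπ : ∀ x, D.π (φ x) = trivπ k B₀ A x := fun x => by
    induction x using TensorProduct.induction_on with
    | zero => rw [map_zero, map_zero, map_zero]
    | add x y hx hy => rw [map_add, map_add, map_add, hx, hy]
    | tmul a z => rw [hφ, map_mul, D.π_algebraMap, hs, trivπ_tmul, Algebra.smul_def]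
  have hm : IsNilpotent (maximalIdeal A) := Groth.Agent.H3CAlg.isNilpotent_maximalIdeal
  haveI := D.flat
  have hsurj : Function.Surjective φ := by
    refine Groth.Agent.H3CAlg.surjective_of_lTensor_quot (maximalIdeal A) hm φ.toLinearMap ?_
    intro z
    induction z using TensorProduct.induction_on with
    | zero => exact ⟨0, map_zero _⟩
    | add x y hx hy =>
      obtain ⟨a, rfl⟩ := hx
      obtain ⟨b, rfl⟩ := hy
      exact ⟨a + b, map_add _ _ _⟩
    | tmul c b =>
      refine ⟨c ⊗ₜ ((1 : A) ⊗ₜ D.π b), ?_⟩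
      rw [LinearMap.lTensor_tmul, AlgHom.toLinearMap_apply, hφ, map_one, one_mul]
      obtain ⟨c', rfl⟩ := Ideal.Quotient.mk_surjective c
      have h1 : ∀ x : D.B, Ideal.Quotient.mk (maximalIdeal A) c' ⊗ₜ[A] x = c' • ((1 : A ⧸ maximalIdeal A) ⊗ₜ[A] x) :=
        fun x => by rw [TensorProduct.smul_tmul', Algebra.smul_def, mul_one, Ideal.Quotient.algebraMap_eq]
      rw [h1, h1]
      refine congrArg (fun w => c' • w) ?_
      rw [← sub_eq_zero, ← TensorProduct.tmul_sub]
      exact D.map_one_tmul_eq_zero (by rw [map_sub, hs, sub_self])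
  have hinj : Function.Injective φ := by
    refine Groth.Agent.H3CAlg.injective_of_surjective_of_lTensor_quot (maximalIdeal A) hm φ.toLinearMap hsurj ?_
    have hall : ∀ z : (A ⧸ maximalIdeal A) ⊗[A] (A ⊗[k] B₀), ∃ y : B₀, z = 1 ⊗ₜ ((1 : A) ⊗ₜ y) := fun z => by
      obtain ⟨x, rfl⟩ := TensorProduct.mk_surjective A (A ⊗[k] B₀) (A ⧸ maximalIdeal A) Ideal.Quotient.mk_surjective z
      obtain ⟨y, hy⟩ := exists_decomp x
      refine ⟨y, ?_⟩
      rw [TensorProduct.mk_apply, ← sub_eq_zero, ← TensorProduct.tmul_sub]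
      exact (trivAlg k B₀ A).map_one_tmul_eq_zero (RingHom.mem_ker.mp ((trivAlg k B₀ A).ker_π.ge hy))
    let ev : (A ⧸ maximalIdeal A) ⊗[A] D.B →+ B₀ :=
      TensorProduct.liftAddHom
        { toFun := fun c =>
            { toFun := fun b => algebraMap k B₀ (Ideal.Quotient.lift (maximalIdeal A) A.res.toRingHom
                (fun a ha => (A.mem_maximalIdeal_iff a).mp ha) c) * D.π b
              map_zero' := by rw [map_zero, mul_zero]
              map_add' := fun x y => by rw [map_add, mul_add] }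
          map_zero' := AddMonoidHom.ext fun b => by
            change algebraMap k B₀ _ * D.π b = 0
            rw [map_zero, map_zero, zero_mul]
          map_add' := fun c c' => AddMonoidHom.ext fun b => by
            change algebraMap k B₀ _ * D.π b = algebraMap k B₀ _ * D.π b + algebraMap k B₀ _ * D.π b
            rw [map_add, map_add, add_mul] }
        fun r c b => by
          change algebraMap k B₀ _ * D.π b = algebraMap k B₀ _ * D.π (r • b)
          rw [Algebra.smul_def, Algebra.smul_def, map_mul, map_mul, map_mul, D.π_algebraMap,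
            Ideal.Quotient.algebraMap_eq, Ideal.Quotient.lift_mk]
          simp only [AlgHom.toRingHom_eq_coe, RingHom.coe_coe]
          ring
    refine (injective_iff_map_eq_zero _).mpr fun z hz => ?_
    obtain ⟨y, rfl⟩ := hall z
    rw [LinearMap.lTensor_tmul, AlgHom.toLinearMap_apply, hφ, map_one, one_mul] at hz
    have h2 := congrArg ev hz
    rw [map_zero] at h2
    have h3 : ev ((1 : A ⧸ maximalIdeal A) ⊗ₜ[A] s y) = y := by
      change algebraMap k B₀ (Ideal.Quotient.lift (maximalIdeal A) _ _ 1) * D.π (s y) = y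
      rw [map_one, map_one, one_mul, hs]
    rw [show y = 0 from h3.symm.trans h2, TensorProduct.tmul_zero, TensorProduct.tmul_zero]
  exact ⟨AlgEquiv.ofBijective φ ⟨hinj, hsurj⟩, hπ, hφ⟩

/-- A section of the reduction trivializes a deformation. -/
theorem rel_trivAlg_of_section (s : B₀ →+* D.B) (hs : ∀ z, D.π (s z) = z)
    (hc : ∀ c : k, s (algebraMap k B₀ c) = algebraMap A D.B (algebraMap k A c)) : Rel (trivAlg k B₀ A) D :=
  let ⟨e, he, _⟩ := D.exists_equiv_of_section s hs hc
  ⟨e, he⟩

/-- In a flat deformation, `b t ∈ J' B` forces `b` into the maximal ideal, if `t` spans a simple quotient. -/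
theorem π_eq_zero_of_mul_mem {J' : Ideal A} {t : A} (htJ : ∀ a, a * t ∈ J' ↔ a ∈ maximalIdeal A) {b : D.B}
    (hb : algebraMap A D.B t * b ∈ J'.map (algebraMap A D.B)) : D.π b = 0 := by
  haveI := D.flat
  let f : A →ₗ[A] A ⧸ J' := (LinearMap.toSpanSingleton A (A ⧸ J') (Ideal.Quotient.mk J' t))
  have hf : Function.Exact (Submodule.subtype (maximalIdeal A)) f := fun a => by
    change a • Ideal.Quotient.mk J' t = 0 ↔ _
    rw [Algebra.smul_def, Ideal.Quotient.algebraMap_eq, ← map_mul, Ideal.Quotient.eq_zero_iff_mem, htJ]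
    exact ⟨fun h => ⟨⟨a, h⟩, rfl⟩, fun ⟨x, hx⟩ => hx ▸ x.2⟩
  have h := Module.Flat.lTensor_exact D.B hf (b ⊗ₜ[A] (1 : A))
  have h0 : LinearMap.lTensor D.B f (b ⊗ₜ[A] (1 : A)) = 0 := by
    rw [LinearMap.lTensor_tmul, LinearMap.toSpanSingleton_apply, one_smul]
    refine (TensorProduct.tensorQuotEquivQuotSMul D.B J').injective ?_
    rw [map_zero]
    refine ((TensorProduct.tensorQuotEquivQuotSMul_tmul_mk J' b t)).trans ?_
    rw [Submodule.Quotient.mk_eq_zero, Ideal.smul_top_eq_map, Submodule.restrictScalars_mem, Algebra.smul_def]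
    exact hb
  obtain ⟨z, hz⟩ := h.mp h0
  have key : ∀ z, D.π (TensorProduct.rid A D.B (LinearMap.lTensor D.B (Submodule.subtype (maximalIdeal A)) z)) = 0 := by
    intro z
    induction z using TensorProduct.induction_on with
    | zero => rw [map_zero, map_zero, map_zero]
    | add x y hx hy => rw [map_add, map_add, map_add, hx, hy, add_zero]
    | tmul x a =>
      rw [LinearMap.lTensor_tmul, TensorProduct.rid_tmul, Algebra.smul_def, map_mul, D.π_algebraMap,
        Submodule.subtype_apply, (A.mem_maximalIdeal_iff _).mp a.2, map_zero, zero_mul]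
  have := key z
  rwa [hz, TensorProduct.rid_tmul, one_smul] at this

/-- Rigidity: if all extensions of `B₀` by itself are trivial, deformations are trivial. -/
theorem rel_trivAlg_of_forall_isTrivial (hT : ∀ E : Exal.Ext k B₀ B₀, E.IsTrivial) : Rel (trivAlg k B₀ A) D := by
  classical
  letI : Algebra k D.B := ((algebraMap A D.B).comp (algebraMap k A)).toAlgebra
  haveI : IsScalarTower k A D.B := IsScalarTower.of_algebraMap_eq fun _ => rfl
  let Ok : Ideal A → Prop := fun J => J ≤ maximalIdeal A ∧
    ∃ s : B₀ →ₐ[k] D.B ⧸ J.map (algebraMap A D.B), ∀ z b, s z = Ideal.Quotient.mk _ b → D.π b = z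
  have hJB : ∀ {J : Ideal A}, J ≤ maximalIdeal A → J.map (algebraMap A D.B) ≤ RingHom.ker D.π := fun h => by
    rw [D.ker_π]; exact Ideal.map_mono h
  have hcomm : ∀ c : k, D.π (algebraMap k D.B c) = algebraMap k B₀ c := fun c => by
    change D.π (algebraMap A D.B (algebraMap k A c)) = _
    rw [D.π_algebraMap, res_algebraMap]
  let πk : D.B →ₐ[k] B₀ := { D.π with commutes' := hcomm }
  have hm : Ok (maximalIdeal A) := by
    refine ⟨le_rfl, ?_⟩
    let q : (D.B ⧸ (maximalIdeal A).map (algebraMap A D.B)) →ₐ[k] B₀ :=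
      Ideal.Quotient.liftₐ _ πk fun b hb => RingHom.mem_ker.mp (hJB le_rfl hb)
    have hq : Function.Bijective q := by
      refine ⟨(injective_iff_map_eq_zero q).mpr fun x hx => ?_, fun z => ?_⟩
      · obtain ⟨b, rfl⟩ := Ideal.Quotient.mk_surjective x
        rw [Ideal.Quotient.eq_zero_iff_mem, ← D.ker_π]
        exact hx
      · obtain ⟨b, hb⟩ := D.π_surjective z
        exact ⟨Ideal.Quotient.mk _ b, hb⟩
    refine ⟨(AlgEquiv.ofBijective q hq).symm.toAlgHom, fun z b h => ?_⟩
    have := congrArg q h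
    exact this.symm.trans ((AlgEquiv.ofBijective q hq).apply_symm_apply z)
  obtain ⟨J, hJ, hmin⟩ := (IsWellFounded.wf : WellFounded (α := Ideal A) (· < ·)).has_min {J | Ok J} ⟨_, hm⟩
  obtain ⟨hJm, s, hs⟩ := hJ
  by_cases hJ0 : J = ⊥
  · subst hJ0
    let e : (D.B ⧸ (⊥ : Ideal A).map (algebraMap A D.B)) ≃+* D.B :=
      (Ideal.quotEquivOfEq Ideal.map_bot).trans (RingEquiv.quotientBot D.B)
    have he : ∀ b, e (Ideal.Quotient.mk _ b) = b := fun b => rfl
    refine rel_trivAlg_of_section D (e.toRingHom.comp s.toRingHom) (fun z => ?_) fun c => ?_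
    · obtain ⟨b, hb⟩ := Ideal.Quotient.mk_surjective (s z)
      change D.π (e (s z)) = z
      rw [← hb, he, hs z b hb.symm]
    · change e (s (algebraMap k B₀ c)) = _
      rw [AlgHom.commutes]
      exact he _
  · exfalso
    have hmJ : maximalIdeal A * J ≠ J := fun h => hJ0 (by
      obtain ⟨n, hn⟩ := (Groth.Agent.H3CAlg.isNilpotent_maximalIdeal : IsNilpotent (maximalIdeal A))
      have h2 : ∀ n, maximalIdeal A ^ n * J = J := fun n => by
        induction n with
        | zero => rw [pow_zero, one_mul]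
        | succ n ih => rw [pow_succ, mul_assoc, h, ih]
      rw [← h2 n, hn, zero_mul]
      rfl)
    obtain ⟨J', ⟨hJ'1, hJ'2⟩, hJ'max⟩ := ((isNoetherian_iff' (R := A) (M := A)).mp (inferInstance : IsNoetherianRing A)).wf.has_min
      {J' | maximalIdeal A * J ≤ J' ∧ J' < J}
      ⟨maximalIdeal A * J, le_rfl, lt_of_le_of_ne Ideal.mul_le_right hmJ⟩
    obtain ⟨t, htJ, htJ'⟩ := SetLike.exists_of_lt hJ'2
    have hsup : J' ⊔ Ideal.span {t} = J := by
      have hle : J' ⊔ Ideal.span {t} ≤ J := sup_le hJ'2.le ((Ideal.span_singleton_le_iff_mem J).mpr htJ)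
      by_contra hne
      refine hJ'max _ ⟨le_trans hJ'1 le_sup_left, lt_of_le_of_ne hle hne⟩
        (lt_of_le_of_ne le_sup_left fun h => htJ' ?_)
      rw [h]
      exact Ideal.mem_sup_right (Ideal.mem_span_singleton_self t)
    have hann : ∀ a, a * t ∈ J' ↔ a ∈ maximalIdeal A := fun a => by
      refine ⟨fun h => ?_, fun h => hJ'1 (Ideal.mul_mem_mul h htJ)⟩
      by_contra hne
      rw [mem_maximalIdeal, mem_nonunits_iff, not_not] at hne
      exact htJ' ((Ideal.unit_mul_mem_iff_mem J' hne).mp h)
    let I' := Ideal.map (algebraMap A D.B) J'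
    let ρ : (D.B ⧸ I') →ₐ[k] D.B ⧸ J.map (algebraMap A D.B) :=
      Ideal.Quotient.factorₐ k (Ideal.map_mono hJ'2.le)
    let q : (D.B ⧸ I') →ₐ[k] B₀ :=
      Ideal.Quotient.liftₐ _ πk fun b hb => RingHom.mem_ker.mp (hJB (hJ'2.le.trans hJm) hb)
    let E : Subalgebra k (D.B ⧸ I') := s.range.comap ρ
    have hmulmem : ∀ b, D.π b = 0 → algebraMap A D.B t * b ∈ I' := fun b hb => by
      have hb' : b ∈ (maximalIdeal A).map (algebraMap A D.B) := by rw [← D.ker_π]; exact hb
      have h1 : (algebraMap A D.B t) * b ∈ (Ideal.span {t}).map (algebraMap A D.B) * (maximalIdeal A).map (algebraMap A D.B) :=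
        Ideal.mul_mem_mul (Ideal.mem_map_of_mem _ (Ideal.mem_span_singleton_self t)) hb'
      rw [← Ideal.map_mul] at h1
      refine Ideal.map_mono ?_ h1
      rw [mul_comm]
      exact (Ideal.mul_mono_right ((Ideal.span_singleton_le_iff_mem J).mpr htJ)).trans hJ'1
    have hρt : ∀ b, ρ (Ideal.Quotient.mk I' (algebraMap A D.B t * b)) = 0 := fun b =>
      Ideal.Quotient.eq_zero_iff_mem.mpr (Ideal.mul_mem_right _ _ (Ideal.mem_map_of_mem _ htJ))
    let sec := Function.surjInv D.π_surjective
    have hsec : ∀ z, D.π (sec z) = z := Function.surjInv_eq _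
    let f : B₀ → D.B ⧸ I' := fun z => Ideal.Quotient.mk I' (algebraMap A D.B t * sec z)
    have hf : ∀ b, f (D.π b) = Ideal.Quotient.mk I' (algebraMap A D.B t * b) := fun b =>
      Ideal.Quotient.eq.mpr (by rw [← mul_sub]; exact hmulmem _ (by rw [map_sub, hsec, sub_self]))
    let incl : B₀ →+ E := AddMonoidHom.mk' (fun z => ⟨f z, ⟨0, by rw [map_zero]; exact (hρt _).symm⟩⟩) fun a b =>
      Subtype.ext (by
        change f (a + b) = f a + f b
        rw [show a + b = D.π (sec a + sec b) by rw [map_add, hsec, hsec], hf, mul_add, map_add])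
    let X : Exal.Ext k B₀ B₀ :=
      { E := E
        proj := q.comp E.val
        incl := incl
        isExtension :=
          { proj_surjective := fun z => by
              obtain ⟨b, hb⟩ := Ideal.Quotient.mk_surjective (s z)
              exact ⟨⟨Ideal.Quotient.mk I' b, ⟨z, hb.symm⟩⟩, hs z b hb.symm⟩
            incl_injective := (injective_iff_map_eq_zero incl).mpr fun z hz => by
              rw [← hsec z]
              exact D.π_eq_zero_of_mul_mem hann (Ideal.Quotient.eq_zero_iff_mem.mp (congrArg Subtype.val hz))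
            exact := fun x => by
              constructor
              · intro hx
                obtain ⟨x, y, hy⟩ := x
                obtain ⟨b, rfl⟩ := Ideal.Quotient.mk_surjective x
                have hb : D.π b = 0 := hx
                have hy0 : y = 0 := (hs y b hy).symm.trans hb
                rw [hy0, map_zero] at hy
                have hbJ : b ∈ J.map (algebraMap A D.B) := Ideal.Quotient.eq_zero_iff_mem.mp hy.symm
                rw [← hsup, Ideal.map_sup, Ideal.map_span, Set.image_singleton, Submodule.mem_sup] at hbJ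
                obtain ⟨u, hu, v, hv, rfl⟩ := hbJ
                obtain ⟨c, rfl⟩ := Ideal.mem_span_singleton'.mp hv
                refine ⟨D.π c, Subtype.ext ((hf c).trans (Ideal.Quotient.eq.mpr ?_))⟩
                rw [mul_comm c, sub_add_eq_sub_sub_swap, sub_self, zero_sub]
                exact neg_mem hu
              · rintro ⟨z, rfl⟩
                change D.π (algebraMap A D.B t * sec z) = 0
                rw [map_mul, D.π_algebraMap, (A.mem_maximalIdeal_iff t).mp (hJm htJ), map_zero, zero_mul]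
            mul_incl := fun x z => Subtype.ext (by
              obtain ⟨x, hx⟩ := x
              obtain ⟨b, rfl⟩ := Ideal.Quotient.mk_surjective x
              change Ideal.Quotient.mk I' b * f z = f (D.π b • z)
              rw [← hsec z, hf, smul_eq_mul, ← map_mul D.π, hf, ← map_mul, mul_left_comm]) } }
    obtain ⟨s', hs'⟩ := hT X
    refine hmin J' ⟨hJ'2.le.trans hJm, E.val.comp s', fun z b hb => ?_⟩ hJ'2
    have h2 : q (s' z : E) = z := hs' z
    exact (congrArg q hb.symm).trans h2

end AlgDef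

/-- Deformations of a rigid affine scheme are isomorphic to each other. -/
theorem nonempty_iso_of_forall_isTrivial (hT : ∀ E : Exal.Ext k B₀ B₀, E.IsTrivial)
    (ξ ξ' : DefSch (Spec (CommRingCat.of B₀)) (affPt k B₀) A) : Nonempty (ξ.Iso ξ') := by
  obtain ⟨D, ⟨e⟩⟩ := exists_toSch_iso ξ
  obtain ⟨D', ⟨e'⟩⟩ := exists_toSch_iso ξ'
  obtain ⟨f⟩ := AlgDef.toSch_iso (AlgDef.Rel.equivalence.trans
    (AlgDef.Rel.equivalence.symm (D.rel_trivAlg_of_forall_isTrivial hT)) (D'.rel_trivAlg_of_forall_isTrivial hT))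
  exact ⟨(e.trans f).trans e'.symm⟩

end Groth.Agent.H24Def
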