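import Groth.Agent.H24Def.Affine
import Groth.Agent.H28Def.Push
import Mathlib.RingTheory.MvPolynomial.Basic
import Mathlib.RingTheory.Flat.TorsionFree
import Mathlib.RingTheory.Flat.Stability
import Mathlib.RingTheory.TensorProduct.Maps

/-! The deformations `x y = c` of the node over Artinian local algebras. -/

set_option autoImplicit false
set_option linter.style.haveILetI false

universe u

open CategoryTheory AlgebraicGeometry ArtFun ArtFun.Art IsLocalRing
open scoped TensorProduct

noncomputable section

namespace Groth.Agent.H24Def.Node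

variable (k : Type u) [Field k]

/-- The coordinate ring of the plane. -/
abbrev S : Type u := MvPolynomial (Fin 2) k

/-- The coordinate ring of the node. -/
abbrev B₀ : Type u := S k ⧸ Ideal.span {(MvPolynomial.X 0 * MvPolynomial.X 1 : S k)}

/-- The plane over the line by `(x, y) ↦ x y`. -/
def prodHom : Polynomial k →ₐ[k] S k := Polynomial.aeval (MvPolynomial.X 0 * MvPolynomial.X 1)

theorem prodHom_X : prodHom k Polynomial.X = MvPolynomial.X 0 * MvPolynomial.X 1 := Polynomial.aeval_X _

theorem prodHom_injective : Function.Injective (prodHom k) := by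
  intro p q h
  have h2 := congrArg (MvPolynomial.aeval (R := k) (![Polynomial.X, 1] : Fin 2 → Polynomial k)) h
  have e : (MvPolynomial.aeval (R := k) (![Polynomial.X, 1] : Fin 2 → Polynomial k)).comp (prodHom k) =
      AlgHom.id k _ :=
    Polynomial.algHom_ext (by rw [AlgHom.comp_apply, prodHom_X]; simp)
  exact (AlgHom.congr_fun e p).symm.trans (h2.trans (AlgHom.congr_fun e q))

/-- The plane as an algebra over the line. -/
@[reducible] def algS : Algebra (Polynomial k) (S k) := (prodHom k).toRingHom.toAlgebra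

variable {k}
variable {A : Art k k} (c : A)

/-- `A` as an algebra over the line by `X ↦ c`. -/
@[reducible] def algA : Algebra (Polynomial k) A := (Polynomial.aeval (R := k) c).toRingHom.toAlgebra

/-- The family `A[x,y]/(xy - c)`. -/
def Fam : Type u :=
  letI := algS k
  letI := algA c
  A ⊗[Polynomial k] S k

instance : CommRing (Fam c) :=
  letI := algS k
  letI := algA c
  (inferInstance : CommRing (A ⊗[Polynomial k] S k))

instance : Algebra A (Fam c) :=
  letI := algS k
  letI := algA c
  (inferInstance : Algebra A (A ⊗[Polynomial k] S k))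

/-- The polynomial functions on the family. -/
def inS : S k →+* Fam c :=
  letI := algS k
  letI := algA c
  (Algebra.TensorProduct.includeRight : S k →ₐ[Polynomial k] A ⊗[Polynomial k] S k).toRingHom

/-- A coordinate. -/
def co (i : Fin 2) : Fam c := inS c (MvPolynomial.X i)

theorem inS_C (r : k) : inS c (MvPolynomial.C r) = algebraMap A (Fam c) (algebraMap k A r) := by
  letI := algS k
  letI := algA c
  show (1 : A) ⊗ₜ[Polynomial k] MvPolynomial.C r = algebraMap k A r ⊗ₜ[Polynomial k] (1 : S k)
  have h1 : (MvPolynomial.C r : S k) = (Polynomial.C r) • (1 : S k) := by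
    rw [Algebra.smul_def, mul_one]
    exact ((prodHom k).commutes r).symm
  have h2 : algebraMap k A r = (Polynomial.C r) • (1 : A) := by
    rw [Algebra.smul_def, mul_one]
    exact (Polynomial.aeval_C c r).symm
  rw [h1, h2, TensorProduct.smul_tmul]

theorem co_mul : co c 0 * co c 1 = algebraMap A (Fam c) c := by
  letI := algS k
  letI := algA c
  rw [co, co, ← map_mul]
  show (1 : A) ⊗ₜ[Polynomial k] (MvPolynomial.X 0 * MvPolynomial.X 1 : S k) = c ⊗ₜ[Polynomial k] (1 : S k)
  have h1 : (MvPolynomial.X 0 * MvPolynomial.X 1 : S k) = (Polynomial.X : Polynomial k) • (1 : S k) := by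
    rw [Algebra.smul_def, mul_one]
    exact (prodHom_X k).symm
  have h2 : c = (Polynomial.X : Polynomial k) • (1 : A) := by
    rw [Algebra.smul_def, mul_one]
    exact (Polynomial.aeval_X c).symm
  conv_rhs => rw [h2]
  rw [h1, TensorProduct.smul_tmul]

theorem fam_induction {P : Fam c → Prop} (h0 : P 0) (ht : ∀ (a : A) (s : S k), P (algebraMap A (Fam c) a * inS c s))
    (hadd : ∀ z w, P z → P w → P (z + w)) (z : Fam c) : P z := by
  letI := algS k
  letI := algA c
  refine TensorProduct.induction_on z h0 (fun a s => ?_) hadd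
  have e : algebraMap A (Fam c) a * inS c s = a ⊗ₜ[Polynomial k] s := by
    show (a ⊗ₜ[Polynomial k] (1 : S k)) * ((1 : A) ⊗ₜ[Polynomial k] s) = _
    rw [Algebra.TensorProduct.tmul_mul_tmul, mul_one, one_mul]
  exact e ▸ ht a s

theorem flat : Module.Flat A (Fam c) := by
  letI := algS k
  letI := algA c
  haveI : Module.IsTorsionFree (Polynomial k) (S k) := by
    have hinj : Function.Injective (algebraMap (Polynomial k) (S k)) := prodHom_injective k
    haveI : FaithfulSMul (Polynomial k) (S k) := (faithfulSMul_iff_algebraMap_injective _ _).2 hinj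
    infer_instance
  haveI : Module.Flat (Polynomial k) (S k) := inferInstance
  exact inferInstanceAs (Module.Flat A (A ⊗[Polynomial k] S k))

/-- A homomorphism out of the family. -/
theorem exists_lift {R : Type u} [CommRing R] [Algebra A R] (v : Fin 2 → R) (hv : v 0 * v 1 = algebraMap A R c) :
    ∃ φ : Fam c →ₐ[A] R, ∀ i, φ (co c i) = v i := by
  letI := algS k
  letI := algA c
  letI : Algebra k R := ((algebraMap A R).comp (algebraMap k A)).toAlgebra
  letI : Algebra (Polynomial k) R := ((algebraMap A R).comp (algebraMap (Polynomial k) A)).toAlgebra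
  haveI : IsScalarTower (Polynomial k) A R := IsScalarTower.of_algebraMap_eq fun _ => rfl
  let g : S k →ₐ[k] R := MvPolynomial.aeval v
  have hg : g.toRingHom.comp (algebraMap (Polynomial k) (S k)) = algebraMap (Polynomial k) R := by
    refine Polynomial.ringHom_ext (fun r => ?_) ?_
    · show g (prodHom k (Polynomial.C r)) = algebraMap A R (Polynomial.aeval c (Polynomial.C r))
      rw [show prodHom k (Polynomial.C r) = algebraMap k (S k) r from (prodHom k).commutes r, AlgHom.commutes,
        Polynomial.aeval_C]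
      rfl
    · show g (prodHom k Polynomial.X) = algebraMap A R (Polynomial.aeval c Polynomial.X)
      rw [prodHom_X, Polynomial.aeval_X, map_mul, MvPolynomial.aeval_X, MvPolynomial.aeval_X, hv]
  let g' : S k →ₐ[Polynomial k] R := { g with commutes' := fun p => RingHom.congr_fun hg p }
  refine ⟨Algebra.TensorProduct.lift (Algebra.ofId A R) g' fun _ _ => Commute.all _ _, fun i => ?_⟩
  refine (Algebra.TensorProduct.lift_tmul (Algebra.ofId A R) g' (fun _ _ => Commute.all _ _) 1 (MvPolynomial.X i)).trans ?_
  rw [map_one, one_mul]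
  exact MvPolynomial.aeval_X v i

theorem ringHom_ext {R : Type u} [CommRing R] {φ ψ : Fam c →+* R}
    (h : ∀ a, φ (algebraMap A (Fam c) a) = ψ (algebraMap A (Fam c) a)) (h' : ∀ i, φ (co c i) = ψ (co c i)) :
    φ = ψ := by
  have h2 : φ.comp (inS c) = ψ.comp (inS c) :=
    MvPolynomial.ringHom_ext (fun r => by simp only [RingHom.comp_apply, inS_C, h]) h'
  refine RingHom.ext fun z => ?_
  induction z using fam_induction with
  | h0 => simp
  | ht a s => rw [map_mul, map_mul, h]; exact congrArg _ (RingHom.congr_fun h2 s)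
  | hadd z w hz hw => rw [map_add, map_add, hz, hw]

variable (hc : c ∈ maximalIdeal A)
include hc

/-- The reduction of the family. -/
theorem exists_red : ∃ π : Fam c →+* B₀ k, (∀ a, π (algebraMap A (Fam c) a) = algebraMap k (B₀ k) (A.res a)) ∧
    ∀ s, π (inS c s) = Ideal.Quotient.mk _ s := by
  letI : Algebra A (B₀ k) := ((algebraMap k (B₀ k)).comp A.res.toRingHom).toAlgebra
  obtain ⟨φ, hφ⟩ := exists_lift c (R := B₀ k) (fun i => Ideal.Quotient.mk _ (MvPolynomial.X i)) (by
    show _ = algebraMap k (B₀ k) (A.res c)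
    rw [(A.mem_maximalIdeal_iff c).1 hc, map_zero, ← map_mul, Ideal.Quotient.eq_zero_iff_mem]
    exact Ideal.mem_span_singleton_self _)
  refine ⟨φ.toRingHom, fun a => φ.commutes a, fun s => ?_⟩
  have : φ.toRingHom.comp (inS c) = Ideal.Quotient.mk _ := by
    refine MvPolynomial.ringHom_ext (fun r => ?_) hφ
    show φ (inS c (MvPolynomial.C r)) = _
    rw [inS_C, AlgHom.commutes]
    show algebraMap k (B₀ k) (A.res (algebraMap k A r)) = _
    rw [AlgHom.commutes]
    rfl
  exact RingHom.congr_fun this s

/-- The reduction of the family. -/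
def red : Fam c →+* B₀ k := (exists_red c hc).choose

theorem red_algebraMap (a : A) : red c hc (algebraMap A (Fam c) a) = algebraMap k (B₀ k) (A.res a) :=
  (exists_red c hc).choose_spec.1 a

theorem red_inS (s : S k) : red c hc (inS c s) = Ideal.Quotient.mk _ s := (exists_red c hc).choose_spec.2 s

omit hc in
theorem exists_sub_inS_mem (z : Fam c) :
    ∃ s, z - inS c s ∈ (maximalIdeal A).map (algebraMap A (Fam c)) := by
  induction z using fam_induction with
  | h0 => exact ⟨0, by simp⟩
  | ht a s =>
    refine ⟨MvPolynomial.C (A.res a) * s, ?_⟩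
    rw [map_mul, inS_C, ← sub_mul, ← map_sub]
    refine Ideal.mul_mem_right _ _ (Ideal.mem_map_of_mem _ ?_)
    rw [A.mem_maximalIdeal_iff, map_sub, AlgHom.commutes]
    exact sub_self _
  | hadd z w hz hw =>
    obtain ⟨s, hs⟩ := hz
    obtain ⟨s', hs'⟩ := hw
    refine ⟨s + s', ?_⟩
    have := Ideal.add_mem _ hs hs'
    rw [map_add]
    convert this using 1
    abel

theorem ker_red : RingHom.ker (red c hc) = (maximalIdeal A).map (algebraMap A (Fam c)) := by
  refine le_antisymm (fun z hz => ?_) (Ideal.map_le_iff_le_comap.2 fun a ha => ?_)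
  · obtain ⟨s, hs⟩ := exists_sub_inS_mem c z
    have hs0 : (maximalIdeal A).map (algebraMap A (Fam c)) ≤ RingHom.ker (red c hc) :=
      Ideal.map_le_iff_le_comap.2 fun a ha => by
        rw [Ideal.mem_comap, RingHom.mem_ker, red_algebraMap, (A.mem_maximalIdeal_iff a).1 ha, map_zero]
    have h1 : red c hc (inS c s) = 0 := by
      have := hs0 hs
      rwa [RingHom.mem_ker, map_sub, hz, zero_sub, neg_eq_zero] at this
    rw [red_inS, Ideal.Quotient.eq_zero_iff_mem, Ideal.mem_span_singleton] at h1
    obtain ⟨s', rfl⟩ := h1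
    have h2 : inS c (MvPolynomial.X 0 * MvPolynomial.X 1 * s') ∈ (maximalIdeal A).map (algebraMap A (Fam c)) := by
      rw [map_mul, map_mul]
      refine Ideal.mul_mem_right _ _ ?_
      rw [show inS c (MvPolynomial.X 0) * inS c (MvPolynomial.X 1) = algebraMap A (Fam c) c from co_mul c]
      exact Ideal.mem_map_of_mem _ hc
    simpa using Ideal.add_mem _ hs h2
  · rw [Ideal.mem_comap, RingHom.mem_ker, red_algebraMap, (A.mem_maximalIdeal_iff a).1 ha, map_zero]

/-- The family as a deformation of the node. -/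
def fam : AlgDef (B₀ k) A where
  B := Fam c
  flat := flat c
  π := red c hc
  π_algebraMap := red_algebraMap c hc
  π_surjective := fun b => by
    obtain ⟨s, rfl⟩ := Ideal.Quotient.mk_surjective b
    exact ⟨inS c s, red_inS c hc s⟩
  ker_π := ker_red c hc

/-- Rescaling the parameter by a principal unit. -/
theorem rel_mul_unit (u : Aˣ) (hu : A.res u = 1) (hc' : (u : A) * c ∈ maximalIdeal A) :
    AlgDef.Rel (fam c hc) (fam ((u : A) * c) hc') := by
  obtain ⟨φ, hφ⟩ := exists_lift c (R := Fam ((u : A) * c))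
    ![algebraMap A _ (↑u⁻¹ : A) * co _ 0, co _ 1] (by
      simp only [Matrix.cons_val_zero, Matrix.cons_val_one, Matrix.cons_val_fin_one]
      rw [mul_assoc, co_mul, ← map_mul, Units.inv_mul_cancel_left])
  obtain ⟨ψ, hψ⟩ := exists_lift ((u : A) * c) (R := Fam c)
    ![algebraMap A _ (u : A) * co c 0, co c 1] (by
      simp only [Matrix.cons_val_zero, Matrix.cons_val_one, Matrix.cons_val_fin_one]
      rw [mul_assoc, co_mul, ← map_mul])
  have h1 : ∀ z, ψ (φ z) = z := RingHom.congr_fun (f := ψ.toRingHom.comp φ.toRingHom) (g := RingHom.id _)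
    (ringHom_ext c (fun a => (congrArg ψ (φ.commutes a)).trans (ψ.commutes a)) (fun i => by
      show ψ (φ (co c i)) = co c i
      rw [hφ]
      fin_cases i
      · simp only [Fin.zero_eta, Matrix.cons_val_zero]
        rw [map_mul, AlgHom.commutes, hψ, Matrix.cons_val_zero, ← mul_assoc, ← map_mul, Units.inv_mul, map_one,
          one_mul]
      · simp [hψ]))
  have h2 : ∀ z, φ (ψ z) = z := RingHom.congr_fun (f := φ.toRingHom.comp ψ.toRingHom) (g := RingHom.id _)
    (ringHom_ext _ (fun a => (congrArg φ (ψ.commutes a)).trans (φ.commutes a)) (fun i => by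
      show φ (ψ (co _ i)) = co _ i
      rw [hψ]
      fin_cases i
      · simp only [Fin.zero_eta, Matrix.cons_val_zero]
        rw [map_mul, AlgHom.commutes, hφ, Matrix.cons_val_zero, ← mul_assoc, ← map_mul, Units.mul_inv, map_one,
          one_mul]
      · simp [hφ]))
  have hres : A.res (↑u⁻¹ : A) = 1 := by
    have := congrArg A.res u.inv_mul
    rwa [map_mul, hu, mul_one, map_one] at this
  let E : Fam c ≃ₐ[A] Fam ((u : A) * c) :=
    { φ with invFun := ψ, left_inv := h1, right_inv := h2 }
  refine ⟨E, RingHom.congr_fun (f := (red _ hc').comp φ.toRingHom) (g := red c hc)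
    (ringHom_ext c (fun a => ?_) (fun i => ?_))⟩
  · simp [red_algebraMap]
  · show red _ hc' (φ (co c i)) = red c hc (co c i)
    rw [hφ, show red c hc (co c i) = Ideal.Quotient.mk _ (MvPolynomial.X i) from red_inS c hc _]
    fin_cases i
    · simp only [Fin.zero_eta, Matrix.cons_val_zero]
      rw [map_mul, red_algebraMap, hres, map_one, one_mul]
      exact red_inS _ hc' _
    · simp only [Fin.mk_one, Matrix.cons_val_one, Matrix.cons_val_fin_one]
      exact red_inS _ hc' _

/-- The families are compatible with surjective base change. -/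
theorem map_fam {A' : Art k k} (μ : A ⟶ A') (hμ : Function.Surjective μ) (hc' : μ c ∈ maximalIdeal A') :
    (defFunctor (Spec (CommRingCat.of (B₀ k))) (affPt k (B₀ k))).map μ (fam c hc).toSch.cl =
      (fam (μ c) hc').toSch.cl := by
  obtain ⟨D, φ, hφ, hφc, hφπ, hφk, ⟨e⟩⟩ : ∃ (D : AlgDef (B₀ k) A') (φ : Fam c →+* D.B), Function.Surjective φ ∧
      (∀ a, φ (algebraMap A (Fam c) a) = algebraMap A' D.B (μ a)) ∧ (∀ b, D.π (φ b) = red c hc b) ∧
      RingHom.ker φ = (RingHom.ker μ.toAlgHom.toRingHom).map (algebraMap A (Fam c)) ∧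
      Nonempty (DefSch.Iso ((fam c hc).toSch.baseChange μ) D.toSch) := H28Def.exists_push μ hμ (fam c hc)
  letI : Algebra A (Fam (μ c)) := ((algebraMap A' (Fam (μ c))).comp μ.toAlgHom.toRingHom).toAlgebra
  obtain ⟨χ, hχ⟩ := exists_lift c (R := Fam (μ c)) (co (μ c)) (co_mul (μ c))
  have hle : RingHom.ker φ ≤ RingHom.ker χ.toRingHom := by
    rw [hφk, Ideal.map_le_iff_le_comap]
    intro a ha
    rw [Ideal.mem_comap, RingHom.mem_ker]
    refine (χ.commutes a).trans ?_
    show algebraMap A' (Fam (μ c)) (μ.toAlgHom.toRingHom a) = 0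
    rw [RingHom.mem_ker.1 ha, map_zero]
  let β : D.B →+* Fam (μ c) := RingHom.liftOfSurjective φ hφ ⟨χ.toRingHom, hle⟩
  have hβ : ∀ z, β (φ z) = χ z := fun z => liftSurj_apply φ hφ χ.toRingHom hle z
  obtain ⟨α, hα⟩ := exists_lift (μ c) (R := D.B) (fun i => φ (co c i)) (by
    rw [← map_mul, co_mul]
    exact hφc c)
  have h1 : ∀ z, β (α z) = z := RingHom.congr_fun (f := β.comp α.toRingHom) (g := RingHom.id _)
    (ringHom_ext (μ c) (fun a => by
      obtain ⟨a, rfl⟩ := hμ a
      show β (α (algebraMap A' _ (μ a))) = _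
      rw [α.commutes, ← hφc, hβ]
      exact χ.commutes a) (fun i => by
      show β (α (co _ i)) = _
      rw [hα, hβ, hχ]; rfl))
  have h2 : ∀ z, α (χ z) = φ z := RingHom.congr_fun (f := α.toRingHom.comp χ.toRingHom) (g := φ)
    (ringHom_ext c (fun a => by
      show α (χ (algebraMap A _ a)) = _
      rw [χ.commutes]
      exact (α.commutes (μ a)).trans (hφc a).symm) (fun i => by
      show α (χ (co c i)) = _
      rw [hχ, hα]))
  let E : Fam (μ c) ≃ₐ[A'] D.B := { α with
    invFun := β
    left_inv := h1
    right_inv := fun z => by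
      obtain ⟨z, rfl⟩ := hφ z
      show α (β (φ z)) = φ z
      rw [hβ, h2] }
  have hrel : AlgDef.Rel (fam (μ c) hc') D := by
    refine ⟨E, RingHom.congr_fun (f := D.π.comp α.toRingHom) (g := red (μ c) hc')
      (ringHom_ext (μ c) (fun a => ?_) (fun i => ?_))⟩
    · show D.π (α (algebraMap A' _ a)) = _
      rw [α.commutes, D.π_algebraMap, red_algebraMap]
    · show D.π (α (co _ i)) = _
      rw [hα, hφπ]
      exact (red_inS c hc _).trans (red_inS (μ c) hc' _).symm
  rw [defFunctor_map_cl]
  exact Quotient.sound ⟨e.trans (AlgDef.toSch_iso hrel).some.symm⟩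

/-- The parameter is determined up to the ideal generated by the other one, modulo products. -/
theorem mem_span_of_rel {T : A} (hT : T ∈ maximalIdeal A)
    (hsq : ∀ u ∈ maximalIdeal A, ∀ v ∈ maximalIdeal A, u * v ∈ Ideal.span {T})
    (h : AlgDef.Rel (fam c hc) (fam T hT)) : c ∈ Ideal.span {T} := by
  obtain ⟨e₀, he₀⟩ := h
  let e : Fam c ≃ₐ[A] Fam T := e₀
  have he : ∀ b : Fam c, red T hT (e b) = red c hc b := he₀
  let q := Ideal.Quotient.mk (Ideal.span {T})
  obtain ⟨ψ, hψ⟩ := exists_lift T (R := A ⧸ Ideal.span {T}) (fun _ => 0) (by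
    rw [mul_zero]
    exact ((Ideal.Quotient.eq_zero_iff_mem).2 (Ideal.mem_span_singleton_self T)).symm)
  have hmem : ∀ i, ψ (e (co c i)) ∈ (maximalIdeal A).map q := fun i => by
    have hd : e (co c i) - co T i ∈ (maximalIdeal A).map (algebraMap A (Fam T)) := by
      rw [← ker_red T hT, RingHom.mem_ker, map_sub, sub_eq_zero]
      exact (he (co c i)).trans ((red_inS c hc _).trans (red_inS T hT _).symm)
    have := Ideal.mem_map_of_mem ψ.toRingHom hd
    rw [Ideal.map_map, show ψ.toRingHom.comp (algebraMap A (Fam T)) = q from RingHom.ext ψ.commutes,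
      map_sub, show ψ.toRingHom (co T i) = 0 from hψ i, sub_zero] at this
    exact this
  have h2 : q c = ψ (e (co c 0)) * ψ (e (co c 1)) := by
    rw [← map_mul, ← map_mul, co_mul]
    exact ((ψ.comp e.toAlgHom).commutes c).symm
  rw [← Ideal.Quotient.eq_zero_iff_mem]
  refine h2.trans ?_
  obtain ⟨u, hu, hu'⟩ := (Ideal.mem_map_iff_of_surjective q Ideal.Quotient.mk_surjective).1 (hmem 0)
  obtain ⟨v, hv, hv'⟩ := (Ideal.mem_map_iff_of_surjective q Ideal.Quotient.mk_surjective).1 (hmem 1)
  rw [← hu', ← hv', ← map_mul, Ideal.Quotient.eq_zero_iff_mem]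
  exact hsq u hu v hv

end Groth.Agent.H24Def.Node
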