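import Mathlib.RingTheory.Smooth.Fiber
import Mathlib.RingTheory.Kaehler.TensorProduct
import Mathlib.RingTheory.Kaehler.JacobiZariski
import Mathlib.RingTheory.Kaehler.Polynomial
import Mathlib.RingTheory.FinitePresentation
import Mathlib.Algebra.TrivSqZeroExt.Basic
import Mathlib.Tactic

/-! Flat algebras over `k[X]/(X^(n+1))` with smooth closed fibre. -/

set_option autoImplicit false
set_option linter.style.haveILetI false

universe u

open Polynomial TensorProduct

noncomputable section

namespace Groth.Agent.H24Def.TruncFlat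

section Base

variable {k : Type u} [Field k] {n : ℕ} {D : Type u} [CommRing D] [Algebra k D] {τ : D}
  (e : (k[X] ⧸ Ideal.span {(X : k[X]) ^ (n + 1)}) ≃ₐ[k] D)
  (he : e (Ideal.Quotient.mk (Ideal.span {(X : k[X]) ^ (n + 1)}) X) = τ)

include he

theorem tau_pow : τ ^ (n + 1) = 0 := by
  rw [← he, ← map_pow, ← map_pow, Ideal.Quotient.eq_zero_iff_mem.mpr (Ideal.mem_span_singleton_self _), map_zero]

theorem aeval_surjective : Function.Surjective (aeval τ : k[X] →ₐ[k] D) := fun d => by
  obtain ⟨p, hp⟩ := Ideal.Quotient.mk_surjective (e.symm d)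
  refine ⟨p, ?_⟩
  have h : (aeval τ : k[X] →ₐ[k] D) = e.toAlgHom.comp (Ideal.Quotient.mkₐ k _) :=
    Polynomial.algHom_ext (by simp [he])
  rw [h]
  simp [hp]

theorem exists_const (d : D) : ∃ (c : k) (d' : D), d = algebraMap k D c + τ * d' := by
  obtain ⟨p, rfl⟩ := aeval_surjective e he d
  refine ⟨p.coeff 0, aeval τ p.divX, ?_⟩
  conv_lhs => rw [← p.X_mul_divX_add, map_add, map_mul, aeval_X, aeval_C, add_comm]

theorem isMaximal_span_tau : (Ideal.span {τ}).IsMaximal := by
  let ε : D →ₐ[k] k := (Ideal.Quotient.liftₐ (Ideal.span {(X : k[X]) ^ (n + 1)}) (aeval (0 : k))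
    (fun p hp => by
      obtain ⟨q, rfl⟩ := Ideal.mem_span_singleton'.mp hp
      simp)).comp e.symm.toAlgHom
  have hετ : ε τ = 0 := by simp [ε, ← he]
  have hker : RingHom.ker (ε : D →+* k) = Ideal.span {τ} := by
    refine le_antisymm (fun d hd => ?_) (Ideal.span_le.mpr (Set.singleton_subset_iff.mpr hετ))
    obtain ⟨c, d', rfl⟩ := exists_const e he d
    have : c = 0 := by
      have h := RingHom.mem_ker.mp hd
      simpa [hετ] using h
    simp [this, Ideal.mul_mem_right, Ideal.mem_span_singleton_self]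
  rw [← hker]
  exact RingHom.ker_isMaximal_of_surjective _ fun c => ⟨algebraMap k D c, ε.commutes c⟩

theorem eq_span_tau_of_isPrime (I : Ideal D) [hI : I.IsPrime] : I = Ideal.span {τ} := by
  refine ((isMaximal_span_tau e he).eq_of_le hI.ne_top ?_).symm
  rw [Ideal.span_le, Set.singleton_subset_iff]
  exact hI.mem_of_pow_mem (n + 1) (tau_pow e he ▸ I.zero_mem)

variable {B : Type u} [CommRing B] [Algebra k B] [Algebra D B] [IsScalarTower k D B]

theorem smooth [Algebra.FiniteType k B] [Module.Flat D B] {t : B} (ht : t = algebraMap D B τ)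
    (hsm : Algebra.Smooth k (B ⧸ Ideal.span {t})) : Algebra.Smooth D B := by
  haveI : Algebra.FiniteType k D := Algebra.FiniteType.of_surjective (aeval τ : k[X] →ₐ[k] D) (aeval_surjective e he)
  haveI : IsNoetherianRing D := Algebra.FiniteType.isNoetherianRing k D
  haveI : Algebra.FiniteType D B := Algebra.FiniteType.of_restrictScalars_finiteType k D B
  haveI : Algebra.FinitePresentation D B := Algebra.FinitePresentation.of_finiteType.mp inferInstance
  refine Algebra.Smooth.of_formallySmooth_fiber fun I hI => ?_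
  have hIτ := eq_span_tau_of_isPrime e he I
  haveI : I.IsMaximal := hIτ ▸ isMaximal_span_tau e he
  let K := I.ResidueField
  have hDK : Function.Surjective (algebraMap D K) := fun z => by
    obtain ⟨q, rfl⟩ := I.bijective_algebraMap_quotient_residueField.2 z
    obtain ⟨d, rfl⟩ := Ideal.Quotient.mk_surjective q
    exact ⟨d, IsScalarTower.algebraMap_apply D (D ⧸ I) K d⟩
  have hτK : algebraMap D K τ = 0 := Ideal.algebraMap_residueField_eq_zero.mpr (hIτ ▸ Ideal.mem_span_singleton_self τ)
  let ψ : B →ₐ[k] I.Fiber B := (Algebra.TensorProduct.includeRight : B →ₐ[D] K ⊗[D] B).restrictScalars k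
  have hψ : Function.Surjective ψ := fun z => by
    induction z using TensorProduct.induction_on with
    | zero => exact ⟨0, map_zero _⟩
    | add x y hx hy =>
      obtain ⟨a, rfl⟩ := hx; obtain ⟨b, rfl⟩ := hy
      exact ⟨a + b, map_add _ _ _⟩
    | tmul c b =>
      obtain ⟨d, rfl⟩ := hDK c
      refine ⟨d • b, ?_⟩
      change (1 : K) ⊗ₜ[D] (d • b) = _
      rw [← TensorProduct.smul_tmul, Algebra.algebraMap_eq_smul_one]
  let e0 : (D ⧸ I) ≃ₐ[D] K :=
    AlgEquiv.ofBijective (IsScalarTower.toAlgHom D (D ⧸ I) K) I.bijective_algebraMap_quotient_residueField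
  let g : K →ₐ[D] B ⧸ Ideal.span {t} := (Ideal.Quotient.liftₐ I (Algebra.ofId D (B ⧸ Ideal.span {t})) (fun d hd => by
    obtain ⟨d', rfl⟩ := Ideal.mem_span_singleton'.mp (hIτ ▸ hd)
    rw [Algebra.ofId_apply, map_mul, IsScalarTower.algebraMap_apply D B (B ⧸ Ideal.span {t}) τ, ← ht,
      Ideal.Quotient.algebraMap_eq, Ideal.Quotient.eq_zero_iff_mem.mpr (Ideal.mem_span_singleton_self t), mul_zero])).comp
    e0.symm.toAlgHom
  let φ : K ⊗[D] B →ₐ[D] B ⧸ Ideal.span {t} :=
    Algebra.TensorProduct.lift g (Ideal.Quotient.mkₐ D _) (fun _ _ => Commute.all _ _)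
  have hker : RingHom.ker ψ = Ideal.span {t} := by
    refine le_antisymm (fun b hb => ?_) (Ideal.span_le.mpr (Set.singleton_subset_iff.mpr ?_))
    · have h : φ ((1 : K) ⊗ₜ[D] b) = 0 := by
        rw [show (1 : K) ⊗ₜ[D] b = ψ b from rfl, RingHom.mem_ker.mp hb, map_zero]
      rw [Algebra.TensorProduct.lift_tmul, map_one, one_mul] at h
      exact Ideal.Quotient.eq_zero_iff_mem.mp h
    · change (1 : K) ⊗ₜ[D] t = 0
      rw [ht, Algebra.algebraMap_eq_smul_one, ← TensorProduct.smul_tmul, ← Algebra.algebraMap_eq_smul_one, hτK,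
        TensorProduct.zero_tmul]
  have hkK : Function.Surjective (algebraMap k K) := fun z => by
    obtain ⟨d, rfl⟩ := hDK z
    obtain ⟨c, d', rfl⟩ := exists_const e he d
    exact ⟨c, by rw [map_add, map_mul, hτK, zero_mul, add_zero, ← IsScalarTower.algebraMap_apply]⟩
  haveI : Algebra.FormallyUnramified k K := Algebra.FormallyUnramified.of_surjective (Algebra.ofId k K) hkK
  haveI := hsm.formallySmooth
  haveI : Algebra.FormallySmooth k (I.Fiber B) := Algebra.FormallySmooth.of_equiv
    ((Ideal.quotientEquivAlgOfEq k hker.symm).trans (Ideal.quotientKerAlgEquivOfSurjective hψ))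
  exact Algebra.FormallySmooth.of_restrictScalars k K _

/-- The kernel of `Ω[B/k] → Ω[B/D]` is spanned by `dt`. -/
theorem exists_smul_of_map_eq_zero {t : B} (ht : t = algebraMap D B τ) (η : Ω[B⁄k])
    (hη : KaehlerDifferential.map k D B B η = 0) : ∃ b : B, η = b • KaehlerDifferential.D k B t := by
  obtain ⟨z, rfl⟩ := (KaehlerDifferential.exact_mapBaseChange_map k D B η).mp hη
  induction z using TensorProduct.induction_on with
  | zero => exact ⟨0, by simp⟩
  | add x y hx hy =>
    obtain ⟨a, ha⟩ := hx (by exact (KaehlerDifferential.exact_mapBaseChange_map k D B).apply_apply_eq_zero x)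
    obtain ⟨b, hb⟩ := hy (by exact (KaehlerDifferential.exact_mapBaseChange_map k D B).apply_apply_eq_zero y)
    exact ⟨a + b, by rw [map_add, ha, hb, add_smul]⟩
  | tmul a w =>
    have hw : w ∈ Submodule.span D (Set.range (KaehlerDifferential.D k D)) := by
      rw [KaehlerDifferential.span_range_derivation]; trivial
    obtain ⟨c, rfl⟩ : ∃ c : D, w = c • KaehlerDifferential.D k D τ := by
      clear hη
      induction hw using Submodule.span_induction with
      | mem x hx =>
        obtain ⟨d, rfl⟩ := hx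
        obtain ⟨p, rfl⟩ := aeval_surjective e he d
        exact ⟨aeval τ (derivative p), Derivation.map_aeval _ p τ⟩
      | zero => exact ⟨0, by simp⟩
      | add x y _ _ hx hy =>
        obtain ⟨a, rfl⟩ := hx; obtain ⟨b, rfl⟩ := hy
        exact ⟨a + b, (add_smul _ _ _).symm⟩
      | smul c x _ hx =>
        obtain ⟨a, rfl⟩ := hx
        exact ⟨c * a, (mul_smul _ _ _).symm⟩
    refine ⟨a * algebraMap D B c, ?_⟩
    rw [KaehlerDifferential.mapBaseChange_tmul, map_smul, KaehlerDifferential.map_D, ← ht,
      ← algebraMap_smul B c (KaehlerDifferential.D k B t), ← mul_smul]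

/-- A functional on `(B/t^n) ⊗ Ω[B/k]` with value `1` at `dt`. -/
theorem exists_functional [Algebra.FormallySmooth D B] {t : B} (ht : t = algebraMap D B τ) :
    ∃ l : (B ⧸ Ideal.span {t ^ n}) ⊗[B] Ω[B⁄k] →ₗ[B ⧸ Ideal.span {t ^ n}] (B ⧸ Ideal.span {t ^ n}),
      l (1 ⊗ₜ[B] KaehlerDifferential.D k B t) = 1 := by
  set B' := B ⧸ Ideal.span {t ^ n}
  let v : TrivSqZeroExt B' B' := TrivSqZeroExt.inl (algebraMap B B' t) + TrivSqZeroExt.inr 1
  have htn : algebraMap B B' t ^ n = 0 := by
    rw [← map_pow]; exact Ideal.Quotient.eq_zero_iff_mem.mpr (Ideal.mem_span_singleton_self _)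
  have hvfst : v.fst = algebraMap B B' t := by simp [v]
  have hvsnd : v.snd = 1 := by simp [v]
  have hv : v ^ (n + 1) = 0 := by
    refine TrivSqZeroExt.ext ?_ ?_
    · rw [TrivSqZeroExt.fst_pow, hvfst, pow_succ, htn, zero_mul]
      rfl
    · rw [TrivSqZeroExt.snd_pow, hvfst, hvsnd]
      simp [htn]
  let θ : D →ₐ[k] TrivSqZeroExt B' B' := (Ideal.Quotient.liftₐ (Ideal.span {(X : k[X]) ^ (n + 1)}) (aeval v) (fun p hp => by
    obtain ⟨q, rfl⟩ := Ideal.mem_span_singleton'.mp hp
    rw [map_mul, map_pow, aeval_X, hv, mul_zero])).comp e.symm.toAlgHom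
  have hθτ : θ τ = v := by
    simp [θ, ← he]
    all_goals exact aeval_X v
  have hθfst : ∀ d, (θ d).fst = algebraMap D B' d := by
    have h : (TrivSqZeroExt.fstHom k B' B').comp θ = IsScalarTower.toAlgHom k D B' := by
      refine AlgHom.ext fun d => ?_
      obtain ⟨p, rfl⟩ := aeval_surjective e he d
      rw [← aeval_algHom_apply, ← aeval_algHom_apply]
      refine congrArg (fun x => aeval x p) ?_
      change (θ τ).fst = algebraMap D B' τ
      rw [hθτ, hvfst, IsScalarTower.algebraMap_apply D B B' τ, ← ht]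
    exact fun d => AlgHom.congr_fun h d
  let del : Derivation k D B' := Derivation.mk'
    { toFun := fun d => (θ d).snd
      map_add' := fun a b => by rw [map_add, TrivSqZeroExt.snd_add]
      map_smul' := fun c d => by rw [map_smul, TrivSqZeroExt.snd_smul]; rfl }
    fun a b => by
      change (θ (a * b)).snd = a • (θ b).snd + b • (θ a).snd
      rw [map_mul, TrivSqZeroExt.snd_mul, hθfst, hθfst, op_smul_eq_smul]
      simp [Algebra.smul_def]
  have hinj : Function.Injective (KaehlerDifferential.mapBaseChange k D B) := by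
    rw [injective_iff_map_eq_zero]
    intro z hz
    obtain ⟨w, hw⟩ := (Algebra.H1Cotangent.exact_δ_mapBaseChange k D B z).mp hz
    haveI : Subsingleton (Algebra.H1Cotangent D B) := Algebra.FormallySmooth.subsingleton_h1Cotangent
    rw [← hw, Subsingleton.elim w 0, map_zero]
  obtain ⟨sec, hsec⟩ := Module.projective_lifting_property (KaehlerDifferential.map k D B B) LinearMap.id
    (KaehlerDifferential.map_surjective k D B)
  let q : Ω[B⁄k] →ₗ[B] LinearMap.range (KaehlerDifferential.mapBaseChange k D B) :=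
    (LinearMap.id - sec ∘ₗ KaehlerDifferential.map k D B B).codRestrict _ fun x =>
      (KaehlerDifferential.exact_mapBaseChange_map k D B _).mp (by
        have h := LinearMap.congr_fun hsec (KaehlerDifferential.map k D B B x)
        simp only [LinearMap.comp_apply, LinearMap.id_apply] at h
        simp [map_sub, h])
  let r : Ω[B⁄k] →ₗ[B] B ⊗[D] Ω[D⁄k] := (LinearEquiv.ofInjective _ hinj).symm.toLinearMap ∘ₗ q
  refine ⟨((del.liftKaehlerDifferential.liftBaseChange B) ∘ₗ r).liftBaseChange B', ?_⟩
  have hr : r (KaehlerDifferential.D k B t) = 1 ⊗ₜ[D] KaehlerDifferential.D k D τ := by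
    change (LinearEquiv.ofInjective _ hinj).symm (q (KaehlerDifferential.D k B t)) = _
    rw [LinearEquiv.symm_apply_eq]
    refine Subtype.ext ?_
    have h0 : KaehlerDifferential.map k D B B (KaehlerDifferential.D k B t) = 0 := by
      rw [KaehlerDifferential.map_D, ht]
      exact Derivation.map_algebraMap _ τ
    change KaehlerDifferential.D k B t - sec (KaehlerDifferential.map k D B B (KaehlerDifferential.D k B t)) =
      KaehlerDifferential.mapBaseChange k D B (1 ⊗ₜ[D] KaehlerDifferential.D k D τ)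
    rw [h0, map_zero, sub_zero, KaehlerDifferential.mapBaseChange_tmul, one_smul, KaehlerDifferential.map_D, ← ht]
  rw [LinearMap.liftBaseChange_tmul, one_smul, LinearMap.comp_apply, hr, LinearMap.liftBaseChange_tmul, one_smul,
    Derivation.liftKaehlerDifferential_comp_D]
  change (θ τ).snd = 1
  rw [hθτ, hvsnd]

omit he in
theorem map_D_t {t : B} (ht : t = algebraMap D B τ) :
    KaehlerDifferential.map k D B B (KaehlerDifferential.D k B t) = 0 := by
  rw [KaehlerDifferential.map_D, ht]
  exact Derivation.map_algebraMap _ τ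

theorem exact_toSpan_baseChange {t : B} (ht : t = algebraMap D B τ) :
    Function.Exact
      (LinearMap.toSpanSingleton (B ⧸ Ideal.span {t ^ n}) ((B ⧸ Ideal.span {t ^ n}) ⊗[B] Ω[B⁄k])
        ((1 : (B ⧸ Ideal.span {t ^ n})) ⊗ₜ[B] KaehlerDifferential.D k B t))
      (LinearMap.baseChange (B ⧸ Ideal.span {t ^ n}) (KaehlerDifferential.map k D B B)) := by
  intro z
  refine ⟨fun hz => ?_, ?_⟩
  · have hex : Function.Exact (LinearMap.toSpanSingleton B Ω[B⁄k] (KaehlerDifferential.D k B t))
        (KaehlerDifferential.map k D B B) := fun η =>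
      ⟨fun h => by
        obtain ⟨b, rfl⟩ := exists_smul_of_map_eq_zero e he ht η h
        exact ⟨b, rfl⟩, by
        rintro ⟨b, rfl⟩
        rw [LinearMap.toSpanSingleton_apply, map_smul, map_D_t ht, smul_zero]⟩
    obtain ⟨w, rfl⟩ := (lTensor_exact (B ⧸ Ideal.span {t ^ n}) hex
      (KaehlerDifferential.map_surjective k D B) z).mp hz
    induction w using TensorProduct.induction_on with
    | zero => exact ⟨0, by simp⟩
    | add x y hx hy =>
      obtain ⟨a, ha⟩ := hx ((lTensor_exact _ hex (KaehlerDifferential.map_surjective k D B)).apply_apply_eq_zero x)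
      obtain ⟨b, hb⟩ := hy ((lTensor_exact _ hex (KaehlerDifferential.map_surjective k D B)).apply_apply_eq_zero y)
      exact ⟨a + b, by rw [map_add, map_add, ha, hb]⟩
    | tmul c b =>
      refine ⟨b • c, ?_⟩
      rw [LinearMap.toSpanSingleton_apply, LinearMap.lTensor_tmul, LinearMap.toSpanSingleton_apply,
        TensorProduct.smul_tmul', smul_eq_mul, mul_one, TensorProduct.smul_tmul]
  · rintro ⟨c, rfl⟩
    rw [LinearMap.toSpanSingleton_apply, map_smul, LinearMap.baseChange_tmul, map_D_t ht, TensorProduct.tmul_zero,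
      smul_zero]

omit he in
theorem one_tmul_D_pow_mul {t : B} (b : B) :
    (1 : B ⧸ Ideal.span {t ^ n}) ⊗ₜ[B] KaehlerDifferential.D k B (t ^ n * b) =
      Ideal.Quotient.mk (Ideal.span {t ^ n}) (b * (n * t ^ (n - 1))) •
        ((1 : B ⧸ Ideal.span {t ^ n}) ⊗ₜ[B] KaehlerDifferential.D k B t) := by
  rw [Derivation.leibniz, TensorProduct.tmul_add, ← TensorProduct.smul_tmul,
    show t ^ n • (1 : B ⧸ Ideal.span {t ^ n}) = 0 by
      rw [Algebra.smul_def, mul_one]; exact Ideal.Quotient.eq_zero_iff_mem.mpr (Ideal.mem_span_singleton_self _),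
    TensorProduct.zero_tmul, zero_add, Derivation.leibniz_pow, TensorProduct.smul_tmul', smul_eq_mul, mul_one,
    ← Ideal.Quotient.algebraMap_eq, Algebra.algebraMap_eq_smul_one, TensorProduct.smul_tmul]
  congr 1
  simp only [← Nat.cast_smul_eq_nsmul B, ← mul_smul, mul_assoc]

omit he in
theorem map_map (b' : Ideal B) (η : Ω[B⁄k]) :
    KaehlerDifferential.map D D B (B ⧸ b') (KaehlerDifferential.map k D B B η) =
      KaehlerDifferential.map k D (B ⧸ b') (B ⧸ b') (KaehlerDifferential.map k k B (B ⧸ b') η) := by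
  have hη : η ∈ Submodule.span B (Set.range (KaehlerDifferential.D k B)) := by
    rw [KaehlerDifferential.span_range_derivation]; trivial
  induction hη using Submodule.span_induction with
  | mem x hx => obtain ⟨x, rfl⟩ := hx; simp [KaehlerDifferential.map_D]
  | zero => simp
  | add x y _ _ hx hy => simp only [map_add, hx, hy]
  | smul c x _ hx =>
    simp only [map_smul, hx]
    rw [← algebraMap_smul (B ⧸ b') c, ← algebraMap_smul (B ⧸ b') c, map_smul]

omit he in
theorem mapBaseChange_baseChange (b' : Ideal B) (z : (B ⧸ b') ⊗[B] Ω[B⁄k]) :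
    KaehlerDifferential.mapBaseChange D B (B ⧸ b') (LinearMap.baseChange (B ⧸ b') (KaehlerDifferential.map k D B B) z) =
      KaehlerDifferential.map k D (B ⧸ b') (B ⧸ b') (KaehlerDifferential.mapBaseChange k B (B ⧸ b') z) := by
  induction z using TensorProduct.induction_on with
  | zero => simp
  | add x y hx hy => simp only [map_add, hx, hy]
  | tmul c η =>
    rw [LinearMap.baseChange_tmul, KaehlerDifferential.mapBaseChange_tmul, KaehlerDifferential.mapBaseChange_tmul,
      map_smul, map_map]

end Base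

end Groth.Agent.H24Def.TruncFlat
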